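/-
Minimal simple groups of odd order: the transitivity hypothesis and its consequences.
-/
import Cfsg.Agent.Core.CoprimeAction
import Cfsg.Agent.Core.Cores
import Cfsg.Agent.Components.Signalizer
import Cfsg.Agent.Components.Transitivity
import Cfsg.Agent.OddChar.InvariantCore
import Cfsg.Prelude.Def_OddOrder
import Cfsg.Prelude.Def_OddOrderLocal

set_option autoImplicit false
set_option linter.style.haveILetI false
set_option linter.unusedSectionVars false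

namespace Cfsg.Agent.Core.BG

open Cfsg
open Cfsg.Agent.Coprime (map_conj_mem map_conj_le_iff exists_mul_of_mem_sup mem_normalizer_of_conj_mem)
open scoped commutatorElement

variable {G : Type*} [Group G] [Finite G]

/-! ### Relative cores -/

theorem piCoreOf_le (π : Set ℕ) (X : Subgroup G) : piCoreOf π X ≤ X :=
  Subgroup.map_subtype_le _

theorem isPiNat_piCoreOf (π : Set ℕ) (X : Subgroup G) : IsPiNat π (Nat.card (piCoreOf π X)) := by
  rw [piCoreOf, card_map_subtype]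
  exact isPiNat_card_piCore π X

theorem conj_mem_piCoreOf {π : Set ℕ} {X : Subgroup G} {x : G} (hx : x ∈ X) {y : G}
    (hy : y ∈ piCoreOf π X) : x * y * x⁻¹ ∈ piCoreOf π X := by
  obtain ⟨z, hz, rfl⟩ : y ∈ (piCore π X).map X.subtype := hy
  exact ⟨⟨x, hx⟩ * z * ⟨x, hx⟩⁻¹, (inferInstance : (piCore π X).Normal).conj_mem z hz _, rfl⟩

theorem le_normalizer_piCoreOf (π : Set ℕ) (X : Subgroup G) :
    X ≤ Subgroup.normalizer (piCoreOf π X : Set G) := fun _ hx =>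
  mem_normalizer_of_conj_mem fun _ hy => conj_mem_piCoreOf hx hy

theorem le_piCoreOf {π : Set ℕ} {X L : Subgroup G} (hLX : L ≤ X)
    (hn : X ≤ Subgroup.normalizer (L : Set G)) (hL : IsPiNat π (Nat.card L)) : L ≤ piCoreOf π X := by
  have h : L.subgroupOf X ≤ piCore π X :=
    le_piCore (Subgroup.normal_subgroupOf_of_le_normalizer hn) (by rwa [card_subgroupOf hLX])
  intro x hx
  exact ⟨⟨x, hLX hx⟩, h (Subgroup.mem_subgroupOf.mpr hx), rfl⟩

theorem normalizer_le_normalizer_piCoreOf (π : Set ℕ) (X : Subgroup G) :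
    Subgroup.normalizer (X : Set G) ≤ Subgroup.normalizer (piCoreOf π X : Set G) := by
  intro g hg
  refine mem_normalizer_of_conj_mem fun y hy => ?_
  refine le_piCoreOf (L := (piCoreOf π X).map (MulAut.conj g).toMonoidHom) ?_ ?_ ?_ ⟨y, hy, rfl⟩
  · exact map_conj_le_iff.mpr fun k hk => (Subgroup.mem_normalizer_iff.mp hg k).mp (piCoreOf_le π X hk)
  · intro x hx
    refine mem_normalizer_of_conj_mem fun z hz => ?_
    rw [map_conj_mem] at hz ⊢
    have hx' : g⁻¹ * x * g ∈ X := (Subgroup.mem_normalizer_iff.mp hg _).mpr (by simpa [mul_assoc] using hx)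
    have := conj_mem_piCoreOf hx' hz
    simpa [mul_assoc] using this
  · rw [Coprime.card_map_conj]
    exact isPiNat_piCoreOf π X

/-! ### Elementary facts about minimal simple groups -/

section MinSimple

variable (hG : IsMinSimpleOddOrder G)
include hG

theorem isSimpleGroup : IsSimpleGroup G := hG.2.1

theorem isSolvable_proper {H : Subgroup G} (h : H ≠ ⊤) : Group.IsSolvable H := hG.2.2.2 H h

theorem eq_bot_or_eq_top_of_normalizer {X : Subgroup G} (h : Subgroup.normalizer (X : Set G) = ⊤) :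
    X = ⊥ ∨ X = ⊤ := by
  haveI := isSimpleGroup hG
  haveI : X.Normal := Subgroup.normalizer_eq_top_iff.mp h
  exact Subgroup.Normal.eq_bot_or_eq_top inferInstance

theorem normalizer_ne_top {X : Subgroup G} (h0 : X ≠ ⊥) (h1 : X ≠ ⊤) :
    Subgroup.normalizer (X : Set G) ≠ ⊤ := fun h =>
  (eq_bot_or_eq_top_of_normalizer hG h).elim h0 h1

theorem normalizer_ne_top_of_isPGroup {q : ℕ} [Fact q.Prime] {X : Subgroup G} (h0 : X ≠ ⊥)
    (hX : IsPGroup q X) : Subgroup.normalizer (X : Set G) ≠ ⊤ := by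
  refine normalizer_ne_top hG h0 fun h => hG.2.2.1 ?_
  subst h
  haveI := isSimpleGroup hG
  haveI : Group.IsSolvable (⊤ : Subgroup G) := Coprime.isSolvable_of_isPGroup hX
  haveI : Group.IsSolvable G :=
    Group.isSolvable_of_surjective (f := (⊤ : Subgroup G).subtype) fun g => ⟨⟨g, trivial⟩, rfl⟩
  exact ⟨⟨fun a b => IsSimpleGroup.comm_iff_isSolvable.mpr ‹Group.IsSolvable G› a b⟩⟩

theorem centralizer_singleton_ne_top {e : G} (he : e ≠ 1) :
    Subgroup.centralizer ({e} : Set G) ≠ ⊤ := by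
  intro h
  haveI := isSimpleGroup hG
  have hc : e ∈ Subgroup.center G := Subgroup.mem_center_iff.mpr fun g =>
    ((Subgroup.mem_centralizer_iff.mp (h.ge (Subgroup.mem_top g))) e rfl).symm
  rcases Subgroup.Normal.eq_bot_or_eq_top (H := Subgroup.center G) inferInstance with h1 | h1
  · rw [h1, Subgroup.mem_bot] at hc; exact he hc
  · exact hG.2.2.1 ⟨⟨fun a b => ((Subgroup.mem_center_iff.mp (h1 ▸ Subgroup.mem_top a)) b).symm⟩⟩

end MinSimple

/-! ### Invariant subgroups -/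

theorem isPGroup_of_inv {q : ℕ} (hq : q.Prime) {H A Q : Subgroup G} (hQ : Q ∈ invSubgroups H A {q}) :
    IsPGroup q Q := by
  haveI := Fact.mk hq
  obtain ⟨k, hk⟩ := (isPiNat_singleton_iff hq Nat.card_pos.ne').mp hQ.2.1
  exact IsPGroup.of_card hk

theorem inv_of_isPGroup {q : ℕ} (hq : q.Prime) {A Q : Subgroup G} (hQ : IsPGroup q Q)
    (hA : A ≤ Subgroup.normalizer (Q : Set G)) : Q ∈ invSubgroups ⊤ A {q} := by
  haveI := Fact.mk hq
  obtain ⟨k, hk⟩ := IsPGroup.iff_card.mp hQ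
  exact ⟨le_top, (isPiNat_singleton_iff hq Nat.card_pos.ne').mpr ⟨k, hk⟩, hA⟩

theorem exists_maxInv_ge {q : ℕ} (hq : q.Prime) {A S : Subgroup G} (hS : IsPGroup q S)
    (hA : A ≤ Subgroup.normalizer (S : Set G)) : ∃ R ∈ maxInvSubgroups ⊤ A {q}, S ≤ R := by
  obtain ⟨R, hSR, hR, hRmax⟩ := (Set.toFinite (invSubgroups (⊤ : Subgroup G) A {q})).exists_le_maximal
    (a := S) (inv_of_isPGroup hq hS hA)
  exact ⟨R, ⟨hR, fun R' hR' hle => le_antisymm (hRmax hR' hle) hle⟩, hSR⟩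

theorem conj_one_map (Q : Subgroup G) : Q.map (MulAut.conj (1 : G)).toMonoidHom = Q := by
  rw [map_one, MulEquiv.toMonoidHom_eq_coe,
    show ((1 : MulAut G) : G →* G) = MonoidHom.id G from rfl, Subgroup.map_id]

theorem map_conj_eq_iff {Q R : Subgroup G} {k : G} :
    Q.map (MulAut.conj k).toMonoidHom = R ↔ R.map (MulAut.conj k⁻¹).toMonoidHom = Q := by
  constructor <;> rintro rfl
  · rw [Components.map_conj_map_conj, inv_mul_cancel, conj_one_map]
  · rw [Components.map_conj_map_conj, mul_inv_cancel, conj_one_map]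

theorem conj_maxInv {q : ℕ} (hq : q.Prime) {A Q : Subgroup G} {k : G}
    (hk : k ∈ Subgroup.normalizer (A : Set G))
    (hQ : Q ∈ maxInvSubgroups ⊤ A {q}) :
    Q.map (MulAut.conj k).toMonoidHom ∈ maxInvSubgroups ⊤ A {q} := by
  haveI := Fact.mk hq
  have hi : ∀ {Q : Subgroup G} {k : G}, k ∈ Subgroup.normalizer (A : Set G) → Q ∈ invSubgroups ⊤ A {q} →
      Q.map (MulAut.conj k).toMonoidHom ∈ invSubgroups ⊤ A {q} := by
    intro Q k hk hQ
    refine inv_of_isPGroup hq ((isPGroup_of_inv hq hQ).map _) fun e he => mem_normalizer_of_conj_mem fun y hy => ?_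
    rw [map_conj_mem] at hy ⊢
    have he' : k⁻¹ * e * k ∈ A := (Subgroup.mem_normalizer_iff.mp hk _).mpr (by simpa [mul_assoc] using he)
    have := (Subgroup.mem_normalizer_iff.mp (hQ.2.2 he') _).mp hy
    simpa [mul_assoc] using this
  refine ⟨hi hk hQ.1, fun R hR hle => ?_⟩
  have h := hQ.2 _ (hi (inv_mem hk) hR) (by
    have h' := Subgroup.map_mono (f := (MulAut.conj k⁻¹).toMonoidHom) hle
    rwa [Components.map_conj_map_conj, inv_mul_cancel, conj_one_map] at h')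
  exact (map_conj_eq_iff.mpr h).symm

/-- A proper subgroup of a `q`-group grows inside its normalizer. -/
theorem exists_mem_normalizer_notMem {q : ℕ} [Fact q.Prime] {D Q : Subgroup G} (hQ : IsPGroup q Q)
    (h : D < Q) : ∃ x ∈ Subgroup.normalizer (D : Set G) ⊓ Q, x ∉ D := by
  haveI := hQ.isNilpotent
  have hlt : D.subgroupOf Q < ⊤ := lt_top_iff_ne_top.mpr fun h' => h.not_ge (Subgroup.subgroupOf_eq_top.mp h')
  obtain ⟨z, hzn, hz⟩ := SetLike.exists_of_lt (Group.normalizerCondition_of_isNilpotent _ hlt)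
  refine ⟨z, ⟨mem_normalizer_of_conj_mem fun y hy => ?_, z.2⟩, hz⟩
  exact (Subgroup.mem_normalizer_iff.mp hzn ⟨y, h.le hy⟩).mp hy

theorem le_normalizer_inf_of {A X Q : Subgroup G} (hX : A ≤ X) (hQ : A ≤ Subgroup.normalizer (Q : Set G)) :
    A ≤ Subgroup.normalizer ((X ⊓ Q : Subgroup G) : Set G) :=
  (le_inf (hX.trans Subgroup.le_normalizer) hQ).trans Subgroup.inf_normalizer_le_normalizer_inf

/-! ### The transitivity hypothesis -/

variable {A : Subgroup G}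

theorem le_core (hA : TransitivityHypothesis A) {X L : Subgroup G} (hX : X ≠ ⊤) (hAX : A ≤ X)
    (hLX : L ≤ X) (hL : IsPiNat (primesNotDvd (Nat.card A)) (Nat.card L))
    (hAL : A ≤ Subgroup.normalizer (L : Set G)) : L ≤ piCoreOf (primesNotDvd (Nat.card A)) X := by
  rw [← hA.2.2 X hX hAX]
  exact le_sSup ⟨hLX, hL, hAL⟩

theorem isPiNat_of_pGroup {q : ℕ} (hq : q.Prime) (hqA : ¬ q ∣ Nat.card A) {Q : Subgroup G}
    (hQ : IsPGroup q Q) : IsPiNat (primesNotDvd (Nat.card A)) (Nat.card Q) := by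
  haveI := Fact.mk hq
  obtain ⟨k, hk⟩ := IsPGroup.iff_card.mp hQ
  rw [hk]
  exact isPiNat_prime_pow hq (show q ∈ primesNotDvd (Nat.card A) from ⟨hq, hqA⟩) k

theorem coprime_of_isPiNat {n : ℕ} (h : IsPiNat (primesNotDvd (Nat.card A)) n) :
    (Nat.card A).Coprime n :=
  Nat.coprime_of_dvd fun r hr h1 h2 => (h r hr h2).2 h1

theorem centralizer_le_normalizer' (A : Subgroup G) :
    Subgroup.centralizer (A : Set G) ≤ Subgroup.normalizer (A : Set G) :=
  Subgroup.centralizer_le_normalizer _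

theorem inv_le_K (hG : IsMinSimpleOddOrder G) (hA : TransitivityHypothesis A) {L : Subgroup G}
    (hL : L ≤ Subgroup.centralizer (A : Set G))
    (hπ : IsPiNat (primesNotDvd (Nat.card A)) (Nat.card L)) :
    L ≤ piCoreOf (primesNotDvd (Nat.card A)) (Subgroup.centralizer (A : Set G)) := by
  set C := Subgroup.centralizer (A : Set G)
  set π := primesNotDvd (Nat.card A)
  have hX : A ⊔ C ≤ Subgroup.normalizer (A : Set G) :=
    sup_le Subgroup.le_normalizer (centralizer_le_normalizer' A)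
  have hXtop : A ⊔ C ≠ ⊤ := fun h => normalizer_ne_top hG hA.1 hA.2.1 (top_le_iff.mp (h ▸ hX))
  have hAL : A ≤ Subgroup.normalizer (L : Set G) := fun a ha => mem_normalizer_of_conj_mem fun y hy => by
    rw [Subgroup.mem_centralizer_iff.mp (hL hy) a ha, mul_inv_cancel_right]
    exact hy
  have h1 := le_core hA hXtop le_sup_left (hL.trans le_sup_right) hπ hAL
  have h2 : piCoreOf π (A ⊔ C) ⊓ C ≤ piCoreOf π C :=
    le_piCoreOf inf_le_right
      ((le_inf (le_sup_right.trans (le_normalizer_piCoreOf π _)) Subgroup.le_normalizer).trans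
        Subgroup.inf_normalizer_le_normalizer_inf)
      ((isPiNat_piCoreOf π _).of_dvd (Subgroup.card_dvd_of_le inf_le_left))
  exact (le_inf h1 hL).trans h2

section Transitive

variable (hG : IsMinSimpleOddOrder G) (hA : TransitivityHypothesis A) {q : ℕ} (hq : q.Prime)
  (hqA : ¬ q ∣ Nat.card A)
include hG hA hq hqA

/-- One step: conjugate invariant Sylow subgroups of the core of a common proper overgroup. -/
theorem step {H : Subgroup G} (hH : H ≠ ⊤) (hAH : A ≤ H) {U₁ U₂ : Subgroup G}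
    (hU₁ : IsPGroup q U₁) (hU₂ : IsPGroup q U₂) (hU₁H : U₁ ≤ H) (hU₂H : U₂ ≤ H)
    (hA₁ : A ≤ Subgroup.normalizer (U₁ : Set G)) (hA₂ : A ≤ Subgroup.normalizer (U₂ : Set G)) :
    ∃ c ∈ piCoreOf (primesNotDvd (Nat.card A)) (Subgroup.centralizer (A : Set G)),
      ∃ R ∈ maxInvSubgroups ⊤ A {q}, U₁ ≤ R ∧ U₂ ≤ R.map (MulAut.conj c).toMonoidHom := by
  haveI := Fact.mk hq
  set π := primesNotDvd (Nat.card A)
  set Y := piCoreOf π H
  have hYA : A ≤ Subgroup.normalizer (Y : Set G) := hAH.trans (le_normalizer_piCoreOf π H)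
  have hcop : (Nat.card A).Coprime (Nat.card Y) := coprime_of_isPiNat (isPiNat_piCoreOf π H)
  have hs : Group.IsSolvable A ∨ Group.IsSolvable Y := Or.inl (isSolvable_proper hG hA.2.1)
  have h₁ : U₁ ≤ Y := le_core hA hH hAH hU₁H (isPiNat_of_pGroup hq hqA hU₁) hA₁
  have h₂ : U₂ ≤ Y := le_core hA hH hAH hU₂H (isPiNat_of_pGroup hq hqA hU₂) hA₂
  obtain ⟨S₁, hUS₁, hSY₁, hS₁, hSi₁, hSA₁⟩ := exists_invariant_sylow_ge hYA hs hcop h₁ hU₁ hA₁
  obtain ⟨S₂, hUS₂, hSY₂, hS₂, hSi₂, hSA₂⟩ := exists_invariant_sylow_ge hYA hs hcop h₂ hU₂ hA₂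
  obtain ⟨c, hc, hce⟩ := exists_conj_invariant_sylow hYA hs hcop hSY₁ hSY₂ hS₁ hS₂ hSi₁ hSi₂ hSA₁ hSA₂
  obtain ⟨R, hR, hSR⟩ := exists_maxInv_ge hq hS₁ hSA₁
  refine ⟨c, inv_le_K hG hA (L := Y ⊓ Subgroup.centralizer (A : Set G)) inf_le_right
    ((isPiNat_piCoreOf π H).of_dvd (Subgroup.card_dvd_of_le inf_le_left)) hc, R, hR, hUS₁.trans hSR, ?_⟩
  exact hUS₂.trans (hce ▸ Subgroup.map_mono hSR)

theorem conj_of_inf_ne_bot : ∀ (n : ℕ) (Q₁ Q₂ : Subgroup G), Q₁ ∈ maxInvSubgroups ⊤ A {q} →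
    Q₂ ∈ maxInvSubgroups ⊤ A {q} → Q₁ ⊓ Q₂ ≠ ⊥ → Nat.card G - Nat.card ↥(Q₁ ⊓ Q₂) = n →
    ∃ k ∈ piCoreOf (primesNotDvd (Nat.card A)) (Subgroup.centralizer (A : Set G)),
      Q₁.map (MulAut.conj k).toMonoidHom = Q₂ := by
  haveI := Fact.mk hq
  intro n
  induction n using Nat.strong_induction_on with
  | _ n IH =>
    intro Q₁ Q₂ h₁ h₂ hne hn
    by_cases hD₁ : Q₁ ⊓ Q₂ = Q₁
    · exact ⟨1, one_mem _, by rw [conj_one_map, h₁.2 Q₂ h₂.1 (inf_eq_left.mp hD₁)]⟩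
    by_cases hD₂ : Q₁ ⊓ Q₂ = Q₂
    · exact ⟨1, one_mem _, by rw [conj_one_map]; exact h₂.2 Q₁ h₁.1 (inf_eq_right.mp hD₂)⟩
    set D := Q₁ ⊓ Q₂ with hD
    have hq₁ := isPGroup_of_inv hq h₁.1
    have hq₂ := isPGroup_of_inv hq h₂.1
    set X := Subgroup.normalizer (D : Set G) with hX
    have hAX : A ≤ X := (le_inf h₁.1.2.2 h₂.1.2.2).trans Subgroup.inf_normalizer_le_normalizer_inf
    have hXtop : X ≠ ⊤ := normalizer_ne_top_of_isPGroup hG hne (hq₁.to_le inf_le_left)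
    obtain ⟨x₁, hx₁, hx₁D⟩ := exists_mem_normalizer_notMem hq₁ (lt_of_le_of_ne inf_le_left hD₁)
    obtain ⟨x₂, hx₂, hx₂D⟩ := exists_mem_normalizer_notMem hq₂ (lt_of_le_of_ne inf_le_right hD₂)
    have hDX : D ≤ X := Subgroup.le_normalizer
    obtain ⟨c, hc, R, hR, hR₁, hR₂⟩ := step hG hA hq hqA hXtop hAX
      (hq₁.to_le inf_le_right : IsPGroup q ↥(X ⊓ Q₁)) (hq₂.to_le inf_le_right : IsPGroup q ↥(X ⊓ Q₂))
      inf_le_left inf_le_left (le_normalizer_inf_of hAX h₁.1.2.2) (le_normalizer_inf_of hAX h₂.1.2.2)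
    have hcN : c ∈ Subgroup.normalizer (A : Set G) :=
      centralizer_le_normalizer' A (piCoreOf_le _ _ hc)
    have key : ∀ U V : Subgroup G, U ∈ maxInvSubgroups ⊤ A {q} → V ∈ maxInvSubgroups ⊤ A {q} →
        D ≤ U ⊓ V → (∃ x ∈ U ⊓ V, x ∉ D) →
        ∃ k ∈ piCoreOf (primesNotDvd (Nat.card A)) (Subgroup.centralizer (A : Set G)),
          U.map (MulAut.conj k).toMonoidHom = V := by
      rintro U V hU hV hle ⟨x, hx, hxD⟩
      have hlt : D < U ⊓ V := lt_of_le_of_ne hle fun h => hxD (h ▸ hx)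
      refine IH _ ?_ U V hU hV (fun h => hne (le_bot_iff.mp (h ▸ hle))) rfl
      rw [← hn]
      have := Set.ncard_lt_ncard (SetLike.coe_ssubset_coe.mpr hlt) (Set.toFinite _)
      rw [← Nat.card_coe_set_eq, ← Nat.card_coe_set_eq] at this
      have h2 := Subgroup.card_le_card_group (U ⊓ V)
      simp only [SetLike.coe_sort_coe] at this
      omega
    obtain ⟨k₁, hk₁, e₁⟩ := key Q₁ R h₁ hR
      (le_inf inf_le_left ((le_inf hDX inf_le_left).trans hR₁)) ⟨x₁, ⟨hx₁.2, hR₁ hx₁⟩, hx₁D⟩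
    obtain ⟨k₂, hk₂, e₂⟩ := key (R.map (MulAut.conj c).toMonoidHom) Q₂ (conj_maxInv hq hcN hR) h₂
      (le_inf ((le_inf hDX inf_le_right).trans hR₂) inf_le_right) ⟨x₂, ⟨hR₂ hx₂, hx₂.2⟩, hx₂D⟩
    refine ⟨k₂ * c * k₁, mul_mem (mul_mem hk₂ hc) hk₁, ?_⟩
    rw [← e₂, ← e₁, Components.map_conj_map_conj, Components.map_conj_map_conj, mul_assoc]

/-- Maximal invariant subgroups meeting a common proper overgroup of `A` are `K`-conjugate. -/
theorem conj_of_common_overgroup {Q₁ Q₂ : Subgroup G} (h₁ : Q₁ ∈ maxInvSubgroups ⊤ A {q})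
    (h₂ : Q₂ ∈ maxInvSubgroups ⊤ A {q}) {H : Subgroup G} (hH : H ≠ ⊤) (hAH : A ≤ H)
    (hH₁ : H ⊓ Q₁ ≠ ⊥) (hH₂ : H ⊓ Q₂ ≠ ⊥) :
    ∃ k ∈ piCoreOf (primesNotDvd (Nat.card A)) (Subgroup.centralizer (A : Set G)),
      Q₂ = Q₁.map (MulAut.conj k).toMonoidHom := by
  haveI := Fact.mk hq
  obtain ⟨c, hc, R, hR, hR₁, hR₂⟩ := step hG hA hq hqA hH hAH
    ((isPGroup_of_inv hq h₁.1).to_le inf_le_right : IsPGroup q ↥(H ⊓ Q₁))
    ((isPGroup_of_inv hq h₂.1).to_le inf_le_right : IsPGroup q ↥(H ⊓ Q₂))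
    inf_le_left inf_le_left (le_normalizer_inf_of hAH h₁.1.2.2) (le_normalizer_inf_of hAH h₂.1.2.2)
  have hcN : c ∈ Subgroup.normalizer (A : Set G) :=
    centralizer_le_normalizer' A (piCoreOf_le _ _ hc)
  obtain ⟨k₁, hk₁, e₁⟩ := conj_of_inf_ne_bot hG hA hq hqA _ Q₁ R h₁ hR
    (fun h => hH₁ (le_bot_iff.mp (h ▸ le_inf inf_le_right hR₁))) rfl
  obtain ⟨k₂, hk₂, e₂⟩ := conj_of_inf_ne_bot hG hA hq hqA _ (R.map (MulAut.conj c).toMonoidHom) Q₂
    (conj_maxInv hq hcN hR) h₂ (fun h => hH₂ (le_bot_iff.mp (h ▸ le_inf hR₂ inf_le_right))) rfl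
  refine ⟨k₂ * c * k₁, mul_mem (mul_mem hk₂ hc) hk₁, ?_⟩
  rw [← e₂, ← e₁, Components.map_conj_map_conj, Components.map_conj_map_conj, mul_assoc]

end Transitive

/-! ### Elementary abelian subgroups of the centre -/

theorem exists_ea_of_not_rankLE {k : ℕ} {A : Subgroup G}
    (hZ : ¬ RankLE k ↥(A ⊓ Subgroup.centralizer (A : Set G))) :
    ∃ (r : ℕ) (E : Subgroup G), r.Prime ∧ IsElementaryAbelian r E ∧
      E ≤ A ⊓ Subgroup.centralizer (A : Set G) ∧ r ^ (k + 1) ≤ Nat.card E := by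
  set Z := A ⊓ Subgroup.centralizer (A : Set G)
  simp only [RankLE, not_forall] at hZ
  obtain ⟨r, hr, hR⟩ := hZ
  haveI := Fact.mk hr
  simp only [PRankLE, not_forall, not_le] at hR
  obtain ⟨B, hBc, hBr, hBcard⟩ := hR
  set E := B.map Z.subtype
  have hB : IsPGroup r B := fun b => ⟨1, Subtype.ext (by rw [pow_one]; exact hBr b b.2)⟩
  refine ⟨r, E, hr, ⟨⟨⟨?_⟩⟩, ?_⟩, Subgroup.map_subtype_le B, ?_⟩
  · rintro ⟨_, a, ha, rfl⟩ ⟨_, b, hb, rfl⟩
    exact Subtype.ext (congrArg (fun z : B => (((z : Z) : G))) (hBc.is_comm.comm ⟨a, ha⟩ ⟨b, hb⟩))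
  · rintro _ ⟨a, ha, rfl⟩
    rw [← map_pow, hBr a ha, map_one]
  · rw [card_map_subtype]
    obtain ⟨n, hn⟩ := IsPGroup.iff_card.mp hB
    rw [hn] at hBcard ⊢
    exact Nat.pow_le_pow_right hr.pos ((Nat.pow_lt_pow_iff_right hr.one_lt).mp hBcard)

theorem exists_hyperplane {r : ℕ} [Fact r.Prime] {E Q : Subgroup G} (hE : IsElementaryAbelian r E)
    (hQ : ¬ r ∣ Nat.card Q) (hEQ : E ≤ Subgroup.normalizer (Q : Set G)) (hne : Q ≠ ⊥) :
    ∃ B : Subgroup G, B ≤ E ∧ B.relIndex E ≤ r ∧ Q ⊓ Subgroup.centralizer (B : Set G) ≠ ⊥ := by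
  by_contra! h
  refine hne ((Components.le_iSup_hyperplanes hE hQ hEQ).trans (eq_bot_iff.mpr (iSup_le fun B => ?_)))
  rw [h B.1 B.2.1 B.2.2]

theorem inf_centralizer_singleton_ne_bot {B Q : Subgroup G} {e : G} (he : e ∈ B)
    (h : Q ⊓ Subgroup.centralizer (B : Set G) ≠ ⊥) : Subgroup.centralizer ({e} : Set G) ⊓ Q ≠ ⊥ := by
  intro hbot
  refine h (le_bot_iff.mp (le_trans (le_inf ?_ inf_le_left) hbot.le))
  exact inf_le_right.trans (Subgroup.centralizer_le (by simpa using he))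

section Rank

variable (hG : IsMinSimpleOddOrder G) (hA : TransitivityHypothesis A) {q : ℕ} (hq : q.Prime)
  (hqA : ¬ q ∣ Nat.card A)
include hG hA hq hqA

theorem not_dvd_inv {Q : Subgroup G} {r : ℕ} (hr : r.Prime) (hrA : r ∣ Nat.card A)
    (hQ : Q ∈ maxInvSubgroups ⊤ A {q}) : ¬ r ∣ Nat.card Q := fun h =>
  (isPiNat_of_pGroup hq hqA (isPGroup_of_inv hq hQ.1) r hr h).2 hrA

theorem transitive_of_center_rank_three (hZ : ¬ RankLE 2 ↥(A ⊓ Subgroup.centralizer (A : Set G))) :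
    ∀ Q₁ ∈ maxInvSubgroups ⊤ A {q}, ∀ Q₂ ∈ maxInvSubgroups ⊤ A {q},
      ∃ k ∈ piCoreOf (primesNotDvd (Nat.card A)) (Subgroup.centralizer (A : Set G)),
        Q₂ = Q₁.map (MulAut.conj k).toMonoidHom := by
  intro Q₁ h₁ Q₂ h₂
  obtain ⟨r, E, hr, hE, hEZ, hEcard⟩ := exists_ea_of_not_rankLE hZ
  haveI := Fact.mk hr
  have hEA : E ≤ A := hEZ.trans inf_le_left
  have hrA : r ∣ Nat.card A := by
    refine dvd_trans ?_ (Subgroup.card_dvd_of_le hEA)
    obtain ⟨n, hn⟩ := IsPGroup.iff_card.mp (Components.ea_isPGroup hE)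
    rw [hn] at hEcard ⊢
    exact dvd_pow_self r (by have := (Nat.pow_le_pow_iff_right hr.one_lt).mp hEcard; omega)
  by_cases hb₁ : Q₁ = ⊥
  · exact ⟨1, one_mem _, by rw [conj_one_map]; exact h₁.2 Q₂ h₂.1 (hb₁ ▸ bot_le)⟩
  by_cases hb₂ : Q₂ = ⊥
  · exact ⟨1, one_mem _, by rw [conj_one_map]; exact (h₂.2 Q₁ h₁.1 (hb₂ ▸ bot_le)).symm⟩
  obtain ⟨B₁, hB₁, hi₁, hc₁⟩ := exists_hyperplane hE (not_dvd_inv hG hA hq hqA hr hrA h₁)
    (hEA.trans h₁.1.2.2) hb₁
  obtain ⟨B₂, hB₂, hi₂, hc₂⟩ := exists_hyperplane hE (not_dvd_inv hG hA hq hqA hr hrA h₂)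
    (hEA.trans h₂.1.2.2) hb₂
  have hne : B₁ ⊓ B₂ ≠ ⊥ := by
    intro h
    have h1 : (B₁ ⊓ B₂).relIndex E ≤ r * r :=
      Subgroup.relIndex_inf_le.trans (Nat.mul_le_mul hi₁ hi₂)
    rw [h, Subgroup.relIndex_bot_left] at h1
    have : r ^ 3 ≤ r ^ 2 := (hEcard.trans h1).trans (by rw [pow_two])
    exact absurd ((Nat.pow_le_pow_iff_right hr.one_lt).mp this) (by omega)
  obtain ⟨e, he, he1⟩ := (B₁ ⊓ B₂).bot_or_exists_ne_one.resolve_left hne
  refine conj_of_common_overgroup hG hA hq hqA h₁ h₂ (centralizer_singleton_ne_top hG he1) ?_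
    (inf_centralizer_singleton_ne_bot he.1 hc₁) (inf_centralizer_singleton_ne_bot he.2 hc₂)
  intro a ha
  rw [Subgroup.mem_centralizer_singleton_iff]
  exact Subgroup.mem_centralizer_iff.mp (hEZ (hB₁ he.1)).2 a ha

theorem transitive_of_center_rank_two (hZ : ¬ RankLE 1 ↥(A ⊓ Subgroup.centralizer (A : Set G)))
    (hqC : q ∣ Nat.card (Subgroup.centralizer (A : Set G))) :
    ∀ Q₁ ∈ maxInvSubgroups ⊤ A {q}, ∀ Q₂ ∈ maxInvSubgroups ⊤ A {q},
      ∃ k ∈ piCoreOf (primesNotDvd (Nat.card A)) (Subgroup.centralizer (A : Set G)),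
        Q₂ = Q₁.map (MulAut.conj k).toMonoidHom := by
  haveI := Fact.mk hq
  intro Q₁ h₁ Q₂ h₂
  obtain ⟨r, E, hr, hE, hEZ, hEcard⟩ := exists_ea_of_not_rankLE hZ
  haveI := Fact.mk hr
  have hEA : E ≤ A := hEZ.trans inf_le_left
  have hrA : r ∣ Nat.card A := by
    refine dvd_trans ?_ (Subgroup.card_dvd_of_le hEA)
    obtain ⟨n, hn⟩ := IsPGroup.iff_card.mp (Components.ea_isPGroup hE)
    rw [hn] at hEcard ⊢
    exact dvd_pow_self r (by have := (Nat.pow_le_pow_iff_right hr.one_lt).mp hEcard; omega)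
  obtain ⟨⟨x, hxC⟩, hx⟩ := exists_prime_orderOf_dvd_card' q hqC
  have hxo : orderOf x = q := by rw [← hx, Subgroup.orderOf_mk]
  have hxq : IsPGroup q (Subgroup.zpowers x) :=
    IsPGroup.of_card (n := 1) (by rw [Nat.card_zpowers, hxo, pow_one])
  obtain ⟨Q₃, h₃, hxQ⟩ := exists_maxInv_ge hq hxq (A := A) fun a ha =>
    mem_normalizer_of_conj_mem fun y hy => by
      rw [Subgroup.mem_centralizer_iff.mp ((Subgroup.zpowers_le.mpr hxC) hy) a ha, mul_inv_cancel_right]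
      exact hy
  have hx1 : x ≠ 1 := fun h => hq.one_lt.ne' (by rw [← hxo, h, orderOf_one])
  have hQ₃ : x ∈ Q₃ := hxQ (Subgroup.mem_zpowers x)
  have key : ∀ Q ∈ maxInvSubgroups ⊤ A {q},
      ∃ k ∈ piCoreOf (primesNotDvd (Nat.card A)) (Subgroup.centralizer (A : Set G)),
        Q₃ = Q.map (MulAut.conj k).toMonoidHom := by
    intro Q hQ
    have hne : Q ≠ ⊥ := fun h => hx1 (Subgroup.mem_bot.mp (h ▸ (hQ.2 Q₃ h₃.1 (h ▸ bot_le)) ▸ hQ₃))
    obtain ⟨B, hB, hi, hc⟩ := exists_hyperplane hE (not_dvd_inv hG hA hq hqA hr hrA hQ)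
      (hEA.trans hQ.1.2.2) hne
    have hBne : B ≠ ⊥ := by
      rintro rfl
      rw [Subgroup.relIndex_bot_left] at hi
      have : r ^ 2 ≤ r ^ 1 := (hEcard.trans hi).trans (pow_one r).ge
      exact absurd ((Nat.pow_le_pow_iff_right hr.one_lt).mp this) (by omega)
    obtain ⟨e, he, he1⟩ := B.bot_or_exists_ne_one.resolve_left hBne
    have heZ : ∀ a ∈ A, a * e = e * a := fun a ha =>
      Subgroup.mem_centralizer_iff.mp (hEZ (hB he)).2 a ha
    refine conj_of_common_overgroup hG hA hq hqA hQ h₃ (centralizer_singleton_ne_top hG he1)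
      (fun a ha => Subgroup.mem_centralizer_singleton_iff.mpr (heZ a ha))
      (inf_centralizer_singleton_ne_bot he hc) fun h => hx1 (Subgroup.mem_bot.mp (h ▸ ⟨?_, hQ₃⟩))
    exact Subgroup.mem_centralizer_singleton_iff.mpr (Subgroup.mem_centralizer_iff.mp hxC e (hEA (hB he))).symm
  obtain ⟨k₁, hk₁, e₁⟩ := key Q₁ h₁
  obtain ⟨k₂, hk₂, e₂⟩ := key Q₂ h₂
  refine ⟨k₂⁻¹ * k₁, mul_mem (inv_mem hk₂) hk₁, ?_⟩
  rw [← Components.map_conj_map_conj, ← e₁, e₂, Components.map_conj_map_conj, inv_mul_cancel, conj_one_map]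

end Rank

/-! ### Passing to an overgroup -/

theorem transitivityHypothesis_overgroup (hA : TransitivityHypothesis A) {B : Subgroup G}
    (hB : B ≠ ⊤) (hAB : A ≤ B) (hπ : ∀ r : ℕ, r.Prime → r ∣ Nat.card B → r ∣ Nat.card A) :
    TransitivityHypothesis B ∧ primesNotDvd (Nat.card B) = primesNotDvd (Nat.card A) := by
  have hset : primesNotDvd (Nat.card B) = primesNotDvd (Nat.card A) := by
    ext r
    exact and_congr_right fun hr =>
      not_congr ⟨hπ r hr, fun h => h.trans (Subgroup.card_dvd_of_le hAB)⟩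
  refine ⟨⟨fun h => hA.1 (le_bot_iff.mp (h ▸ hAB)), hB, fun X hX hBX => ?_⟩, hset⟩
  rw [hset]
  refine le_antisymm (sSup_le fun L hL => ?_) (le_sSup ⟨piCoreOf_le _ _, isPiNat_piCoreOf _ _,
    hBX.trans (le_normalizer_piCoreOf _ _)⟩)
  exact le_core hA hX (hAB.trans hBX) hL.1 hL.2.1 (hAB.trans hL.2.2)

/-- The property transported along a subnormal chain. -/
def Descends (q : ℕ) (A B : Subgroup G) : Prop :=
  maxInvSubgroups ⊤ B {q} ⊆ maxInvSubgroups ⊤ A {q} ∧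
    ∀ Q₁ ∈ maxInvSubgroups ⊤ B {q}, ∀ Q₂ ∈ maxInvSubgroups ⊤ B {q},
      ∃ k ∈ piCoreOf (primesNotDvd (Nat.card B)) (Subgroup.centralizer (B : Set G)),
        Q₂ = Q₁.map (MulAut.conj k).toMonoidHom

theorem descends_step (hG : IsMinSimpleOddOrder G) (hA : TransitivityHypothesis A)
    {q : ℕ} (hq : q.Prime) (hqA : ¬ q ∣ Nat.card A) {B : Subgroup G} (hB : B ≠ ⊤) (hAB : A ≤ B)
    (hn : B ≤ Subgroup.normalizer (A : Set G))
    (hπ : ∀ r : ℕ, r.Prime → r ∣ Nat.card B → r ∣ Nat.card A)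
    (htr : ∀ Q₁ ∈ maxInvSubgroups ⊤ A {q}, ∀ Q₂ ∈ maxInvSubgroups ⊤ A {q},
      ∃ k ∈ piCoreOf (primesNotDvd (Nat.card A)) (Subgroup.centralizer (A : Set G)),
        Q₂ = Q₁.map (MulAut.conj k).toMonoidHom) :
    Descends q A B := by
  haveI := Fact.mk hq
  obtain ⟨hBT, hset⟩ := transitivityHypothesis_overgroup hA hB hAB hπ
  have hqB : ¬ q ∣ Nat.card B := fun h => hqA (hπ q hq h)
  set π := primesNotDvd (Nat.card A)
  set C := Subgroup.centralizer (A : Set G) with hC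
  set K := piCoreOf π C
  have hBC : B ≤ Subgroup.normalizer (C : Set G) := fun b hb => by
    refine mem_normalizer_of_conj_mem fun y hy => ?_
    rw [hC, Coprime.mem_centralizer_iff_conj] at hy ⊢
    intro a ha
    have h1 : b⁻¹ * a * b ∈ A := (Subgroup.mem_normalizer_iff.mp (hn hb) _).mpr (by simpa [mul_assoc] using ha)
    calc b * y * b⁻¹ * a * (b * y * b⁻¹)⁻¹ = b * (y * (b⁻¹ * a * b) * y⁻¹) * b⁻¹ := by group
      _ = a := by rw [hy _ h1]; group
  have hBK : B ≤ Subgroup.normalizer (K : Set G) := hBC.trans (normalizer_le_normalizer_piCoreOf π C)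
  have hcop : (Nat.card B).Coprime (Nat.card K) :=
    coprime_of_isPiNat (by rw [hset]; exact isPiNat_piCoreOf π C)
  have hs : Group.IsSolvable B ∨ Group.IsSolvable K := Or.inl (isSolvable_proper hG hB)
  have hKN : K ≤ Subgroup.normalizer (A : Set G) :=
    (piCoreOf_le π C).trans (centralizer_le_normalizer' A)
  -- a fixed member
  obtain ⟨Q₀, h₀, -⟩ := exists_maxInv_ge hq (A := A) (IsPGroup.of_bot : IsPGroup q (⊥ : Subgroup G))
    (le_top.trans (Subgroup.normalizer_eq_top ⊥).ge)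
  have hfr : ∀ b ∈ B, ∃ k ∈ K, k * b ∈ Subgroup.normalizer (Q₀ : Set G) := fun b hb => by
    obtain ⟨k, hk, hke⟩ := htr Q₀ h₀ _ (conj_maxInv hq (hn hb) h₀)
    refine ⟨k⁻¹, inv_mem hk, Subgroup.mem_normalizer_iff_map_conj_eq.mpr ?_⟩
    refine (Components.map_conj_map_conj Q₀ b k⁻¹).symm.trans ?_
    rw [hke, Components.map_conj_map_conj, inv_mul_cancel, conj_one_map]
  obtain ⟨x, hx, hxB⟩ := exists_conj_le hBK hs hcop hfr
  -- every maximal `B`-invariant subgroup is maximal `A`-invariant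
  have hsub : maxInvSubgroups ⊤ B {q} ⊆ maxInvSubgroups ⊤ A {q} := by
    intro R hR
    have hRq := isPGroup_of_inv hq hR.1
    by_cases hR0 : R = ⊥
    · subst hR0
      set F := Q₀.map (MulAut.conj x⁻¹).toMonoidHom with hF
      have hFmax : F ∈ maxInvSubgroups ⊤ A {q} := conj_maxInv hq (hKN (inv_mem hx)) h₀
      have hFB : B ≤ Subgroup.normalizer (F : Set G) := fun b hb => mem_normalizer_of_conj_mem fun y hy => by
        rw [hF, map_conj_mem] at hy ⊢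
        have := (Subgroup.mem_normalizer_iff.mp (hxB b hb) _).mp hy
        simpa [mul_assoc] using this
      have : F = ⊥ := hR.2 F (inv_of_isPGroup hq (isPGroup_of_inv hq hFmax.1) hFB) bot_le
      exact this ▸ hFmax
    obtain ⟨Q, hQ, hRQ⟩ := exists_maxInv_ge hq hRq (hAB.trans hR.1.2.2)
    by_cases hQR : R = Q
    · exact hQR ▸ hQ
    exfalso
    obtain ⟨z, hz, hzR⟩ := exists_mem_normalizer_notMem (isPGroup_of_inv hq hQ.1) (lt_of_le_of_ne hRQ hQR)
    set X := Subgroup.normalizer (R : Set G) with hX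
    have hBX : B ≤ X := hR.1.2.2
    have hXtop : X ≠ ⊤ := normalizer_ne_top_of_isPGroup hG hR0 hRq
    set Y := piCoreOf π X
    have hU : X ⊓ Q ≤ Y := le_core hA hXtop (hAB.trans hBX) inf_le_left
      (isPiNat_of_pGroup hq hqA ((isPGroup_of_inv hq hQ.1).to_le inf_le_right))
      (le_normalizer_inf_of (hAB.trans hBX) hQ.1.2.2)
    have hBY : B ≤ Subgroup.normalizer (Y : Set G) := hBX.trans (le_normalizer_piCoreOf π X)
    have hcopY : (Nat.card B).Coprime (Nat.card Y) :=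
      coprime_of_isPiNat (by rw [hset]; exact isPiNat_piCoreOf π X)
    have hRY : R ≤ Y := le_piCoreOf Subgroup.le_normalizer le_rfl (isPiNat_of_pGroup hq hqA hRq)
    obtain ⟨S, hRS, hSY, hS, hSi, hSB⟩ := exists_invariant_sylow_ge hBY
      (Or.inl (isSolvable_proper hG hB)) hcopY hRY hRq hR.1.2.2
    have hSR : S = R := hR.2 S (inv_of_isPGroup hq hS hSB) hRS
    rw [hSR] at hSi
    haveI : (R.subgroupOf Y).Normal :=
      Subgroup.normal_subgroupOf_of_le_normalizer (piCoreOf_le π X)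
    have hzY : z ∈ Y := hU hz
    have hzS : (⟨z, hzY⟩ : Y) ∈ R.subgroupOf Y := by
      refine le_of_coprime_index (N := R.subgroupOf Y) (H := Subgroup.zpowers (⟨z, hzY⟩ : Y)) ?_
        (Subgroup.mem_zpowers _)
      obtain ⟨j, hj⟩ := isPGroup_of_inv hq hQ.1 ⟨z, hz.2⟩
      obtain ⟨i, -, hi⟩ := (Nat.dvd_prime_pow hq).mp
        (orderOf_dvd_of_pow_eq_one (x := (⟨z, hzY⟩ : Y)) (n := q ^ j)
          (Subtype.ext (congrArg (fun w : Q => (w : G)) hj)))
      rw [Nat.card_zpowers, hi]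
      exact Nat.Coprime.pow_left i ((Nat.Prime.coprime_iff_not_dvd hq).mpr hSi)
    exact hzR hzS
  refine ⟨hsub, fun R₁ h₁ R₂ h₂ => ?_⟩
  obtain ⟨k, hk, hke⟩ := htr R₁ (hsub h₁) R₂ (hsub h₂)
  obtain ⟨s, hs', c, hc, hse⟩ := exists_mem_centralizer_of_conj_le hBK hs hcop
    (S := Subgroup.normalizer (R₁ : Set G)) h₁.1.2.2 (inv_mem hk) fun b hb => by
      refine mem_normalizer_of_conj_mem fun y hy => ?_
      have h1 : k * y * k⁻¹ ∈ R₂ := by rw [hke, map_conj_mem]; simpa [mul_assoc] using hy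
      have h2 := (Subgroup.mem_normalizer_iff.mp (h₂.1.2.2 hb) _).mp h1
      rw [hke, map_conj_mem] at h2
      simpa [mul_assoc] using h2
  refine ⟨c⁻¹, inv_le_K hG hBT (L := K ⊓ Subgroup.centralizer (B : Set G)) inf_le_right
    (by rw [hset]; exact (isPiNat_piCoreOf π C).of_dvd (Subgroup.card_dvd_of_le inf_le_left))
    (inv_mem hc), ?_⟩
  rw [hke, show k = c⁻¹ * s⁻¹ by rw [← mul_inv_rev, ← hse, inv_inv], ← Components.map_conj_map_conj,
    show R₁.map (MulAut.conj s⁻¹).toMonoidHom = R₁ from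
      Subgroup.mem_normalizer_iff_map_conj_eq.mp (inv_mem hs'.2)]

theorem descends_subnormal (hG : IsMinSimpleOddOrder G) (hA : TransitivityHypothesis A)
    {q : ℕ} (hq : q.Prime) (hqA : ¬ q ∣ Nat.card A)
    (htr : ∀ Q₁ ∈ maxInvSubgroups ⊤ A {q}, ∀ Q₂ ∈ maxInvSubgroups ⊤ A {q},
      ∃ k ∈ piCoreOf (primesNotDvd (Nat.card A)) (Subgroup.centralizer (A : Set G)),
        Q₂ = Q₁.map (MulAut.conj k).toMonoidHom) :
    ∀ (n : ℕ) (P : Subgroup G), Nat.card P ≤ n → P ≠ ⊤ → A ≤ P → (A.subgroupOf P).IsSubnormal →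
      (∀ r : ℕ, r.Prime → r ∣ Nat.card P → r ∣ Nat.card A) → Descends q A P := by
  intro n
  induction n with
  | zero => intro P hP; exact absurd hP (by simp [Nat.card_pos.ne'])
  | succ n ih =>
    intro P hPn hP hAP hsn hπ
    rcases hsn.lt_normal with h | ⟨L, hLn, hAL, hL⟩
    · have hPA : P = A := le_antisymm (Subgroup.subgroupOf_eq_top.mp h) hAP
      subst hPA
      exact ⟨Set.Subset.refl _, htr⟩
    haveI := hLn
    set L' := L.map P.subtype
    have hL'P : L' ≤ P := Subgroup.map_subtype_le L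
    have hsub : L'.subgroupOf P = L :=
      Subgroup.comap_map_eq_self_of_injective P.subtype_injective L
    have hAL' : A ≤ L' := fun a ha => ⟨⟨a, hAP ha⟩, hAL (Subgroup.mem_subgroupOf.mpr ha), rfl⟩
    have hcard : Nat.card L' ≤ n := by
      have hlt : Nat.card L < Nat.card P := lt_of_le_of_ne (Subgroup.card_le_card_group L) fun he =>
        hL.ne (Subgroup.eq_top_of_card_eq L he)
      rw [card_map_subtype]; omega
    have hL'top : L' ≠ ⊤ := fun h => hP (top_le_iff.mp (h ▸ hL'P))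
    have hπ' : ∀ r : ℕ, r.Prime → r ∣ Nat.card L' → r ∣ Nat.card A := fun r hr h =>
      hπ r hr (h.trans (Subgroup.card_dvd_of_le hL'P))
    have hsn' : (A.subgroupOf L').IsSubnormal := by
      have e := (hsn.subgroupOf (K := L)).map
        (f := (L.equivMapOfInjective P.subtype P.subtype_injective).toMonoidHom)
        (L.equivMapOfInjective P.subtype P.subtype_injective).surjective
      convert e using 1
      ext ⟨x, hx⟩
      constructor
      · intro hxA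
        obtain ⟨y, hy, hye⟩ := hx
        exact ⟨⟨y, hy⟩, (by show ((y : P) : G) ∈ A; rw [show ((y : P) : G) = x from hye]; exact hxA),
          Subtype.ext hye⟩
      · rintro ⟨⟨y, hy⟩, hyA, hye⟩
        have : ((y : P) : G) = x := congrArg Subtype.val hye
        exact Subgroup.mem_subgroupOf.mpr (this ▸ hyA)
    obtain ⟨hAT, hset⟩ := transitivityHypothesis_overgroup hA hL'top hAL' hπ'
    have hd := ih L' hcard hL'top hAL' hsn' hπ'
    have hn : P ≤ Subgroup.normalizer (L' : Set G) := fun x hx => mem_normalizer_of_conj_mem fun y hy => by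
      obtain ⟨z, hz, rfl⟩ := hy
      exact ⟨⟨x, hx⟩ * z * ⟨x, hx⟩⁻¹, hLn.conj_mem z hz _, rfl⟩
    have hstep := descends_step hG hAT hq (fun h => hqA (hπ' q hq h)) hP hL'P hn
      (fun r hr h => (hπ r hr h).trans (Subgroup.card_dvd_of_le hAL')) hd.2
    exact ⟨hstep.1.trans hd.1, hstep.2⟩

theorem normalizer_factorization {P Q K : Subgroup G}
    (hKC : K ≤ Subgroup.centralizer (P : Set G))
    (hKn : Subgroup.normalizer (P : Set G) ≤ Subgroup.normalizer (K : Set G))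
    (hcop : (Nat.card P).Coprime (Nat.card K)) (hPQ : P ≤ Subgroup.normalizer (Q : Set G))
    (hfr : ∀ g ∈ Subgroup.normalizer (P : Set G), ∃ k ∈ K, k⁻¹ * g ∈ Subgroup.normalizer (Q : Set G)) :
    P ⊓ ⁅Subgroup.normalizer (P : Set G), Subgroup.normalizer (P : Set G)⁆ ≤
        ⁅Subgroup.normalizer (Q : Set G), Subgroup.normalizer (Q : Set G)⁆ ∧
      Subgroup.normalizer (P : Set G) =
        K ⊔ (Subgroup.normalizer (P : Set G) ⊓ Subgroup.normalizer (Q : Set G)) := by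
  set N := Subgroup.normalizer (P : Set G) with hN
  set M := N ⊓ Subgroup.normalizer (Q : Set G) with hM
  have hKN : K ≤ N := hKC.trans (Subgroup.centralizer_le_normalizer _)
  have hdec : ∀ g ∈ N, ∃ k ∈ K, ∃ m ∈ M, g = k * m := fun g hg => by
    obtain ⟨k, hk, hkg⟩ := hfr g hg
    exact ⟨k, hk, k⁻¹ * g, ⟨N.mul_mem (N.inv_mem (hKN hk)) hg, hkg⟩, by group⟩
  refine ⟨?_, le_antisymm (fun g hg => ?_) (sup_le hKN inf_le_left)⟩
  swap
  · obtain ⟨k, hk, m, hm, rfl⟩ := hdec g hg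
    exact Subgroup.mul_mem_sup hk hm
  haveI : (K.subgroupOf N).Normal := Subgroup.normal_subgroupOf_of_le_normalizer hKn
  set φ := QuotientGroup.mk' (K.subgroupOf N)
  have hMn : M ≤ Subgroup.normalizer (K : Set G) := inf_le_left.trans hKn
  have hM'M : ⁅M, M⁆ ≤ M := Subgroup.commutator_le.mpr fun a ha b hb =>
    M.mul_mem (M.mul_mem (M.mul_mem ha hb) (M.inv_mem ha)) (M.inv_mem hb)
  have hNN : ⁅N, N⁆ ≤ K ⊔ ⁅M, M⁆ := by
    rw [Subgroup.commutator_le]
    intro g₁ hg₁ g₂ hg₂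
    obtain ⟨k₁, hk₁, m₁, hm₁, rfl⟩ := hdec g₁ hg₁
    obtain ⟨k₂, hk₂, m₂, hm₂, rfl⟩ := hdec g₂ hg₂
    have hφ : ∀ (k m : G) (hk : k ∈ K) (hg : k * m ∈ N) (hm : m ∈ N),
        φ ⟨k * m, hg⟩ = φ ⟨m, hm⟩ := fun k m hk hg hm => by
      rw [show (⟨k * m, hg⟩ : N) = ⟨k, hKN hk⟩ * ⟨m, hm⟩ from rfl, map_mul,
        show φ ⟨k, hKN hk⟩ = 1 from (QuotientGroup.eq_one_iff _).mpr hk, one_mul]
    have h : φ (⁅(⟨k₁ * m₁, hg₁⟩ : N), ⟨k₂ * m₂, hg₂⟩⁆ * ⁅(⟨m₁, hm₁.1⟩ : N), ⟨m₂, hm₂.1⟩⁆⁻¹) = 1 := by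
      rw [map_mul, map_inv, map_commutatorElement, map_commutatorElement, hφ k₁ m₁ hk₁ hg₁ hm₁.1,
        hφ k₂ m₂ hk₂ hg₂ hm₂.1, mul_inv_cancel]
    have h' : ⁅k₁ * m₁, k₂ * m₂⁆ * ⁅m₁, m₂⁆⁻¹ ∈ K :=
      Subgroup.mem_subgroupOf.mp ((QuotientGroup.eq_one_iff (N := K.subgroupOf N) _).mp h)
    have h'' := Subgroup.mul_mem_sup h' (Subgroup.commutator_mem_commutator hm₁ hm₂)
    rwa [inv_mul_cancel_right] at h''
  rintro x ⟨hxP, hx⟩
  obtain ⟨k, hk, m, hm, hkm⟩ := exists_mul_of_mem_sup (hM'M.trans hMn) (hNN hx)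
  have hxM : x ∈ M := ⟨Subgroup.le_normalizer hxP, hPQ hxP⟩
  have hkM : k ∈ M := by
    have : k = x * m⁻¹ := by rw [← hkm]; group
    rw [this]; exact M.mul_mem hxM (M.inv_mem (hM'M hm))
  have hMQ : M ≤ Subgroup.normalizer (Q : Set G) := inf_le_right
  refine Subgroup.commutator_mono hMQ hMQ ?_
  haveI : ((⁅M, M⁆).subgroupOf M).Normal :=
    Subgroup.normal_subgroupOf_of_le_normalizer (Subgroup.normalizer_commutator_ge_left M M)
  set ψ := QuotientGroup.mk' ((⁅M, M⁆).subgroupOf M)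
  have hxk : ψ ⟨x, hxM⟩ = ψ ⟨k, hkM⟩ := by
    rw [show (⟨x, hxM⟩ : M) = ⟨k, hkM⟩ * ⟨m, hM'M hm⟩ from Subtype.ext hkm.symm, map_mul,
      show ψ ⟨m, hM'M hm⟩ = 1 from (QuotientGroup.eq_one_iff _).mpr hm, mul_one]
  have h1 : ψ ⟨x, hxM⟩ = 1 := orderOf_eq_one_iff.mp (Nat.eq_one_of_dvd_coprimes hcop
    ((orderOf_map_dvd ψ _).trans (by rw [Subgroup.orderOf_mk]; exact Subgroup.orderOf_dvd_natCard _ hxP))
    (hxk ▸ (orderOf_map_dvd ψ _).trans (by rw [Subgroup.orderOf_mk]; exact Subgroup.orderOf_dvd_natCard _ hk)))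
  exact Subgroup.mem_subgroupOf.mp ((QuotientGroup.eq_one_iff (N := (⁅M, M⁆).subgroupOf M) _).mp h1)

/-! ### Criteria for the transitivity hypothesis -/

theorem transitivityHypothesis_of_full (hG : IsMinSimpleOddOrder G) {p : ℕ} [hp : Fact p.Prime]
    (hpG : p ∣ Nat.card G) {A : Subgroup G} (hAp : IsPGroup p A) (hAne : A ≠ ⊥)
    (hfull : ∀ x ∈ Subgroup.centralizer (A : Set G), x ^ p = 1 → x ∈ A) :
    TransitivityHypothesis A := by
  have hodd : Odd p := hG.1.of_dvd_nat hpG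
  have hAtop : A ≠ ⊤ := fun h => normalizer_ne_top_of_isPGroup hG hAne hAp
    (by rw [h]; exact Subgroup.normalizer_eq_top ⊤)
  refine ⟨hAne, hAtop, fun X hX hAX => ?_⟩
  set π := primesNotDvd (Nat.card A)
  refine le_antisymm (sSup_le fun L hL => ?_) (le_sSup ⟨piCoreOf_le _ _, isPiNat_piCoreOf _ _,
    hAX.trans (le_normalizer_piCoreOf _ _)⟩)
  haveI := isSolvable_proper hG hX
  obtain ⟨n, hn⟩ := IsPGroup.iff_card.mp hAp
  have hn0 : n ≠ 0 := fun h => hAne (Subgroup.eq_bot_of_card_eq A (by rw [hn, h, pow_zero]))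
  have hpA : p ∣ Nat.card A := hn ▸ dvd_pow_self p hn0
  have hLp : ¬ p ∣ Nat.card L := fun h => (hL.2.1 p hp.out h).2 hpA
  have key : L.subgroupOf X ≤ pPrimeCore p X := by
    refine OddChar.invariant_le_pPrimeCore_of_constrained hodd
      (centralizer_pCore_le_of_isSolvable (pPrimeCore_quotient_pPrimeCore p X))
      (hAp.of_equiv (Subgroup.subgroupOfEquivOfLe hAX).symm) (fun x hx hxp => ?_) ?_ ?_
    · refine hfull x (Subgroup.mem_centralizer_iff.mpr fun e he => congrArg Subtype.val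
        (Subgroup.mem_centralizer_iff.mp hx ⟨e, hAX he⟩ he)) ?_
      exact congrArg Subtype.val hxp
    · rw [card_subgroupOf hL.1]
      exact ((Nat.Prime.coprime_iff_not_dvd hp.out).mpr hLp).symm
    · exact fun e he => mem_normalizer_of_conj_mem fun y hy =>
        (Subgroup.mem_normalizer_iff.mp (hL.2.2 he) y).mp hy
  intro x hx
  refine ⟨⟨x, hL.1 hx⟩, le_piCore inferInstance ?_ (key (Subgroup.mem_subgroupOf.mpr hx)), rfl⟩
  intro r hr hrd
  refine ⟨hr, fun hrA => not_dvd_card_pPrimeCore p X ?_⟩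
  rw [hn] at hrA
  rwa [(Nat.prime_dvd_prime_iff_eq hr hp.out).mp (hr.dvd_of_dvd_pow hrA)] at hrd

end Cfsg.Agent.Core.BG
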