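/-
Bender's method: subgroups containing the centre of a Fitting subgroup with two prime divisors.
-/
import Cfsg.Agent.Core.BG.Transitivity
import Cfsg.Agent.Core.ThompsonComplement
import Cfsg.Agent.Core.Subnormal
import Cfsg.Agent.Core.MinimalNormal
import Cfsg.Agent.Coprime.PxQ
import Cfsg.Agent.OddLocal.FixOrderP

set_option autoImplicit false
set_option linter.style.haveILetI false
set_option linter.unusedSectionVars false

namespace Cfsg.Agent.Core.BG

open Cfsg
open Cfsg.Agent.Coprime (map_conj_mem map_conj_le_iff exists_mul_of_mem_sup mem_normalizer_of_conj_mem)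
open scoped commutatorElement

variable {G : Type*} [Group G] [Finite G]

/-- `O_r(H)` as a subgroup of the ambient group. -/
abbrev fitPart (r : ℕ) (H : Subgroup G) : Subgroup G := piCoreOf {r} H

/-- The centre of `O_r(H)`. -/
def fitCenter (r : ℕ) (H : Subgroup G) : Subgroup G :=
  fitPart r H ⊓ Subgroup.centralizer (fitPart r H : Set G)

theorem fitPart_eq {r : ℕ} (hr : r.Prime) (H : Subgroup G) :
    fitPart r H = (pCore r H).map H.subtype := by
  haveI := Fact.mk hr
  rw [pCore_eq_piCore]; rfl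

theorem isPGroup_fitPart {r : ℕ} (hr : r.Prime) (H : Subgroup G) : IsPGroup r (fitPart r H) := by
  haveI := Fact.mk hr
  rw [fitPart_eq hr]
  exact (isPGroup_pCore r H).map _

theorem fittingOf_le (H : Subgroup G) : fittingOf H ≤ H := Subgroup.map_subtype_le _

theorem fitPart_le_fittingOf {r : ℕ} (hr : r.Prime) (H : Subgroup G) : fitPart r H ≤ fittingOf H := by
  haveI := Fact.mk hr
  rw [fitPart_eq hr]
  exact Subgroup.map_mono (pCore_le_fittingSubgroup r H)

theorem isNilpotent_fittingOf (H : Subgroup G) : Group.IsNilpotent (fittingOf H) :=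
  isNilpotent_map (isNilpotent_fittingSubgroup H) _

theorem le_normalizer_fittingOf (H : Subgroup G) : H ≤ Subgroup.normalizer (fittingOf H : Set G) := by
  intro x hx
  refine mem_normalizer_of_conj_mem ?_
  rintro _ ⟨y, hy, rfl⟩
  exact ⟨⟨x, hx⟩ * y * ⟨x, hx⟩⁻¹, (fittingSubgroup_normal H).conj_mem y hy _, rfl⟩

theorem fittingOf_le_iff {H K : Subgroup G} :
    fittingOf H ≤ K ↔ ∀ q : ℕ, q.Prime → fitPart q H ≤ K := by
  refine ⟨fun h q hq => (fitPart_le_fittingOf hq H).trans h, fun h => ?_⟩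
  rw [fittingOf, fittingSubgroup_eq_iSup, Subgroup.map_iSup]
  refine iSup_le fun q => ?_
  rw [← fitPart_eq q.2]
  exact h q q.2

theorem dvd_fitting_iff {r : ℕ} (hr : r.Prime) (H : Subgroup G) :
    r ∣ Nat.card (fittingOf H) ↔ fitPart r H ≠ ⊥ := by
  haveI := Fact.mk hr
  constructor
  · intro h hbot
    rw [fitPart_eq hr, Subgroup.map_eq_bot_iff_of_injective _ H.subtype_injective] at hbot
    rw [fittingOf, card_map_subtype] at h
    haveI := isNilpotent_fittingSubgroup H
    obtain ⟨P⟩ := (inferInstance : Nonempty (Sylow r (fittingSubgroup H)))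
    have h1 : (pCore r (fittingSubgroup H)).map (fittingSubgroup H).subtype = ⊥ := by
      rw [map_pCore_subtype, hbot, bot_inf_eq]
    rw [pCore_eq_sylow P, Subgroup.map_eq_bot_iff_of_injective _ (Subgroup.subtype_injective _)] at h1
    exact P.ne_bot_of_dvd_card h h1
  · intro h
    refine dvd_trans ?_ (Subgroup.card_dvd_of_le (fitPart_le_fittingOf hr H))
    obtain ⟨k, hk⟩ := IsPGroup.iff_card.mp (isPGroup_fitPart hr H)
    exact hk ▸ dvd_pow_self r fun e => h (Subgroup.eq_bot_of_card_eq _ (by rw [hk, e, pow_zero]))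

theorem eq_one_of_mem_pGroups {r s : ℕ} (hr : r.Prime) (hs : s.Prime) (hrs : r ≠ s) {A B : Subgroup G}
    (hA : IsPGroup r A) (hB : IsPGroup s B) {x : G} (hxA : x ∈ A) (hxB : x ∈ B) : x = 1 := by
  haveI := Fact.mk hr
  haveI := Fact.mk hs
  obtain ⟨j, hj⟩ := IsPGroup.iff_card.mp hA
  obtain ⟨k, hk⟩ := IsPGroup.iff_card.mp hB
  exact orderOf_eq_one_iff.mp (Nat.eq_one_of_dvd_coprimes
    (((Nat.coprime_primes hr hs).mpr hrs).pow j k) (hj ▸ Subgroup.orderOf_dvd_natCard A hxA)
    (hk ▸ Subgroup.orderOf_dvd_natCard B hxB))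

theorem fitPart_le_centralizer {r s : ℕ} (hr : r.Prime) (hs : s.Prime) (hrs : r ≠ s) (H : Subgroup G) :
    fitPart r H ≤ Subgroup.centralizer (fitPart s H : Set G) := by
  intro a ha
  refine Subgroup.mem_centralizer_iff.mpr fun b hb => ?_
  have hr' := le_normalizer_piCoreOf {r} H (piCoreOf_le _ _ hb)
  have hs' := le_normalizer_piCoreOf {s} H (piCoreOf_le _ _ ha)
  have h1 : b * a * b⁻¹ * a⁻¹ ∈ fitPart r H :=
    mul_mem ((Subgroup.mem_normalizer_iff.mp hr' a).mp ha) (inv_mem ha)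
  have h2 : b * a * b⁻¹ * a⁻¹ ∈ fitPart s H := by
    rw [show b * a * b⁻¹ * a⁻¹ = b * (a * b⁻¹ * a⁻¹) by group]
    exact mul_mem hb ((Subgroup.mem_normalizer_iff.mp hs' _).mp (inv_mem hb))
  exact mul_inv_eq_iff_eq_mul.mp (mul_inv_eq_one.mp
    (eq_one_of_mem_pGroups hr hs hrs (isPGroup_fitPart hr H) (isPGroup_fitPart hs H) h1 h2))

theorem fitCenter_le_center {r : ℕ} (hr : r.Prime) (H : Subgroup G) :
    fitCenter r H ≤ fittingOf H ⊓ Subgroup.centralizer (fittingOf H : Set G) := by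
  intro z hz
  refine ⟨fitPart_le_fittingOf hr H hz.1, ?_⟩
  have : fittingOf H ≤ Subgroup.centralizer ({z} : Set G) := fittingOf_le_iff.mpr fun q hq => by
    intro y hy
    rw [Subgroup.mem_centralizer_singleton_iff]
    by_cases hqr : q = r
    · subst hqr; exact Subgroup.mem_centralizer_iff.mp hz.2 y hy
    · exact (Subgroup.mem_centralizer_iff.mp (fitPart_le_centralizer hq hr hqr H hy) z hz.1).symm
  exact Subgroup.mem_centralizer_iff.mpr fun y hy => Subgroup.mem_centralizer_singleton_iff.mp (this hy)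

theorem le_normalizer_fitCenter (r : ℕ) (H : Subgroup G) :
    H ≤ Subgroup.normalizer (fitCenter r H : Set G) := by
  intro g hg
  have h := Subgroup.mem_normalizer_iff_map_conj_eq.mp (le_normalizer_piCoreOf {r} H hg)
  rw [Subgroup.mem_normalizer_iff_map_conj_eq]
  exact (ThompsonComplement.centre_map _ (MulAut.conj g).injective.injOn).trans (by rw [h]; rfl)

theorem fitCenter_ne_bot {r : ℕ} (hr : r.Prime) {H : Subgroup G} (h : r ∣ Nat.card (fittingOf H)) :
    fitCenter r H ≠ ⊥ :=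
  haveI := Fact.mk hr
  ThompsonComplement.centre_ne_bot (isPGroup_fitPart hr H) ((dvd_fitting_iff hr H).mp h)

theorem isPGroup_fitCenter {r : ℕ} (hr : r.Prime) (H : Subgroup G) : IsPGroup r (fitCenter r H) :=
  (isPGroup_fitPart hr H).to_le inf_le_left

theorem fitCenter_commute {r s : ℕ} (hr : r.Prime) (hs : s.Prime) (H : Subgroup G) {a b : G}
    (ha : a ∈ fitCenter r H) (hb : b ∈ fitCenter s H) : a * b = b * a :=
  Subgroup.mem_centralizer_iff.mp (fitCenter_le_center hs H hb).2 a (fitCenter_le_center hr H ha).1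

/-- A solvable normal subgroup of `C_H(F(H))` lies in `F(H)`. -/
theorem le_fittingOf_of_normal_in_centralizer {H Y : Subgroup G}
    (hY : Y ≤ H ⊓ Subgroup.centralizer (fittingOf H : Set G))
    (hn : H ⊓ Subgroup.centralizer (fittingOf H : Set G) ≤ Subgroup.normalizer (Y : Set G))
    (hs : Group.IsSolvable Y) : Y ≤ fittingOf H := by
  set X := H ⊓ Subgroup.centralizer (fittingOf H : Set G)
  set X' := X.subgroupOf H
  set Y' := Y.subgroupOf H
  have hYH : Y ≤ H := hY.trans inf_le_left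
  have hXn : X'.Normal := Subgroup.normal_subgroupOf_of_le_normalizer (by
    refine (le_inf Subgroup.le_normalizer ?_).trans Subgroup.inf_normalizer_le_normalizer_inf
    intro g hg
    refine mem_normalizer_of_conj_mem fun y hy => ?_
    rw [Coprime.mem_centralizer_iff_conj] at hy ⊢
    intro a ha
    have h1 : g⁻¹ * a * g ∈ fittingOf H := (Subgroup.mem_normalizer_iff.mp
      (le_normalizer_fittingOf H hg) _).mpr (by simpa [mul_assoc] using ha)
    calc g * y * g⁻¹ * a * (g * y * g⁻¹)⁻¹ = g * (y * (g⁻¹ * a * g) * y⁻¹) * g⁻¹ := by group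
      _ = a := by rw [hy _ h1]; group)
  have hX's : X'.IsSubnormal := Subgroup.IsSubnormal.step X' ⊤ le_top Subgroup.IsSubnormal.top
    (Subgroup.normal_subgroupOf_of_le_normalizer (Subgroup.normalizer_eq_top_iff.mpr hXn).ge)
  have hY's : Y'.IsSubnormal := Subgroup.IsSubnormal.step Y' X'
    (fun y hy => hY hy) hX's (Subgroup.normal_subgroupOf_of_le_normalizer fun x hx =>
      mem_normalizer_of_conj_mem fun y hy => (Subgroup.mem_normalizer_iff.mp (hn hx) _).mp hy)
  haveI : Group.IsSolvable Y' := by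
    haveI := hs
    exact Group.isSolvable_of_isSolvable_injective (f := (Subgroup.subgroupOfEquivOfLe hYH).toMonoidHom)
      (Subgroup.subgroupOfEquivOfLe hYH).injective
  set FY := (fittingSubgroup Y').map Y'.subtype
  have hFYs : FY.IsSubnormal := Subgroup.IsSubnormal.step FY Y' (Subgroup.map_subtype_le _) hY's (by
    rw [Subgroup.subgroupOf, Subgroup.comap_map_eq_self_of_injective Y'.subtype_injective]
    infer_instance)
  have hFY : FY ≤ fittingSubgroup H :=
    le_fittingSubgroup_of_isSubnormal hFYs (isNilpotent_map (isNilpotent_fittingSubgroup Y') _)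
  have htop : fittingSubgroup Y' = ⊤ := by
    refine top_le_iff.mp (le_trans (fun y _ => Subgroup.mem_centralizer_iff.mpr fun z hz => ?_)
      centralizer_fittingSubgroup_le)
    have hzF : ((z : H) : G) ∈ fittingOf H := ⟨z, hFY ⟨z, hz, rfl⟩, rfl⟩
    exact Subtype.ext (Subtype.ext (Subgroup.mem_centralizer_iff.mp (hY y.2).2 _ hzF))
  intro y hy
  refine ⟨⟨y, hYH hy⟩, hFY ?_, rfl⟩
  exact ⟨⟨⟨y, hYH hy⟩, hy⟩, by rw [htop]; trivial, rfl⟩

/-- Bender's lemma: invariant subgroups of order prime to `|F(H)|` lie in the core. -/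
theorem le_piCoreOf_of_bender {H M R : Subgroup G}
    (hCZ : ∀ r : ℕ, r.Prime → r ∣ Nat.card (fittingOf H) →
      Subgroup.centralizer (fitCenter r H : Set G) ≤ H)
    (hF2 : 2 ≤ (Nat.card (fittingOf H)).primeFactors.card)
    (hM : M ≤ fittingOf H) (hCM : fittingOf H ⊓ Subgroup.centralizer (M : Set G) ≤ M)
    (hR : Group.IsSolvable R) (hMR : M ≤ Subgroup.normalizer (R : Set G))
    (hXR : H ⊓ Subgroup.centralizer (fittingOf H : Set G) ≤ Subgroup.normalizer (R : Set G))
    {Q : Subgroup G} (hQR : Q ≤ R) (hQπ : IsPiNat (primesNotDvd (Nat.card (fittingOf H))) (Nat.card Q))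
    (hMQ : M ≤ Subgroup.normalizer (Q : Set G)) :
    Q ≤ piCoreOf (primesNotDvd (Nat.card (fittingOf H))) R := by
  set F := fittingOf H with hF
  set π := primesNotDvd (Nat.card F)
  set W := piCoreOf π R with hWdef
  have hWR : W ≤ R := piCoreOf_le π R
  have hZM : ∀ r : ℕ, r.Prime → fitCenter r H ≤ M := fun r hr z hz =>
    hCM ⟨(fitCenter_le_center hr H hz).1, Subgroup.centralizer_le hM (fitCenter_le_center hr H hz).2⟩
  set N := Subgroup.normalizer (W : Set G) with hN
  have hRN : R ≤ N := le_normalizer_piCoreOf π R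
  have hMN : M ≤ N := hMR.trans (normalizer_le_normalizer_piCoreOf π R)
  haveI : (W.subgroupOf N).Normal := Subgroup.normal_in_normalizer
  set φ := QuotientGroup.mk' (W.subgroupOf N)
  have hφ : ∀ x : N, φ x = 1 ↔ (x : G) ∈ W := fun x =>
    (QuotientGroup.eq_one_iff x).trans Subgroup.mem_subgroupOf
  haveI := hR
  haveI : Group.IsSolvable (R.subgroupOf N) := Group.isSolvable_of_isSolvable_injective
    (f := (Subgroup.subgroupOfEquivOfLe hRN).toMonoidHom) (Subgroup.subgroupOfEquivOfLe hRN).injective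
  set Rb := (R.subgroupOf N).map φ with hRb
  haveI hRbs : Group.IsSolvable Rb :=
    Group.isSolvable_of_surjective (φ.subgroupMap_surjective (R.subgroupOf N))
  have hRbN : ∀ x : N, (x : G) ∈ Subgroup.normalizer (R : Set G) →
      φ x ∈ Subgroup.normalizer (Rb : Set (N ⧸ W.subgroupOf N)) := fun x hx => by
    refine mem_normalizer_of_conj_mem ?_
    rintro _ ⟨y, hy, rfl⟩
    exact ⟨x * y * x⁻¹, (Subgroup.mem_normalizer_iff.mp hx (y : G)).mp hy, by simp⟩
  have hWcop : ∀ r : ℕ, r.Prime → r ∣ Nat.card F → (Nat.card W).Coprime r := fun r hr hrF =>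
    Nat.coprime_comm.mp ((Nat.Prime.coprime_iff_not_dvd hr).mpr fun h =>
      (isPiNat_piCoreOf π R r hr h).2 hrF)
  -- lifting fixed points
  have lift : ∀ r : ℕ, r.Prime → r ∣ Nat.card F → ∀ v ∈ Rb,
      v ∈ Subgroup.centralizer (((fitCenter r H).subgroupOf N).map φ : Set (N ⧸ W.subgroupOf N)) →
      ∃ c : N, (c : G) ∈ R ⊓ Subgroup.centralizer (fitCenter r H : Set G) ∧ φ c = v := by
    intro r hr hrF v hv hvC
    haveI := Fact.mk hr
    obtain ⟨y, hy, rfl⟩ := hv
    have hZN : fitCenter r H ≤ N := (hZM r hr).trans hMN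
    have hWc : (Nat.card (W.subgroupOf N)).Coprime r := by
      rw [card_subgroupOf Subgroup.le_normalizer]; exact hWcop r hr hrF
    have hT : IsPGroup r ((fitCenter r H).subgroupOf N) :=
      (isPGroup_fitCenter hr H).of_equiv (Subgroup.subgroupOfEquivOfLe hZN).symm
    have hfix : ∀ t ∈ (fitCenter r H).subgroupOf N, y * t * y⁻¹ * t⁻¹ ∈ W.subgroupOf N := fun t ht => by
      refine (QuotientGroup.eq_one_iff _).mp (show φ (y * t * y⁻¹ * t⁻¹) = 1 from ?_)
      rw [map_mul, map_mul, map_mul, map_inv, map_inv,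
        ← Subgroup.mem_centralizer_iff.mp hvC (φ t) ⟨t, ht, rfl⟩, mul_inv_cancel_right, mul_inv_cancel]
    obtain ⟨k, hk, hkn⟩ := ThompsonComplement.exists_mul_normalizes hT hWc (g := y) (fun t ht => by
      rw [sup_comm]
      simpa using Subgroup.mul_mem_sup (hfix t ht) ht)
    refine ⟨k * y, ⟨R.mul_mem (hWR hk) hy, Subgroup.mem_centralizer_iff.mpr fun z hz => ?_⟩, by
      rw [map_mul, (hφ k).mpr hk, one_mul]⟩
    set z' : N := ⟨z, hZN hz⟩
    have h1 : (k * y) * z' * (k * y)⁻¹ * z'⁻¹ ∈ (fitCenter r H).subgroupOf N :=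
      mul_mem ((Subgroup.mem_normalizer_iff.mp hkn z').mp hz) (inv_mem (hz : z' ∈ (fitCenter r H).subgroupOf N))
    have h2 : (k * y) * z' * (k * y)⁻¹ * z'⁻¹ ∈ W.subgroupOf N := by
      have h3 := (inferInstance : (W.subgroupOf N).Normal).conj_mem _ (hfix z' hz) k
      have h4 : k * z' * k⁻¹ * z'⁻¹ ∈ W.subgroupOf N := by
        rw [show k * z' * k⁻¹ * z'⁻¹ = k * (z' * k⁻¹ * z'⁻¹) by group]
        exact mul_mem hk ((inferInstance : (W.subgroupOf N).Normal).conj_mem _ (inv_mem hk) z')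
      rw [show (k * y) * z' * (k * y)⁻¹ * z'⁻¹ =
        (k * (y * z' * y⁻¹ * z'⁻¹) * k⁻¹) * (k * z' * k⁻¹ * z'⁻¹) by group]
      exact mul_mem h3 h4
    have h5 := ThompsonComplement.eq_one_of_mem hT h1
      (hWc.coprime_dvd_left (Subgroup.orderOf_dvd_natCard _ h2))
    exact (congrArg Subtype.val (mul_inv_eq_iff_eq_mul.mp (mul_inv_eq_one.mp h5))).symm
  -- the images centralise every `O_r`
  have hXint : ∀ x : G, x ∈ R → x ∈ H ⊓ Subgroup.centralizer (F : Set G) →
      x ∈ F ⊓ Subgroup.centralizer (F : Set G) := fun x hxR hx => by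
    refine ⟨le_fittingOf_of_normal_in_centralizer (Y := R ⊓ (H ⊓ Subgroup.centralizer (F : Set G)))
      inf_le_right ((le_inf hXR Subgroup.le_normalizer).trans Subgroup.inf_normalizer_le_normalizer_inf)
      (Group.isSolvable_of_isSolvable_injective (Subgroup.inclusion_injective inf_le_left)) ⟨hxR, hx⟩, hx.2⟩
  have hsolvQ : Group.IsSolvable Q :=
    Group.isSolvable_of_isSolvable_injective (Subgroup.inclusion_injective hQR)
  have hcopQ : ∀ T : Subgroup G, T ≤ F → (Nat.card T).Coprime (Nat.card Q) := fun T hT =>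
    Nat.Coprime.coprime_dvd_left (Subgroup.card_dvd_of_le hT) (coprime_of_isPiNat hQπ)
  have cent : ∀ r : ℕ, r.Prime → r ∣ Nat.card F → ∀ x : N, (x : G) ∈ Q →
      φ x ∈ Subgroup.centralizer (fitPart r Rb : Set (N ⧸ W.subgroupOf N)) := by
    intro r hr hrF
    haveI := Fact.mk hr
    obtain ⟨s, hs, hsr⟩ := Finset.exists_mem_ne hF2 r
    obtain ⟨hs, hsF, -⟩ := Nat.mem_primeFactors.mp hs
    haveI := Fact.mk hs
    set V := fitPart r Rb
    have hV : IsPGroup r V := isPGroup_fitPart hr Rb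
    set P := ((fitCenter r H).subgroupOf N).map φ with hPdef
    have hP : IsPGroup r P := ((isPGroup_fitCenter hr H).comap_subtype).map _
    have hPV : P ≤ Subgroup.normalizer (V : Set (N ⧸ W.subgroupOf N)) := by
      rintro _ ⟨z, hz, rfl⟩
      exact normalizer_le_normalizer_piCoreOf _ _ (hRbN z (hMR (hZM r hr hz)))
    -- `Z_s` centralises `V`
    set T := ((fitCenter s H).subgroupOf N).map φ
    have hT : IsPGroup s T := ((isPGroup_fitCenter hs H).comap_subtype).map _
    have hTV : T ≤ Subgroup.normalizer (V : Set (N ⧸ W.subgroupOf N)) := by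
      rintro _ ⟨z, hz, rfl⟩
      exact normalizer_le_normalizer_piCoreOf _ _ (hRbN z (hMR (hZM s hs hz)))
    have hTcop : (Nat.card T).Coprime r := by
      obtain ⟨k, hk⟩ := IsPGroup.iff_card.mp hT
      rw [hk]; exact ((Nat.coprime_primes hs hr).mpr hsr).pow_left k
    haveI : Group.IsSolvable T := Coprime.isSolvable_of_isPGroup hT
    have hTcent : ⁅V, T⁆ = ⊥ := by
      refine Coprime.commutator_eq_bot_of_PxQ hP hTcop ?_ _ V rfl hV hPV hTV ?_
      · rw [Subgroup.commutator_eq_bot_iff_le_centralizer]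
        rintro _ ⟨a, ha, rfl⟩
        refine Subgroup.mem_centralizer_iff.mpr ?_
        rintro _ ⟨b, hb, rfl⟩
        rw [← map_mul, ← map_mul]
        exact congrArg φ (Subtype.ext (fitCenter_commute hs hr H hb ha))
      · rw [Subgroup.commutator_eq_bot_iff_le_centralizer]
        intro v hv
        refine Subgroup.mem_centralizer_iff.mpr ?_
        rintro _ ⟨z, hz, rfl⟩
        obtain ⟨c, hc, rfl⟩ := lift r hr hrF v (piCoreOf_le _ _ hv.1) hv.2
        have hcH := hCZ r hr hrF hc.2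
        have h1 : φ (c * z * c⁻¹ * z⁻¹) ∈ V := by
          rw [map_mul, map_mul, map_mul, map_inv, map_inv,
            show φ c * φ z * (φ c)⁻¹ * (φ z)⁻¹ = φ c * (φ z * (φ c)⁻¹ * (φ z)⁻¹) by group]
          exact mul_mem hv.1 ((Subgroup.mem_normalizer_iff.mp (hTV ⟨z, hz, rfl⟩) _).mp (inv_mem hv.1))
        have h2 : φ (c * z * c⁻¹ * z⁻¹) ∈ T := ⟨c * z * c⁻¹ * z⁻¹,
          mul_mem ((Subgroup.mem_normalizer_iff.mp (le_normalizer_fitCenter s H hcH) _).mp hz) (inv_mem hz), rfl⟩
        have h3 := eq_one_of_mem_pGroups hr hs hsr.symm hV hT h1 h2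
        rw [map_mul, map_mul, map_mul, map_inv, map_inv] at h3
        exact (mul_inv_eq_iff_eq_mul.mp (mul_inv_eq_one.mp h3)).symm
    -- `C_Q(Z_s)` centralises `V`
    set Q₀ := Q ⊓ Subgroup.centralizer (fitCenter s H : Set G)
    have hQ₀H : Q₀ ≤ H := inf_le_right.trans (hCZ s hs hsF)
    have hQ₀X : Q₀ ≤ H ⊓ Subgroup.centralizer (F : Set G) := by
      refine le_inf hQ₀H (OddLocal.le_centralizer_of_selfCentralizing_fixed F Q₀ (isNilpotent_fittingOf H)
        (hQ₀H.trans (le_normalizer_fittingOf H))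
        ((hcopQ F le_rfl).symm.coprime_dvd_left (Subgroup.card_dvd_of_le inf_le_left)) ?_)
      have hMQ₀ : M ≤ F ⊓ Subgroup.centralizer (Q₀ : Set G) := le_inf hM fun m hm => by
        refine Subgroup.mem_centralizer_iff.mpr fun x hx => ?_
        have hmZ : m ∈ Subgroup.centralizer (fitCenter s H : Set G) :=
          Subgroup.mem_centralizer_iff.mpr fun z hz =>
            (Subgroup.mem_centralizer_iff.mp (fitCenter_le_center hs H hz).2 m (hM hm)).symm
        have hnorm : m ∈ Subgroup.normalizer (Q₀ : Set G) :=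
          (le_inf hMQ fun y hy => (Subgroup.le_normalizer : Subgroup.centralizer (fitCenter s H : Set G) ≤ _)
            (Subgroup.mem_centralizer_iff.mpr fun z hz =>
              (Subgroup.mem_centralizer_iff.mp (fitCenter_le_center hs H hz).2 y (hM hy)).symm)).trans
            Subgroup.inf_normalizer_le_normalizer_inf hm
        have h1 : x * m * x⁻¹ * m⁻¹ ∈ F :=
          mul_mem ((Subgroup.mem_normalizer_iff.mp (le_normalizer_fittingOf H (hQ₀H hx)) m).mp (hM hm))
            (inv_mem (hM hm))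
        have h2 : x * m * x⁻¹ * m⁻¹ ∈ Q₀ := by
          rw [show x * m * x⁻¹ * m⁻¹ = x * (m * x⁻¹ * m⁻¹) by group]
          exact mul_mem hx ((Subgroup.mem_normalizer_iff.mp hnorm _).mp (inv_mem hx))
        exact mul_inv_eq_iff_eq_mul.mp (mul_inv_eq_one.mp (orderOf_eq_one_iff.mp
          (Nat.eq_one_of_dvd_coprimes (hcopQ F le_rfl) (Subgroup.orderOf_dvd_natCard _ h1)
            ((Subgroup.orderOf_dvd_natCard _ h2).trans (Subgroup.card_dvd_of_le inf_le_left)))))
      exact (inf_le_inf_left F (Subgroup.centralizer_le hMQ₀)).trans (hCM.trans hMQ₀)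
    set S := (Q₀.subgroupOf N).map φ
    have hQN : Q ≤ N := hQR.trans hRN
    have hScop : (Nat.card S).Coprime r := by
      refine Nat.Coprime.coprime_dvd_left (Subgroup.card_map_dvd _ _) ?_
      rw [card_subgroupOf (inf_le_left.trans hQN)]
      refine Nat.Coprime.coprime_dvd_left (Subgroup.card_dvd_of_le inf_le_left) ?_
      exact (Nat.coprime_comm.mp ((Nat.Prime.coprime_iff_not_dvd hr).mpr fun h => (hQπ r hr h).2 hrF))
    haveI : Group.IsSolvable (Q₀.subgroupOf N) := by
      haveI := hsolvQ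
      haveI : Group.IsSolvable Q₀ :=
        Group.isSolvable_of_isSolvable_injective (Subgroup.inclusion_injective (inf_le_left : Q₀ ≤ Q))
      exact Group.isSolvable_of_isSolvable_injective
        (f := (Subgroup.subgroupOfEquivOfLe (inf_le_left.trans hQN : Q₀ ≤ N)).toMonoidHom)
        (Subgroup.subgroupOfEquivOfLe _).injective
    haveI : Group.IsSolvable S :=
      Group.isSolvable_of_surjective (φ.subgroupMap_surjective (Q₀.subgroupOf N))
    have hSV : S ≤ Subgroup.normalizer (V : Set (N ⧸ W.subgroupOf N)) := by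
      rintro _ ⟨x, hx, rfl⟩
      exact normalizer_le_normalizer_piCoreOf _ _ (hRbN x (Subgroup.le_normalizer (hQR hx.1)))
    have hScent : ⁅V, S⁆ = ⊥ := by
      refine Coprime.commutator_eq_bot_of_PxQ hP hScop ?_ _ V rfl hV hPV hSV ?_
      · rw [Subgroup.commutator_eq_bot_iff_le_centralizer]
        rintro _ ⟨a, ha, rfl⟩
        refine Subgroup.mem_centralizer_iff.mpr ?_
        rintro _ ⟨b, hb, rfl⟩
        rw [← map_mul, ← map_mul]
        exact congrArg φ (Subtype.ext
          ((Subgroup.mem_centralizer_iff.mp (hQ₀X hb).2 _ (fitCenter_le_center hr H ha).1).symm))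
      · rw [Subgroup.commutator_eq_bot_iff_le_centralizer]
        intro v hv
        refine Subgroup.mem_centralizer_iff.mpr ?_
        rintro _ ⟨x, hx, rfl⟩
        obtain ⟨c, hc, rfl⟩ := lift r hr hrF v (piCoreOf_le _ _ hv.1) hv.2
        have hcH := hCZ r hr hrF hc.2
        have hxH : (x : G) ∈ H := hQ₀H hx
        set e := (c : G) * x * (c : G)⁻¹ * (x : G)⁻¹ with hedef
        have heR : e ∈ R := R.mul_mem (R.mul_mem (R.mul_mem hc.1 (hQR hx.1)) (R.inv_mem hc.1)) (R.inv_mem (hQR hx.1))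
        have hcN : (c : G) * x * (c : G)⁻¹ ∈ H ⊓ Subgroup.centralizer (F : Set G) := by
          refine ⟨H.mul_mem (H.mul_mem hcH hxH) (H.inv_mem hcH), ?_⟩
          show (c : G) * x * (c : G)⁻¹ ∈ Subgroup.centralizer (F : Set G)
          rw [Coprime.mem_centralizer_iff_conj]
          intro a ha
          have h1 : (c : G)⁻¹ * a * c ∈ F := (Subgroup.mem_normalizer_iff.mp
            (le_normalizer_fittingOf H hcH) _).mpr (by simpa [mul_assoc] using ha)
          calc (c : G) * x * (c : G)⁻¹ * a * ((c : G) * x * (c : G)⁻¹)⁻¹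
              = (c : G) * (x * ((c : G)⁻¹ * a * c) * (x : G)⁻¹) * (c : G)⁻¹ := by group
            _ = a := by
              have hxC : (x : G) ∈ Subgroup.centralizer (F : Set G) := (hQ₀X hx).2
              rw [Coprime.mem_centralizer_iff_conj.mp hxC _ h1]; group
        have heZ := hXint e heR (mul_mem hcN (inv_mem (hQ₀X hx)))
        have hex : Commute e (x : G) :=
          (show Commute (x : G) e from (Subgroup.mem_centralizer_iff.mp (hQ₀X hx).2 e heZ.1).symm).symm
        have hek : e ^ orderOf (x : G) = 1 := by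
          have h1 : (e * (x : G)) ^ orderOf (x : G) = 1 := by
            rw [hedef, inv_mul_cancel_right, conj_pow, pow_orderOf_eq_one, mul_one, mul_inv_cancel]
          rwa [hex.mul_pow, pow_orderOf_eq_one, mul_one] at h1
        have he1 : e = 1 := orderOf_eq_one_iff.mp (Nat.eq_one_of_dvd_coprimes (hcopQ F le_rfl)
          (Subgroup.orderOf_dvd_natCard _ heZ.1)
          ((orderOf_dvd_of_pow_eq_one hek).trans (Subgroup.orderOf_dvd_natCard _ hx.1)))
        have : c * x = x * c := Subtype.ext (mul_inv_eq_iff_eq_mul.mp (mul_inv_eq_one.mp he1))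
        rw [← map_mul, ← map_mul, this]
    -- conclusion
    rw [Subgroup.commutator_eq_bot_iff_le_centralizer] at hTcent hScent
    have hT' := Subgroup.le_centralizer_iff.mp hTcent
    have hS' := Subgroup.le_centralizer_iff.mp hScent
    intro x hx
    have hZN : fitCenter s H ≤ N := (hZM s hs).trans hMN
    have hZQ : fitCenter s H ≤ Subgroup.normalizer (Q : Set G) := (hZM s hs).trans hMQ
    have hdec := eq_commutator_sup_centralizer hZQ (Or.inl (Coprime.isSolvable_of_isPGroup (isPGroup_fitCenter hs H)))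
      (hcopQ _ ((fitCenter_le_center hs H).trans inf_le_left))
    set C := ((Subgroup.centralizer (fitPart r Rb : Set (N ⧸ W.subgroupOf N))).comap φ).map N.subtype
    have hle : Q ≤ C := by
      rw [hdec]
      refine sup_le ?_ fun y hy => ⟨⟨y, hQN hy.1⟩, hS' ⟨⟨y, hQN hy.1⟩, hy, rfl⟩, rfl⟩
      rw [Subgroup.commutator_le]
      intro a ha z hz
      set a' : N := ⟨a, hQN ha⟩
      set z' : N := ⟨z, hZN hz⟩
      refine ⟨⁅a', z'⁆, ?_, rfl⟩
      show φ ⁅a', z'⁆ ∈ Subgroup.centralizer (V : Set (N ⧸ W.subgroupOf N))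
      rw [map_commutatorElement, commutatorElement_def]
      have haV := normalizer_le_normalizer_piCoreOf {r} Rb (hRbN a' (Subgroup.le_normalizer (hQR ha)))
      have hzc : φ z' ∈ Subgroup.centralizer (V : Set (N ⧸ W.subgroupOf N)) := hT' ⟨z', hz, rfl⟩
      refine mul_mem ?_ (inv_mem hzc)
      rw [Coprime.mem_centralizer_iff_conj]
      intro v hv
      have h1 : (φ a')⁻¹ * v * φ a' ∈ V :=
        (Subgroup.mem_normalizer_iff.mp haV _).mpr (by simpa [mul_assoc] using hv)
      calc φ a' * φ z' * (φ a')⁻¹ * v * (φ a' * φ z' * (φ a')⁻¹)⁻¹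
          = φ a' * (φ z' * ((φ a')⁻¹ * v * φ a') * (φ z')⁻¹) * (φ a')⁻¹ := by group
        _ = v := by rw [Coprime.mem_centralizer_iff_conj.mp hzc _ h1]; group
    obtain ⟨y, hy, hye⟩ := hle hx
    rwa [show y = x from Subtype.ext hye] at hy
  -- the image of `Q` is trivial
  have vanish : ∀ r : ℕ, r.Prime → ¬ r ∣ Nat.card F → fitPart r Rb = ⊥ := by
    intro r hr hrF
    haveI := Fact.mk hr
    set V := fitPart r Rb
    set Y := ((V.comap φ).map N.subtype) with hYdef
    have hYR : Y ≤ R := by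
      rintro _ ⟨y, hy, rfl⟩
      obtain ⟨y', hy', he⟩ := piCoreOf_le _ _ hy
      have : (y'⁻¹ * y : N) ∈ W.subgroupOf N := QuotientGroup.eq.mp he
      simpa using R.mul_mem hy' (hWR this)
    have hYn : R ≤ Subgroup.normalizer (Y : Set G) := fun x hx => mem_normalizer_of_conj_mem (by
      rintro _ ⟨y, hy, rfl⟩
      refine ⟨⟨x, hRN hx⟩ * y * ⟨x, hRN hx⟩⁻¹, ?_, rfl⟩
      rw [SetLike.mem_coe, Subgroup.mem_comap, map_mul, map_mul, map_inv]
      exact (Subgroup.mem_normalizer_iff.mp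
        (le_normalizer_piCoreOf {r} Rb
          (show φ ⟨x, hRN hx⟩ ∈ Rb from ⟨⟨x, hRN hx⟩, hx, rfl⟩)) _).mp hy)
    have hYπ : IsPiNat π (Nat.card Y) := by
      rw [hYdef, card_map_subtype, card_comap_mk]
      obtain ⟨k, hk⟩ := IsPGroup.iff_card.mp (isPGroup_fitPart hr Rb)
      rw [card_subgroupOf Subgroup.le_normalizer, hk]
      refine IsPiNat.mul ?_ ?_ <;>
        first
        | exact isPiNat_piCoreOf π R
        | exact isPiNat_prime_pow hr (show r ∈ π from ⟨hr, hrF⟩) k
    have hYW : Y ≤ W := le_piCoreOf hYR hYn hYπ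
    refine (Subgroup.eq_bot_iff_forall _).mpr fun v hv => ?_
    obtain ⟨y, rfl⟩ := QuotientGroup.mk'_surjective (W.subgroupOf N) v
    exact (hφ y).mpr (hYW ⟨y, hv, rfl⟩)
  intro x hx
  set x' : N := ⟨x, hRN (hQR hx)⟩
  refine (hφ x').mp ?_
  have hxR : φ x' ∈ Rb := ⟨x', hQR hx, rfl⟩
  have hxC : (⟨φ x', hxR⟩ : Rb) ∈ Subgroup.centralizer (fittingSubgroup Rb : Set Rb) := by
    have h : fittingOf Rb ≤ Subgroup.centralizer ({φ x'} : Set (N ⧸ W.subgroupOf N)) :=
      fittingOf_le_iff.mpr fun r hr v hv => by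
        rw [Subgroup.mem_centralizer_singleton_iff]
        by_cases hrF : r ∣ Nat.card F
        · exact Subgroup.mem_centralizer_iff.mp (cent r hr hrF x' hx) v hv
        · rw [vanish r hr hrF, Subgroup.mem_bot] at hv
          rw [hv, one_mul, mul_one]
    exact Subgroup.mem_centralizer_iff.mpr fun y hy => Subtype.ext
      (Subgroup.mem_centralizer_singleton_iff.mp (h ⟨y, hy, rfl⟩))
  have hxF : φ x' ∈ fittingOf Rb := ⟨_, centralizer_fittingSubgroup_le hxC, rfl⟩
  refine orderOf_eq_one_iff.mp (Nat.eq_one_of_dvd_coprimes ?_ (Subgroup.orderOf_dvd_natCard _ hxF)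
    ((orderOf_map_dvd φ x').trans ((Subgroup.orderOf_mk x _).symm ▸ Subgroup.orderOf_dvd_natCard Q hx)))
  refine Nat.coprime_of_dvd fun r hr h1 h2 => ?_
  exact (dvd_fitting_iff hr Rb).mp h1 (vanish r hr (hQπ r hr h2).2)

/-- `O_{r'}(C_L(P)) ≤ O_{r'}(L)` for a solvable group. -/
theorem le_coreOf_of_normal_in_centralizer {r : ℕ} [hr : Fact r.Prime] {L P K : Subgroup G}
    (hL : Group.IsSolvable L) (hP : IsPGroup r P) (hPL : P ≤ L) (hKL : K ≤ L)
    (hK : (Nat.card K).Coprime r) (hKP : K ≤ Subgroup.centralizer (P : Set G))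
    (hn : L ⊓ Subgroup.centralizer (P : Set G) ≤ Subgroup.normalizer (K : Set G)) :
    K ≤ (pPrimeCore r L).map L.subtype := by
  haveI := hL
  set O := pPrimeCore r L
  set φ := QuotientGroup.mk' O
  set P₀ := P.subgroupOf L
  set K₀ := K.subgroupOf L
  have hP₀ : IsPGroup r P₀ := hP.comap_subtype
  set V := pCore r (L ⧸ O)
  have hV : IsPGroup r V := isPGroup_pCore r _
  have hcomm : ∀ a ∈ P₀, ∀ b ∈ K₀, a * b = b * a := fun a ha b hb =>
    Subtype.ext (Subgroup.mem_centralizer_iff.mp (hKP hb) _ ha)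
  haveI : Group.IsSolvable (K₀.map φ) :=
    Group.isSolvable_of_surjective (φ.subgroupMap_surjective K₀)
  have hKcop : (Nat.card (K₀.map φ)).Coprime r :=
    Nat.Coprime.coprime_dvd_left ((Subgroup.card_map_dvd _ _).trans (card_subgroupOf hKL).dvd) hK
  have hVn : ∀ S : Subgroup (L ⧸ O), S ≤ Subgroup.normalizer (V : Set (L ⧸ O)) := fun S =>
    le_top.trans (Subgroup.normalizer_eq_top V).ge
  have h : ⁅V, K₀.map φ⁆ = ⊥ := by
    refine Coprime.commutator_eq_bot_of_PxQ (hP₀.map φ) hKcop ?_ _ V rfl hV (hVn _) (hVn _) ?_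
    · rw [Subgroup.commutator_eq_bot_iff_le_centralizer]
      rintro _ ⟨a, ha, rfl⟩
      refine Subgroup.mem_centralizer_iff.mpr ?_
      rintro _ ⟨b, hb, rfl⟩
      rw [← map_mul, ← map_mul, hcomm a ha b hb]
    · rw [Subgroup.commutator_eq_bot_iff_le_centralizer]
      intro v hv
      refine Subgroup.mem_centralizer_iff.mpr ?_
      rintro _ ⟨b, hb, rfl⟩
      obtain ⟨y, rfl⟩ := QuotientGroup.mk'_surjective O v
      have hfix : ∀ t ∈ P₀, y * t * y⁻¹ * t⁻¹ ∈ O := fun t ht => by
        refine (QuotientGroup.eq_one_iff _).mp (show φ (y * t * y⁻¹ * t⁻¹) = 1 from ?_)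
        rw [map_mul, map_mul, map_mul, map_inv, map_inv,
          ← Subgroup.mem_centralizer_iff.mp hv.2 (φ t) ⟨t, ht, rfl⟩, mul_inv_cancel_right, mul_inv_cancel]
      obtain ⟨k, hk, hkn⟩ := ThompsonComplement.exists_mul_normalizes hP₀ (card_pPrimeCore_coprime r L)
        (g := y) (fun t ht => by
          rw [sup_comm]
          simpa using Subgroup.mul_mem_sup (hfix t ht) ht)
      set c := k * y
      have hcy : φ c = φ y := by
        rw [map_mul, show φ k = 1 from (QuotientGroup.eq_one_iff k).mpr hk, one_mul]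
      have hcC : (c : G) ∈ Subgroup.centralizer (P : Set G) := by
        refine Subgroup.mem_centralizer_iff.mpr fun z hz => ?_
        set z' : L := ⟨z, hPL hz⟩
        have hz' : z' ∈ P₀ := hz
        have h1 : c * z' * c⁻¹ * z'⁻¹ ∈ P₀ :=
          mul_mem ((Subgroup.mem_normalizer_iff.mp hkn z').mp hz') (inv_mem hz')
        have h2 : c * z' * c⁻¹ * z'⁻¹ ∈ O := by
          rw [← QuotientGroup.ker_mk' O, MonoidHom.mem_ker, map_mul, map_mul, map_mul, map_inv, map_inv, hcy,
            ← Subgroup.mem_centralizer_iff.mp hv.2 (φ z') ⟨z', hz', rfl⟩, mul_inv_cancel_right, mul_inv_cancel]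
        have h3 := ThompsonComplement.eq_one_of_mem hP₀ h1
          ((card_pPrimeCore_coprime r L).coprime_dvd_left (Subgroup.orderOf_dvd_natCard _ h2))
        exact (congrArg Subtype.val (mul_inv_eq_iff_eq_mul.mp (mul_inv_eq_one.mp h3))).symm
      have h1 : φ (c * b * c⁻¹ * b⁻¹) ∈ V := by
        rw [map_mul, map_mul, map_mul, map_inv, map_inv, hcy,
          show φ y * φ b * (φ y)⁻¹ * (φ b)⁻¹ = φ y * (φ b * (φ y)⁻¹ * (φ b)⁻¹) by group]
        exact mul_mem hv.1 ((inferInstance : V.Normal).conj_mem _ (inv_mem hv.1) _)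
      have h2 : φ (c * b * c⁻¹ * b⁻¹) ∈ K₀.map φ := ⟨_, mul_mem
        ((Subgroup.mem_normalizer_iff.mp (hn ⟨c.2, hcC⟩) (b : G)).mp hb) (inv_mem hb), rfl⟩
      have h3 := ThompsonComplement.eq_one_of_mem hV h1
        (hKcop.coprime_dvd_left (Subgroup.orderOf_dvd_natCard _ h2))
      rw [map_mul, map_mul, map_mul, map_inv, map_inv, hcy] at h3
      exact (mul_inv_eq_iff_eq_mul.mp (mul_inv_eq_one.mp h3)).symm
  have hKV : K₀.map φ ≤ V :=
    (Subgroup.le_centralizer_iff.mp (Subgroup.commutator_eq_bot_iff_le_centralizer.mp h)).trans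
      (centralizer_pCore_le_of_isSolvable (pPrimeCore_quotient_pPrimeCore r L))
  intro x hx
  refine ⟨⟨x, hKL hx⟩, ?_, rfl⟩
  have hmem : φ ⟨x, hKL hx⟩ ∈ K₀.map φ := ⟨_, hx, rfl⟩
  exact (QuotientGroup.eq_one_iff _).mp (ThompsonComplement.eq_one_of_mem hV (hKV hmem)
    (hKcop.coprime_dvd_left (Subgroup.orderOf_dvd_natCard _ hmem)))

/-- Two maximal subgroups with intertwined Fitting subgroups: `O_r(H) ≤ O_r(L)`. -/
theorem fitPart_le {H L : Subgroup G} (hL : Group.IsSolvable L)
    (hCZ : ∀ r : ℕ, r.Prime → r ∣ Nat.card (fittingOf H) →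
      Subgroup.centralizer (fitCenter r H : Set G) ≤ H)
    (hF2 : 2 ≤ (Nat.card (fittingOf H)).primeFactors.card) (hFL : fittingOf H ≤ L)
    (hOL : ∀ X : Subgroup G, X ≤ L → L ≤ Subgroup.normalizer (X : Set G) →
      IsPiNat (primesNotDvd (Nat.card (fittingOf H))) (Nat.card X) → X = ⊥)
    {r : ℕ} (hr : r.Prime) : fitPart r H ≤ fitPart r L := by
  haveI := Fact.mk hr
  set F := fittingOf H with hFdef
  by_cases hrF : r ∣ Nat.card F
  swap
  · rw [not_not.mp (fun h => hrF ((dvd_fitting_iff hr H).mpr h))]; exact bot_le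
  have key : ∀ r s : ℕ, r.Prime → s.Prime → r ≠ s → r ∣ Nat.card F →
      fitPart s H ≤ (pPrimeCore r L).map L.subtype := by
    intro r s hr hs hrs hrF
    haveI := Fact.mk hr
    haveI := Fact.mk hs
    refine le_coreOf_of_normal_in_centralizer hL (isPGroup_fitCenter hr H)
      (((fitCenter_le_center hr H).trans inf_le_left).trans hFL) ((fitPart_le_fittingOf hs H).trans hFL)
      ?_ (fun y hy => Subgroup.mem_centralizer_iff.mpr fun z hz =>
        (Subgroup.mem_centralizer_iff.mp (fitCenter_le_center hr H hz).2 y (fitPart_le_fittingOf hs H hy)).symm)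
      ((inf_le_right.trans (hCZ r hr hrF)).trans (le_normalizer_piCoreOf _ _))
    obtain ⟨k, hk⟩ := IsPGroup.iff_card.mp (isPGroup_fitPart hs H)
    rw [hk]; exact ((Nat.coprime_primes hs hr).mpr hrs.symm).pow_left k
  set ρ : Set ℕ := insert r (primesNotDvd (Nat.card F))
  set J : Subgroup L := ⨅ s : {s : ℕ // s.Prime ∧ s ∣ Nat.card F ∧ s ≠ r}, pPrimeCore (s : ℕ) L
  have hJn : J.Normal := Subgroup.normal_iInf_normal fun s => inferInstance
  have hJρ : IsPiNat ρ (Nat.card J) := by
    intro t ht htJ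
    by_cases htr : t = r
    · exact Set.mem_insert_iff.mpr (Or.inl htr)
    refine Set.mem_insert_iff.mpr (Or.inr ⟨ht, fun htF => ?_⟩)
    haveI := Fact.mk ht
    have hle : J ≤ pPrimeCore t L :=
      iInf_le (fun s : {s : ℕ // s.Prime ∧ s ∣ Nat.card F ∧ s ≠ r} => pPrimeCore (s : ℕ) L) ⟨t, ht, htF, htr⟩
    exact not_dvd_card_pPrimeCore t L (htJ.trans (Subgroup.card_dvd_of_le hle))
  set X := J.map L.subtype with hXdef
  have hFX : fitPart r H ≤ X := fun x hx => by
    refine ⟨⟨x, hFL (fitPart_le_fittingOf hr H hx)⟩, ?_, rfl⟩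
    refine Subgroup.mem_iInf.mpr fun s => ?_
    obtain ⟨y, hy, hye⟩ := key s r s.2.1 hr s.2.2.2 s.2.2.1 hx
    rwa [show (⟨x, hFL (fitPart_le_fittingOf hr H hx)⟩ : L) = y from Subtype.ext hye.symm]
  -- `X` centralises `O_s(H)` for `s ≠ r`, hence lies in `H`
  obtain ⟨s, hs, hsr⟩ := Finset.exists_mem_ne hF2 r
  obtain ⟨hs, hsF, -⟩ := Nat.mem_primeFactors.mp hs
  have hbot : J ⊓ pPrimeCore r L = ⊥ := by
    have hn : (J ⊓ pPrimeCore r L).Normal := inferInstance
    have h := hOL ((J ⊓ pPrimeCore r L).map L.subtype) (Subgroup.map_subtype_le _) (fun x hx =>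
      mem_normalizer_of_conj_mem (by
        rintro _ ⟨y, hy, rfl⟩
        exact ⟨⟨x, hx⟩ * y * ⟨x, hx⟩⁻¹, hn.conj_mem y hy _, rfl⟩)) (fun t ht htd => by
          rw [card_map_subtype] at htd
          refine (Set.mem_insert_iff.mp (hJρ t ht (htd.trans (Subgroup.card_dvd_of_le inf_le_left)))).resolve_left ?_
          rintro rfl
          exact not_dvd_card_pPrimeCore t L (htd.trans (Subgroup.card_dvd_of_le inf_le_right)))
    exact (Subgroup.map_eq_bot_iff_of_injective _ L.subtype_injective).mp h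
  have hXH : X ≤ H := by
    refine le_trans ?_ (hCZ s hs hsF)
    rintro _ ⟨a, ha, rfl⟩
    refine Subgroup.mem_centralizer_iff.mpr fun z hz => ?_
    obtain ⟨b, hb, rfl⟩ := key r s hr hs hsr.symm hrF hz.1
    have h1 : b * a * b⁻¹ * a⁻¹ ∈ J ⊓ pPrimeCore r L := by
      refine ⟨J.mul_mem (hJn.conj_mem a ha b) (J.inv_mem ha), ?_⟩
      rw [show b * a * b⁻¹ * a⁻¹ = b * (a * b⁻¹ * a⁻¹) by group]
      exact (pPrimeCore r L).mul_mem hb
        ((inferInstance : (pPrimeCore r L).Normal).conj_mem _ ((pPrimeCore r L).inv_mem hb) a)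
    rw [hbot, Subgroup.mem_bot] at h1
    exact congrArg Subtype.val (mul_inv_eq_iff_eq_mul.mp (mul_inv_eq_one.mp h1))
  -- `O_r(H) ≤ O_r(X) ≤ O_r(L)`
  have hXn : L ≤ Subgroup.normalizer (X : Set G) := fun x hx => mem_normalizer_of_conj_mem (by
    rintro _ ⟨y, hy, rfl⟩
    exact ⟨⟨x, hx⟩ * y * ⟨x, hx⟩⁻¹, hJn.conj_mem y hy _, rfl⟩)
  refine le_trans (le_piCoreOf hFX (hXH.trans (le_normalizer_piCoreOf _ _)) (isPiNat_piCoreOf _ _))
    (le_piCoreOf ((piCoreOf_le _ _).trans (Subgroup.map_subtype_le _))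
      (hXn.trans (normalizer_le_normalizer_piCoreOf _ _)) (isPiNat_piCoreOf _ _))

/-- Bender's uniqueness theorem. -/
theorem bender_uniqueness (hG : IsMinSimpleOddOrder G) {H : Subgroup G} (hH : IsCoatom H)
    (hF2 : 2 ≤ (Nat.card (fittingOf H)).primeFactors.card) {M : Subgroup G} (hM : M ≤ fittingOf H)
    (hZM : fittingOf H ⊓ Subgroup.centralizer (fittingOf H : Set G) ≤ M)
    (hinv : ∀ Y ∈ invSubgroups ⊤ M (primesNotDvd (Nat.card (fittingOf H))), Y = ⊥)
    {L : Subgroup G} (hL : IsCoatom L) (hML : M ≤ L) : L = H := by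
  set F := fittingOf H with hFdef
  set π := primesNotDvd (Nat.card F)
  have norm_eq : ∀ {K X : Subgroup G}, IsCoatom K → X ≤ K → K ≤ Subgroup.normalizer (X : Set G) → X ≠ ⊥ →
      Subgroup.normalizer (X : Set G) = K := fun {K X} hK hXK hn h0 =>
    (hK.le_iff.mp hn).resolve_left (normalizer_ne_top hG h0 fun h => hK.1 (top_le_iff.mp (h ▸ hXK)))
  have hCZ : ∀ K : Subgroup G, IsCoatom K → ∀ r : ℕ, r.Prime → r ∣ Nat.card (fittingOf K) →
      Subgroup.centralizer (fitCenter r K : Set G) ≤ K := fun K hK r hr hrK =>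
    (Subgroup.centralizer_le_normalizer _).trans (norm_eq hK (inf_le_left.trans (piCoreOf_le _ _))
      (le_normalizer_fitCenter r K) (fitCenter_ne_bot hr hrK)).le
  have hO : ∀ K : Subgroup G, M ≤ K → ∀ X : Subgroup G, X ≤ K → K ≤ Subgroup.normalizer (X : Set G) →
      IsPiNat π (Nat.card X) → X = ⊥ := fun K hMK X _ hn hX =>
    hinv X ⟨le_top, hX, hMK.trans hn⟩
  have hLs : Group.IsSolvable L := isSolvable_proper hG hL.1
  have hHs : Group.IsSolvable H := isSolvable_proper hG hH.1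
  have hZL : ∀ r : ℕ, r.Prime → fitCenter r H ≤ L := fun r hr => (fitCenter_le_center hr H).trans (hZM.trans hML)
  have hUbot : ∀ t : ℕ, t.Prime → ¬ t ∣ Nat.card F → fitPart t L = ⊥ := by
    intro t ht htF
    haveI := Fact.mk ht
    refine hO L hML _ (piCoreOf_le _ _) (le_normalizer_piCoreOf _ _) ?_
    obtain ⟨k, hk⟩ := IsPGroup.iff_card.mp (isPGroup_fitPart ht L)
    rw [hk]
    exact isPiNat_prime_pow ht (show t ∈ π from ⟨ht, htF⟩) k
  have hFn : ∀ r : ℕ, H ≤ Subgroup.normalizer (fitPart r H : Set G) := fun r => le_normalizer_piCoreOf _ _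
  -- `Z_s` centralises `O_r(L)`
  have hzu : ∀ r s : ℕ, r.Prime → s.Prime → r ≠ s → r ∣ Nat.card F →
      fitCenter s H ≤ Subgroup.centralizer (fitPart r L : Set G) := by
    intro r s hr hs hrs hrF
    haveI := Fact.mk hr
    haveI := Fact.mk hs
    haveI : Group.IsSolvable (fitCenter s H) := Coprime.isSolvable_of_isPGroup (isPGroup_fitCenter hs H)
    have hcop : (Nat.card (fitCenter s H)).Coprime r := by
      obtain ⟨k, hk⟩ := IsPGroup.iff_card.mp (isPGroup_fitCenter hs H)
      rw [hk]; exact ((Nat.coprime_primes hs hr).mpr hrs.symm).pow_left k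
    have h := Coprime.commutator_eq_bot_of_PxQ (isPGroup_fitCenter hr H) hcop ?_ _ (fitPart r L) rfl
      (isPGroup_fitPart hr L) ((hZL r hr).trans (le_normalizer_piCoreOf _ _))
      ((hZL s hs).trans (le_normalizer_piCoreOf _ _)) ?_
    · exact Subgroup.le_centralizer_iff.mp (Subgroup.commutator_eq_bot_iff_le_centralizer.mp h)
    · exact Subgroup.commutator_eq_bot_iff_le_centralizer.mpr fun a ha =>
        Subgroup.mem_centralizer_iff.mpr fun b hb => (fitCenter_commute hr hs H ha hb).symm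
    · refine Subgroup.commutator_eq_bot_iff_le_centralizer.mpr fun c hc =>
        Subgroup.mem_centralizer_iff.mpr fun z hz => ?_
      have hcH := hCZ H hH r hr hrF hc.2
      have h1 : z * c * z⁻¹ * c⁻¹ ∈ fitPart r L :=
        mul_mem ((Subgroup.mem_normalizer_iff.mp (le_normalizer_piCoreOf _ _ (hZL s hs hz)) c).mp hc.1)
          (inv_mem hc.1)
      have h2 : z * c * z⁻¹ * c⁻¹ ∈ fitCenter s H := by
        rw [show z * c * z⁻¹ * c⁻¹ = z * (c * z⁻¹ * c⁻¹) by group]
        exact mul_mem hz ((Subgroup.mem_normalizer_iff.mp (le_normalizer_fitCenter s H hcH) _).mp (inv_mem hz))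
      exact mul_inv_eq_iff_eq_mul.mp (mul_inv_eq_one.mp
        (eq_one_of_mem_pGroups hr hs hrs (isPGroup_fitPart hr L) (isPGroup_fitCenter hs H) h1 h2))
  -- same primes
  have hsame : ∀ s : ℕ, s.Prime → (s ∣ Nat.card (fittingOf L) ↔ s ∣ Nat.card F) := by
    intro s hs
    haveI := Fact.mk hs
    refine ⟨fun h => ?_, fun hsF => ?_⟩
    · by_contra hsF
      exact (dvd_fitting_iff hs L).mp h (hUbot s hs hsF)
    by_contra hsL
    refine fitCenter_ne_bot hs hsF ((Subgroup.eq_bot_iff_forall _).mpr fun z hz => ?_)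
    have hzC : fittingOf L ≤ Subgroup.centralizer ({z} : Set G) := fittingOf_le_iff.mpr fun r hr v hv => by
      rw [Subgroup.mem_centralizer_singleton_iff]
      by_cases hrF : r ∣ Nat.card F
      · by_cases hrs : r = s
        · subst hrs
          rw [show fitPart r L = ⊥ from not_not.mp fun h => hsL ((dvd_fitting_iff hr L).mpr h),
            Subgroup.mem_bot] at hv
          rw [hv, one_mul, mul_one]
        · exact Subgroup.mem_centralizer_iff.mp (hzu r s hr hs hrs hrF hz) v hv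
      · rw [hUbot r hr hrF, Subgroup.mem_bot] at hv
        rw [hv, one_mul, mul_one]
    haveI := hLs
    have hzF : z ∈ fittingOf L := ⟨⟨z, hZL s hs hz⟩, centralizer_fittingSubgroup_le
      (Subgroup.mem_centralizer_iff.mpr fun y hy => Subtype.ext
        (Subgroup.mem_centralizer_singleton_iff.mp (hzC ⟨y, hy, rfl⟩))), rfl⟩
    obtain ⟨k, hk⟩ := IsPGroup.iff_card.mp (isPGroup_fitCenter hs H)
    refine orderOf_eq_one_iff.mp (Nat.eq_one_of_dvd_coprimes
      (((Nat.Prime.coprime_iff_not_dvd hs).mpr hsL).pow_left k)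
      (hk ▸ Subgroup.orderOf_dvd_natCard _ hz) (Subgroup.orderOf_dvd_natCard _ hzF))
  have hUH : ∀ r : ℕ, r.Prime → fitPart r L ≤ H := by
    intro r hr
    by_cases hrF : r ∣ Nat.card F
    · obtain ⟨s, hs, hsr⟩ := Finset.exists_mem_ne hF2 r
      obtain ⟨hs, hsF, -⟩ := Nat.mem_primeFactors.mp hs
      exact (Subgroup.le_centralizer_iff.mp (hzu r s hr hs hsr.symm hrF)).trans (hCZ H hH s hs hsF)
    · rw [hUbot r hr hrF]; exact bot_le
  have hFL : F ≤ L := by
    refine fittingOf_le_iff.mpr fun s hs => ?_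
    by_cases hsF : s ∣ Nat.card F
    swap
    · rw [not_not.mp fun h => hsF ((dvd_fitting_iff hs H).mpr h)]; exact bot_le
    haveI := Fact.mk hs
    obtain ⟨r, hr, hrs⟩ := Finset.exists_mem_ne hF2 s
    obtain ⟨hr, hrF, -⟩ := Nat.mem_primeFactors.mp hr
    haveI := Fact.mk hr
    haveI : Group.IsSolvable (fitPart r L) := Coprime.isSolvable_of_isPGroup (isPGroup_fitPart hr L)
    have hcop : (Nat.card (fitPart r L)).Coprime s := by
      obtain ⟨k, hk⟩ := IsPGroup.iff_card.mp (isPGroup_fitPart hr L)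
      rw [hk]; exact ((Nat.coprime_primes hr hs).mpr hrs).pow_left k
    have h := Coprime.commutator_eq_bot_of_PxQ (isPGroup_fitPart hs L) hcop ?_ _ (fitPart s H) rfl
      (isPGroup_fitPart hs H) ((hUH s hs).trans (hFn s)) ((hUH r hr).trans (hFn s)) ?_
    · refine (Subgroup.commutator_eq_bot_iff_le_centralizer.mp h).trans ((Subgroup.centralizer_le_normalizer _).trans ?_)
      exact (norm_eq hL (piCoreOf_le _ _) (le_normalizer_piCoreOf _ _)
        ((dvd_fitting_iff hr L).mp ((hsame r hr).mpr hrF))).le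
    · exact Subgroup.commutator_eq_bot_iff_le_centralizer.mpr (fitPart_le_centralizer hs hr hrs.symm L)
    · refine Subgroup.commutator_eq_bot_iff_le_centralizer.mpr fun c hc =>
        Subgroup.mem_centralizer_iff.mpr fun u hu => ?_
      have hcL : c ∈ L := hCZ L hL s hs ((hsame s hs).mpr hsF)
        (Subgroup.centralizer_le (inf_le_left : fitCenter s L ≤ fitPart s L) hc.2)
      have h1 : u * c * u⁻¹ * c⁻¹ ∈ fitPart s H :=
        mul_mem ((Subgroup.mem_normalizer_iff.mp (hFn s (hUH r hr hu)) c).mp hc.1) (inv_mem hc.1)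
      have h2 : u * c * u⁻¹ * c⁻¹ ∈ fitPart r L := by
        rw [show u * c * u⁻¹ * c⁻¹ = u * (c * u⁻¹ * c⁻¹) by group]
        exact mul_mem hu ((Subgroup.mem_normalizer_iff.mp (le_normalizer_piCoreOf _ _ hcL) _).mp (inv_mem hu))
      exact mul_inv_eq_iff_eq_mul.mp (mul_inv_eq_one.mp
        (eq_one_of_mem_pGroups hs hr hrs.symm (isPGroup_fitPart hs H) (isPGroup_fitPart hr L) h1 h2))
  have hMH : M ≤ H := hM.trans (fittingOf_le H)
  have hpf : (Nat.card (fittingOf L)).primeFactors = (Nat.card F).primeFactors := by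
    ext s
    simp only [Nat.mem_primeFactors, ne_eq, Nat.card_pos.ne', not_false_eq_true, and_true]
    exact ⟨fun h => ⟨h.1, (hsame s h.1).mp h.2⟩, fun h => ⟨h.1, (hsame s h.1).mpr h.2⟩⟩
  obtain ⟨r, hr⟩ := Finset.card_pos.mp (by omega : 0 < (Nat.card F).primeFactors.card)
  obtain ⟨hr, hrF, -⟩ := Nat.mem_primeFactors.mp hr
  have hπL : primesNotDvd (Nat.card (fittingOf L)) = π := by
    ext t
    exact and_congr_right fun ht => not_congr (hsame t ht)
  have h1 : fitPart r H ≤ fitPart r L :=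
    fitPart_le hLs (hCZ H hH) hF2 hFL (hO L hML) hr
  have h2 : fitPart r L ≤ fitPart r H :=
    fitPart_le hHs (hCZ L hL) (hpf ▸ hF2) (fittingOf_le_iff.mpr hUH) (hπL ▸ hO H hMH) hr
  have h3 := norm_eq hH (piCoreOf_le _ _) (hFn r) ((dvd_fitting_iff hr H).mp hrF)
  have h4 := norm_eq hL (piCoreOf_le _ _) (le_normalizer_piCoreOf {r} L)
    ((dvd_fitting_iff hr L).mp ((hsame r hr).mpr hrF))
  exact h4.symm.trans ((congrArg (fun X : Subgroup G => Subgroup.normalizer (X : Set G))
    (le_antisymm h2 h1)).trans h3)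

end Cfsg.Agent.Core.BG
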