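/-
Minimal simple groups of odd order: a noncyclic elementary abelian uniqueness criterion.
-/
import Cfsg.Agent.Core.BG.Transitivity
import Cfsg.Agent.Core.PPrimeP
import Cfsg.Agent.OddLocal.RankTwo.Structure
import Cfsg.Agent.OddLocal.RankTwo.Narrow
import Cfsg.Agent.OddLocal.Stability65
import Cfsg.Agent.FGS4.Subnormal
import Cfsg.Agent.S1458

set_option autoImplicit false
set_option linter.style.haveILetI false
set_option linter.unusedSectionVars false

namespace Cfsg.Agent.Core.BG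

open Cfsg
open Cfsg.Agent.Coprime (map_conj_mem map_conj_le_iff exists_mul_of_mem_sup mem_normalizer_of_conj_mem)

variable {G : Type*} [Group G] [Finite G] {p : ℕ} [hp : Fact p.Prime]

/-- `O_{p'}(X)` as a subgroup of the ambient group. -/
def coreOf (p : ℕ) (X : Subgroup G) : Subgroup G := (pPrimeCore p X).map X.subtype

omit hp in
theorem coreOf_le (X : Subgroup G) : coreOf p X ≤ X := Subgroup.map_subtype_le _

theorem not_dvd_card_coreOf (X : Subgroup G) : ¬ p ∣ Nat.card (coreOf p X) := by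
  rw [coreOf, card_map_subtype]
  exact not_dvd_card_pPrimeCore p X

omit hp in
theorem le_normalizer_coreOf (X : Subgroup G) : X ≤ Subgroup.normalizer (coreOf p X : Set G) := by
  intro x hx
  refine mem_normalizer_of_conj_mem ?_
  rintro _ ⟨y, hy, rfl⟩
  exact ⟨⟨x, hx⟩ * y * ⟨x, hx⟩⁻¹, (inferInstance : (pPrimeCore p X).Normal).conj_mem y hy _, rfl⟩

omit hp in
theorem relIndex_sup_of_normal {X : Type*} [Group X] [Finite X] (H N : Subgroup X) [N.Normal] :
    H.relIndex (H ⊔ N) = H.relIndex N := by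
  have h1 := card_sup_mul_card_inf H N
  have h2 := card_mul_relIndex (le_sup_left : H ≤ H ⊔ N)
  have h3 := card_mul_relIndex (inf_le_right : H ⊓ N ≤ N)
  rw [Subgroup.inf_relIndex_right] at h3
  refine Nat.eq_of_mul_eq_mul_left (Nat.mul_pos (Nat.card_pos (α := H)) (Nat.card_pos (α := ↥(H ⊓ N)))) ?_
  calc Nat.card H * Nat.card ↥(H ⊓ N) * H.relIndex (H ⊔ N)
      = (Nat.card H * H.relIndex (H ⊔ N)) * Nat.card ↥(H ⊓ N) := by ring
    _ = Nat.card ↥(H ⊔ N) * Nat.card ↥(H ⊓ N) := by rw [h2]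
    _ = Nat.card H * Nat.card N := h1
    _ = Nat.card H * (Nat.card ↥(H ⊓ N) * H.relIndex N) := by rw [h3]
    _ = Nat.card H * Nat.card ↥(H ⊓ N) * H.relIndex N := by ring

/-- A `p'`-subgroup of a solvable group normalized by a Sylow `p`-subgroup lies in the `p'`-core. -/
theorem le_coreOf_of_sylow (hp2 : Odd p) {M R L : Subgroup G} (hM : Group.IsSolvable M) (hR : IsPGroup p R)
    (hRM : R ≤ M) (hmax : ∀ T : Subgroup G, IsPGroup p T → R ≤ T → T ≤ M → T = R) (hLM : L ≤ M)
    (hL : ¬ p ∣ Nat.card L) (hRL : R ≤ Subgroup.normalizer (L : Set G)) : L ≤ coreOf p M := by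
  haveI := hM
  have key : L.subgroupOf M ≤ pPrimeCore p M := by
    refine OddChar.invariant_le_pPrimeCore_of_constrained hp2
      (centralizer_pCore_le_of_isSolvable (pPrimeCore_quotient_pPrimeCore p M))
      (hR.of_equiv (Subgroup.subgroupOfEquivOfLe hRM).symm) (fun x hx hxp => ?_) ?_ ?_
    · have hxC : (x : G) ∈ Subgroup.normalizer (R : Set G) := mem_normalizer_of_conj_mem fun e he => by
        rw [show (x : G) * e = e * x from (congrArg Subtype.val
          (Subgroup.mem_centralizer_iff.mp hx ⟨e, hRM he⟩ he)).symm, mul_inv_cancel_right]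
        exact he
      have hz : IsPGroup p (Subgroup.zpowers (x : G)) := by
        obtain ⟨j, -, hj⟩ := (Nat.dvd_prime_pow hp.out).mp (orderOf_dvd_of_pow_eq_one
          (x := (x : G)) (n := p ^ 1) (by rw [pow_one]; exact congrArg Subtype.val hxp))
        exact IsPGroup.of_card (n := j) (by rw [Nat.card_zpowers, hj])
      have h := hmax _ (hR.to_sup_of_normal_left' hz (Subgroup.zpowers_le.mpr hxC)) le_sup_left
        (sup_le hRM (Subgroup.zpowers_le.mpr x.2))
      exact h.le (Subgroup.mem_sup_right (Subgroup.mem_zpowers (x : G)))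
    · rw [card_subgroupOf hLM]
      exact ((Nat.Prime.coprime_iff_not_dvd hp.out).mpr hL).symm
    · exact fun e he => mem_normalizer_of_conj_mem fun y hy =>
        (Subgroup.mem_normalizer_iff.mp (hRL he) y).mp hy
  exact fun x hx => ⟨⟨x, hLM hx⟩, key (Subgroup.mem_subgroupOf.mpr hx), rfl⟩

/-- Growing a `p`-subgroup inside its normalizer. -/
theorem exists_normalizer_growth {R T : Subgroup G} (hT : IsPGroup p T) (hRT : R < T) :
    ∃ S : Subgroup G, IsPGroup p S ∧ R < S ∧ S ≤ T ∧ S ≤ Subgroup.normalizer (R : Set G) := by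
  obtain ⟨x, hx, hxR⟩ := exists_mem_normalizer_notMem hT hRT
  have hle : R ⊔ Subgroup.zpowers x ≤ T := sup_le hRT.le (Subgroup.zpowers_le.mpr hx.2)
  exact ⟨R ⊔ Subgroup.zpowers x, hT.to_le hle,
    lt_of_le_of_ne le_sup_left fun h => hxR (h.ge (Subgroup.mem_sup_right (Subgroup.mem_zpowers x))),
    hle, sup_le Subgroup.le_normalizer (Subgroup.zpowers_le.mpr hx.1)⟩

theorem centerThompsonOf_ne_bot {U : Subgroup G} (hU : IsPGroup p U) (hne : U ≠ ⊥) :
    centerThompsonOf p U ≠ ⊥ :=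
  ThompsonComplement.centre_ne_bot (hU.to_le (ThompsonComplement.thompsonSubgroupOf_le_self p U))
    (ThompsonComplement.thompsonSubgroupOf_ne_bot hU hne)

omit hp in
theorem normalizer_le_normalizer_centerThompsonOf (U : Subgroup G) :
    Subgroup.normalizer (U : Set G) ≤ Subgroup.normalizer (centerThompsonOf p U : Set G) := by
  intro g hg
  have hg' := ThompsonComplement.normalizer_le_normalizer_thompson p U hg
  rw [Subgroup.mem_normalizer_iff_map_conj_eq] at hg' ⊢
  exact (ThompsonComplement.centre_map _ (MulAut.conj g).injective.injOn).trans (by rw [hg']; rfl)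

/-- `X = O_{p'}(X) N_X(Z(J(R)))` in a solvable group of odd order. -/
theorem le_core_sup_zj (hodd : Odd (Nat.card G)) {X R : Subgroup G} (hX : Group.IsSolvable X)
    (hR : IsPGroup p R) (hRX : R ≤ X) (hmax : ∀ T : Subgroup G, IsPGroup p T → R ≤ T → T ≤ X → T = R) :
    X ≤ coreOf p X ⊔ (X ⊓ Subgroup.normalizer (centerThompsonOf p R : Set G)) := by
  haveI := hX
  have hR' : IsPGroup p (R.subgroupOf X) := hR.comap_subtype
  obtain ⟨S, hS⟩ := hR'.exists_le_sylow
  have hSR : (S : Subgroup X).map X.subtype = R := hmax _ (S.isPGroup'.map _)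
    (fun r hr => ⟨⟨r, hRX hr⟩, hS (Subgroup.mem_subgroupOf.mpr hr), rfl⟩) (Subgroup.map_subtype_le _)
  set O := pPrimeCore p X
  set Z := centerThompsonOf p (S : Subgroup X) with hZ
  have hn := Cfsg.Agent.S1458.result (hodd.of_dvd_nat (Subgroup.card_subgroup_dvd_card X)) p S
  have hZS : Z ≤ (S : Subgroup X) := inf_le_left.trans (ThompsonComplement.thompsonSubgroupOf_le_self p _)
  haveI := hn
  -- `Z` is a Sylow subgroup of the normal subgroup `Z O`
  have hidx : ¬ p ∣ (Z.subgroupOf (Z ⊔ O)).index := by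
    intro h
    have h1 : Z.relIndex (Z ⊔ O) = Z.relIndex O := relIndex_sup_of_normal Z O
    change p ∣ Z.relIndex (Z ⊔ O) at h
    rw [h1] at h
    exact not_dvd_card_pPrimeCore p X (h.trans (Subgroup.relIndex_dvd_card Z O))
  have hZp : IsPGroup p (Z.subgroupOf (Z ⊔ O)) := (S.isPGroup'.to_le hZS).comap_subtype
  have hfr := Sylow.normalizer_sup_eq_top (hZp.toSylow hidx)
  have hmap : ((hZp.toSylow hidx : Subgroup ↥(Z ⊔ O))).map (Z ⊔ O).subtype = Z := by
    show (Z.subgroupOf (Z ⊔ O)).map (Z ⊔ O).subtype = Z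
    rw [Subgroup.subgroupOf_map_subtype, inf_of_le_left le_sup_left]
  rw [hmap, ← sup_assoc] at hfr
  have h2 : Subgroup.normalizer (Z : Set X) ⊔ O = ⊤ := by
    rwa [sup_of_le_left (Subgroup.le_normalizer : Z ≤ Subgroup.normalizer (Z : Set X))] at hfr
  have hcomm : Z.map X.subtype = centerThompsonOf p R := by
    rw [hZ, ← hSR, centerThompsonOf, ThompsonComplement.centre_map _ X.subtype_injective.injOn,
      ThompsonComplement.thompsonSubgroupOf_map _ X.subtype_injective.injOn]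
    rfl
  have h3 := congrArg (Subgroup.map X.subtype) h2
  rw [Subgroup.map_sup, ← MonoidHom.range_eq_map, Subgroup.range_subtype] at h3
  calc X = _ := h3.symm
    _ ≤ _ := sup_le (le_sup_of_le_right (le_inf (Subgroup.map_subtype_le _) ?_)) le_sup_left
  rintro _ ⟨y, hy, rfl⟩
  rw [← hcomm]
  exact Subgroup.le_normalizer_map X.subtype ⟨y, hy, rfl⟩

/-- The data produced by Frattini for `O_{p',p}`. -/
theorem exists_pPrimePCore_sylow {X R : Subgroup G} (hR : IsPGroup p R) (hRX : R ≤ X)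
    (hmax : ∀ T : Subgroup G, IsPGroup p T → R ≤ T → T ≤ X → T = R) :
    ∃ U : Subgroup G, U ≤ R ∧ R ≤ Subgroup.normalizer (U : Set G) ∧
      X ≤ coreOf p X ⊔ (X ⊓ Subgroup.normalizer (U : Set G)) ∧
      ∀ A : Subgroup G, A ≤ R → A.subgroupOf X ≤ pPrimePCore p X → A ≤ U := by
  obtain ⟨S, hS⟩ := (hR.comap_subtype : IsPGroup p (R.subgroupOf X)).exists_le_sylow
  have hSR : (S : Subgroup X).map X.subtype = R := hmax _ (S.isPGroup'.map _)
    (fun r hr => ⟨⟨r, hRX hr⟩, hS (Subgroup.mem_subgroupOf.mpr hr), rfl⟩) (Subgroup.map_subtype_le _)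
  set P2 := pPrimePCore p X
  set O := pPrimeCore p X
  set U₀ := (S : Subgroup X) ⊓ P2 with hU₀
  have hidx : ¬ p ∣ (U₀.subgroupOf P2).index := by
    intro h
    change p ∣ U₀.relIndex P2 at h
    rw [hU₀, Subgroup.inf_relIndex_right, ← relIndex_sup_of_normal (S : Subgroup X) P2] at h
    exact S.not_dvd_index (h.trans ⟨_, (Subgroup.relIndex_mul_index le_sup_left).symm⟩)
  have hUp : IsPGroup p U₀ := S.isPGroup'.to_le inf_le_left
  have hfr := Sylow.normalizer_sup_eq_top (hUp.comap_subtype.toSylow hidx : Sylow p P2)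
  have hmapU : ((hUp.comap_subtype.toSylow hidx : Sylow p P2) : Subgroup P2).map P2.subtype = U₀ := by
    show (U₀.subgroupOf P2).map P2.subtype = U₀
    rw [Subgroup.subgroupOf_map_subtype, inf_of_le_left inf_le_right]
  rw [hmapU] at hfr
  -- `O_{p',p} = O_{p'} U₀`
  have hP2 : P2 ≤ O ⊔ U₀ := by
    rw [← Subgroup.relIndex_eq_one]
    obtain ⟨k, hk⟩ := relIndex_pPrimeCore_pPrimePCore (p := p) (G := X)
    have hd1 : (O ⊔ U₀).relIndex P2 ∣ p ^ k := hk ▸ Subgroup.relIndex_dvd_of_le_left P2 le_sup_left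
    have hd2 : (O ⊔ U₀).relIndex P2 ∣ (U₀.subgroupOf P2).index := Subgroup.relIndex_dvd_of_le_left P2 le_sup_right
    exact Nat.eq_one_of_dvd_coprimes (((Nat.Prime.coprime_iff_not_dvd hp.out).mpr hidx).pow_left k) hd1 hd2
  have h2 : O ⊔ Subgroup.normalizer (U₀ : Set X) = ⊤ := top_le_iff.mp (hfr.ge.trans
    (sup_le le_sup_right (hP2.trans (sup_le le_sup_left (le_sup_of_le_right Subgroup.le_normalizer)))))
  refine ⟨U₀.map X.subtype, hSR ▸ Subgroup.map_mono inf_le_left, ?_, ?_, fun A hAR hA a ha => ?_⟩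
  · rw [← hSR]
    refine le_trans ?_ (Subgroup.le_normalizer_map X.subtype)
    refine Subgroup.map_mono ((le_inf Subgroup.le_normalizer (le_top.trans
      (Subgroup.normalizer_eq_top P2).ge)).trans Subgroup.inf_normalizer_le_normalizer_inf)
  · have h3 := congrArg (Subgroup.map X.subtype) h2
    rw [Subgroup.map_sup, ← MonoidHom.range_eq_map, Subgroup.range_subtype] at h3
    calc X = _ := h3.symm
      _ ≤ _ := sup_le le_sup_left (le_sup_of_le_right (le_inf (Subgroup.map_subtype_le _)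
        (Subgroup.le_normalizer_map X.subtype)))
  · have haX : a ∈ X := hRX (hAR ha)
    refine ⟨⟨a, haX⟩, ⟨?_, hA (Subgroup.mem_subgroupOf.mpr ha)⟩, rfl⟩
    obtain ⟨y, hy, hye⟩ : a ∈ (S : Subgroup X).map X.subtype := hSR ▸ hAR ha
    rw [show (⟨a, haX⟩ : X) = y from Subtype.ext hye.symm]
    exact hy

theorem isSubnormal_subgroupOf_of_isPGroup {U A : Subgroup G} (hU : IsPGroup p U) :
    (A.subgroupOf U).IsSubnormal := by
  haveI := hU.isNilpotent
  exact FGS4.isSubnormal_of_isNilpotent _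

theorem pRankLE_of_sylow {X R : Subgroup G} (hR : IsPGroup p R) (hRX : R ≤ X)
    (hmax : ∀ T : Subgroup G, IsPGroup p T → R ≤ T → T ≤ X → T = R) {k : ℕ}
    (h : PRankLE p k R) : PRankLE p k X := by
  intro E hEc hEe
  obtain ⟨S, hS⟩ := (hR.comap_subtype : IsPGroup p (R.subgroupOf X)).exists_le_sylow
  have hSR : (S : Subgroup X).map X.subtype = R := hmax _ (S.isPGroup'.map _)
    (fun r hr => ⟨⟨r, hRX hr⟩, hS (Subgroup.mem_subgroupOf.mpr hr), rfl⟩) (Subgroup.map_subtype_le _)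
  have hEp : IsPGroup p E := fun e => ⟨1, Subtype.ext (by rw [pow_one]; exact hEe e e.2)⟩
  obtain ⟨T, hT⟩ := hEp.exists_le_sylow
  let e : ↥(T : Subgroup X) ≃* R := ((T.equiv S).trans
    ((S : Subgroup X).equivMapOfInjective X.subtype X.subtype_injective)).trans (MulEquiv.subgroupCongr hSR)
  let f : ↥E →* R := e.toMonoidHom.comp (Subgroup.inclusion hT)
  have hf : Function.Injective f := e.injective.comp (Subgroup.inclusion_injective hT)
  have h1 := h f.range ⟨⟨by
      rintro ⟨_, a, rfl⟩ ⟨_, b, rfl⟩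
      exact Subtype.ext (by rw [MulMemClass.coe_mul, MulMemClass.coe_mul, ← map_mul, ← map_mul, hEc.is_comm.comm a b])⟩⟩
    (by rintro _ ⟨a, rfl⟩; rw [← map_pow, show a ^ p = 1 from Subtype.ext (hEe a a.2), map_one])
  rwa [← Nat.card_congr (MonoidHom.ofInjective hf).toEquiv] at h1

/-- If every `B`-invariant `p'`-subgroup lies in the maximal subgroup `M`, then `M` is the only
maximal subgroup containing `B`. -/
theorem eq_of_inv_le (hG : IsMinSimpleOddOrder G) {M B : Subgroup G} (hM : IsCoatom M)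
    (hB : IsPGroup p B) (hB1 : B ≠ ⊥) (hBM : B ≤ M)
    (hY : ∀ Y : Subgroup G, ¬ p ∣ Nat.card Y → B ≤ Subgroup.normalizer (Y : Set G) → Y ≤ M)
    {L : Subgroup G} (hL : IsCoatom L) (hBL : B ≤ L) : L = M := by
  by_contra hne
  have hodd : Odd p := by
    obtain ⟨k, hk⟩ := IsPGroup.iff_card.mp hB
    have hk0 : k ≠ 0 := fun e => hB1 (Subgroup.eq_bot_of_card_eq B (by rw [hk, e, pow_zero]))
    exact hG.1.of_dvd_nat ((dvd_pow_self p hk0).trans (hk ▸ Subgroup.card_subgroup_dvd_card B))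
  have coat : ∀ X : Subgroup G, X ≠ ⊤ → ∃ X' : Subgroup G, IsCoatom X' ∧ X ≤ X' := fun X hX =>
    (eq_top_or_exists_le_coatom X).resolve_left hX
  have hMs : Group.IsSolvable M := isSolvable_proper hG hM.1
  obtain ⟨R, hBR, ⟨hR, hRM, L, hL, hRL, hne⟩, hRmax⟩ := (Set.toFinite {R : Subgroup G | IsPGroup p R ∧ R ≤ M ∧
    ∃ L : Subgroup G, IsCoatom L ∧ R ≤ L ∧ L ≠ M}).exists_le_maximal (a := B) ⟨hB, hBM, L, hL, hBL, hne⟩
  have hRne : R ≠ ⊥ := fun h => hB1 (le_bot_iff.mp (h ▸ hBR))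
  have hLs : Group.IsSolvable L := isSolvable_proper hG hL.1
  -- an overgroup meeting `M` in more than `R` lies in `M`
  have big : ∀ X : Subgroup G, X ≠ ⊤ → ∀ S : Subgroup G, IsPGroup p S → R < S → S ≤ M → S ≤ X → X ≤ M := by
    intro X hX S hS hRS hSM hSX
    obtain ⟨X', hX', hle⟩ := coat X hX
    by_contra hn
    exact hRS.not_ge (hRmax ⟨hS, hSM, X', hX', hSX.trans hle, fun e => hn (e ▸ hle)⟩ hRS.le)
  have hNR := normalizer_ne_top_of_isPGroup hG hRne hR
  set Z := centerThompsonOf p R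
  have hZp : IsPGroup p Z :=
    hR.to_le (inf_le_left.trans (ThompsonComplement.thompsonSubgroupOf_le_self p R))
  have hNZ := normalizer_ne_top_of_isPGroup hG (centerThompsonOf_ne_bot hR hRne) hZp
  have hRNZ : Subgroup.normalizer (R : Set G) ≤ Subgroup.normalizer (Z : Set G) :=
    normalizer_le_normalizer_centerThompsonOf R
  set W := coreOf p L
  have hWM : W ≤ M := hY W (not_dvd_card_coreOf L) ((hBR.trans hRL).trans (le_normalizer_coreOf L))
  have sylL : Subgroup.normalizer (R : Set G) ≤ M → ∀ T : Subgroup G, IsPGroup p T → R ≤ T → T ≤ L → T = R := by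
    intro hN T hT hRT hTL
    by_contra hTR
    obtain ⟨S, hS, hRS, hST, hSN⟩ := exists_normalizer_growth hT (lt_of_le_of_ne hRT (Ne.symm hTR))
    exact hRS.not_ge (hRmax ⟨hS, hSN.trans hN, L, hL, hST.trans hTL, hne⟩ hRS.le)
  have zfac : Subgroup.normalizer (R : Set G) ≤ M → ¬ Subgroup.normalizer (Z : Set G) ≤ M := fun hN hle =>
    hne ((hL.le_iff.mp ((le_core_sup_zj hG.1 hLs hR hRL (sylL hN)).trans
      (sup_le hWM (inf_le_right.trans hle)))).resolve_left hM.1).symm
  have sylM : ∀ T : Subgroup G, IsPGroup p T → R ≤ T → T ≤ M → T = R := by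
    intro T hT hRT hTM
    by_contra hTR
    obtain ⟨S, hS, hRS, hST, hSN⟩ := exists_normalizer_growth hT (lt_of_le_of_ne hRT (Ne.symm hTR))
    exact zfac (big _ hNR S hS hRS (hST.trans hTM) hSN)
      (big _ hNZ S hS hRS (hST.trans hTM) (hSN.trans hRNZ))
  set K := coreOf p M with hK
  have hinvK : ∀ Y : Subgroup G, ¬ p ∣ Nat.card Y → R ≤ Subgroup.normalizer (Y : Set G) → Y ≤ K :=
    fun Y hYp hYR => le_coreOf_of_sylow hodd hMs hR hRM sylM (hY Y hYp (hBR.trans hYR)) hYp hYR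
  have normK : ∀ X : Subgroup G, K ≠ ⊥ → X ≤ Subgroup.normalizer (K : Set G) → X ≤ M := fun X hK0 hX => by
    refine hX.trans (le_of_eq ((hM.le_iff.mp (le_normalizer_coreOf M)).resolve_left
      (normalizer_ne_top hG hK0 fun h => hM.1 (top_le_iff.mp (h ▸ coreOf_le M)))))
  have botK : K = ⊥ → Subgroup.normalizer (Z : Set G) ≤ M := fun hK0 => by
    have h := le_core_sup_zj hG.1 hMs hR hRM sylM
    rw [← hK, hK0, bot_sup_eq] at h
    exact ((hM.le_iff.mp (h.trans inf_le_right)).resolve_left hNZ).le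
  have hNRM : Subgroup.normalizer (R : Set G) ≤ M := by
    by_cases hK0 : K = ⊥
    · exact hRNZ.trans (botK hK0)
    refine normK _ hK0 fun g hg => mem_normalizer_of_conj_mem fun y hy => ?_
    refine hinvK (K.map (MulAut.conj g).toMonoidHom) ?_ ?_ ⟨y, hy, rfl⟩
    · rw [Coprime.card_map_conj]; exact not_dvd_card_coreOf M
    · intro r hr
      refine mem_normalizer_of_conj_mem fun z hz => ?_
      rw [map_conj_mem] at hz ⊢
      have hr' : g⁻¹ * r * g ∈ R := (Subgroup.mem_normalizer_iff.mp hg _).mpr (by simpa [mul_assoc] using hr)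
      have := (Subgroup.mem_normalizer_iff.mp (le_normalizer_coreOf M (hRM hr')) _).mp hz
      simpa [mul_assoc] using this
  have hsylL := sylL hNRM
  have hK0 : K ≠ ⊥ := fun h => zfac hNRM (botK h)
  obtain ⟨P, hP⟩ := hR.exists_le_sylow
  have hPR : (P : Subgroup G) = R := by
    by_contra h
    obtain ⟨S, hS, hRS, -, hSN⟩ := exists_normalizer_growth P.isPGroup' (lt_of_le_of_ne hP (Ne.symm h))
    exact hRS.not_ge (sylM S hS hRS.le (hSN.trans hNRM)).le
  obtain ⟨U, hUR, hRU, hLU, hUuniv⟩ := exists_pPrimePCore_sylow hR hRL hsylL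
  have hHM : ¬ Subgroup.normalizer (U : Set G) ≤ M := fun h =>
    hne ((hL.le_iff.mp (hLU.trans (sup_le hWM (inf_le_right.trans h)))).resolve_left hM.1).symm
  haveI := hLs
  have hLodd : Odd (Nat.card L) := hG.1.of_dvd_nat (Subgroup.card_subgroup_dvd_card L)
  have hpL : p ∣ Nat.card L := by
    refine dvd_trans ?_ (Subgroup.card_dvd_of_le hRL)
    obtain ⟨k, hk⟩ := IsPGroup.iff_card.mp hR
    exact hk ▸ dvd_pow_self p fun e => hRne (Subgroup.eq_bot_of_card_eq R (by rw [hk, e, pow_zero]))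
  have hp2 : p ≠ 2 := OddLocal.RankTwo.ne_two_of_dvd hLodd hpL
  by_cases hr : PRankLE p 2 R
  · obtain ⟨-, -, -, -, -, hidx⟩ := OddLocal.RankTwo.five hLodd hpL
      (OddLocal.RankTwo.oddAutSmall_core_of_pRankLE hp2 (pRankLE_of_sylow hR hRL hsylL hr))
    have hRP2 : R.subgroupOf L ≤ pPrimePCore p L := by
      obtain ⟨k, hk⟩ := IsPGroup.iff_card.mp hR
      refine le_of_coprime_index ?_
      rw [card_subgroupOf hRL, hk]
      exact hidx.symm.pow_left k
    have hUR' : U = R := le_antisymm hUR (hUuniv R le_rfl hRP2)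
    exact hHM (hUR'.symm ▸ hNRM)
  obtain ⟨A₀, -, hA₀n, hA₀c, hA₀r⟩ := OddLocal.RankTwo.exists_scn_three hp2
    (fun x => hR x : IsPGroup p R) hr ⊥ ⟨⟨⟨fun a b => Subsingleton.elim _ _⟩⟩, fun a ha => by
      rw [Subgroup.mem_bot.mp ha, one_pow]⟩
  set A := A₀.map R.subtype with hA
  have hAR : A ≤ R := Subgroup.map_subtype_le _
  have hAn : R ≤ Subgroup.normalizer (A : Set G) := fun r hr => mem_normalizer_of_conj_mem (by
    rintro _ ⟨a, ha, rfl⟩
    exact ⟨⟨r, hr⟩ * a * ⟨r, hr⟩⁻¹, hA₀n.conj_mem a ha _, rfl⟩)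
  have hAC : R ⊓ Subgroup.centralizer (A : Set G) = A := by
    refine le_antisymm ?_ (le_inf hAR ?_)
    · rintro x ⟨hx, hxC⟩
      refine ⟨⟨x, hx⟩, hA₀c.le (Subgroup.mem_centralizer_iff.mpr fun a ha => Subtype.ext ?_), rfl⟩
      exact Subgroup.mem_centralizer_iff.mp hxC a ⟨a, ha, rfl⟩
    · rintro _ ⟨a, ha, rfl⟩
      refine Subgroup.mem_centralizer_iff.mpr ?_
      rintro _ ⟨b, hb, rfl⟩
      exact congrArg Subtype.val (Subgroup.mem_centralizer_iff.mp (hA₀c.ge ha) b hb)
  have hAp : IsPGroup p A := hR.to_le hAR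
  have hAc : IsMulCommutative A := ⟨⟨fun a b => Subtype.ext
    (Subgroup.mem_centralizer_iff.mp (hAC.ge b.2).2 a a.2)⟩⟩
  have hAr : ¬ PRankLE p 2 A := fun h => hA₀r
    ((Components.pRankLE_congr (A₀.equivMapOfInjective R.subtype R.subtype_injective)).mpr h)
  have hAne : A ≠ ⊥ := fun h => hAr fun E _ _ => by
    have h1 : Nat.card E ≤ Nat.card A := Subgroup.card_le_card_group E
    exact h1.trans ((Subgroup.card_eq_one.mpr h).le.trans (Nat.one_le_pow _ _ hp.out.pos))
  have hpA : p ∣ Nat.card A := by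
    obtain ⟨k, hk⟩ := IsPGroup.iff_card.mp hAp
    exact hk ▸ dvd_pow_self p fun e => hAne (Subgroup.eq_bot_of_card_eq A (by rw [hk, e, pow_zero]))
  have hTA : TransitivityHypothesis A :=
    transitivityHypothesis_of_full hG (hpL.trans (Subgroup.card_subgroup_dvd_card L)) hAp hAne
      fun x hx hxp => OddChar.mem_of_mem_centralizer_pElement P (hPR ▸ hAn) (hPR ▸ hAC) hx
        ⟨1, by rw [pow_one]; exact hxp⟩
  have hAU : A ≤ U := by
    obtain ⟨S, hS⟩ := (hR.comap_subtype : IsPGroup p (R.subgroupOf L)).exists_le_sylow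
    have hSR : (S : Subgroup L).map L.subtype = R := hsylL _ (S.isPGroup'.map _)
      (fun r hr => ⟨⟨r, hRL hr⟩, hS (Subgroup.mem_subgroupOf.mpr hr), rfl⟩) (Subgroup.map_subtype_le _)
    refine hUuniv A hAR (OddLocal.le_pPrimePCore_of_abelian_normal hLodd S _ ?_ ?_)
    · exact ⟨⟨fun a b => Subtype.ext (Subtype.ext (show ((a : L) : G) * ((b : L) : G) = ((b : L) : G) * ((a : L) : G) from
        congrArg Subtype.val (hAc.is_comm.comm (⟨((a : L) : G), Subgroup.mem_subgroupOf.mp a.2⟩ : A)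
          ⟨((b : L) : G), Subgroup.mem_subgroupOf.mp b.2⟩)))⟩⟩
    · intro s hs
      have hsR : (s : G) ∈ R := hSR ▸ ⟨s, hs, rfl⟩
      exact mem_normalizer_of_conj_mem fun y hy => (Subgroup.mem_normalizer_iff.mp (hAn hsR) y).mp hy
  have hUne : U ≠ ⊥ := fun h => hAne (le_bot_iff.mp (h ▸ hAU))
  have hRtop : R ≠ ⊤ := fun h => hM.1 (top_le_iff.mp (h ▸ hRM))
  have hUtop : U ≠ ⊤ := fun h => hRtop (top_le_iff.mp (h ▸ hUR))
  have hπ : ∀ X : Subgroup G, IsPGroup p X → ∀ r : ℕ, r.Prime → r ∣ Nat.card X → r ∣ Nat.card A := by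
    intro X hX r hr hrd
    obtain ⟨k, hk⟩ := IsPGroup.iff_card.mp hX
    rw [hk] at hrd
    rwa [(Nat.prime_dvd_prime_iff_eq hr hp.out).mp (hr.dvd_of_dvd_pow hrd)]
  obtain ⟨hTU, hsetU⟩ := transitivityHypothesis_overgroup hTA hUtop hAU (hπ U (hR.to_le hUR))
  set D := piCoreOf (primesNotDvd (Nat.card U)) (Subgroup.centralizer (U : Set G))
  have hDK : D ≤ K := by
    refine hinvK D (fun h => ?_) ?_
    · exact ((hsetU ▸ isPiNat_piCoreOf _ _ : IsPiNat (primesNotDvd (Nat.card A)) (Nat.card D)) p hp.out h).2 hpA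
    · refine le_trans (fun r hr => ?_) (normalizer_le_normalizer_piCoreOf _ _)
      refine mem_normalizer_of_conj_mem fun y hy => ?_
      rw [Coprime.mem_centralizer_iff_conj] at hy ⊢
      intro a ha
      have h1 : r⁻¹ * a * r ∈ U :=
        (Subgroup.mem_normalizer_iff.mp (hRU hr) _).mpr (by simpa [mul_assoc] using ha)
      calc r * y * r⁻¹ * a * (r * y * r⁻¹)⁻¹ = r * (y * (r⁻¹ * a * r) * y⁻¹) * r⁻¹ := by group
        _ = a := by rw [hy _ h1]; group
  refine hHM (normK _ hK0 fun g hg => ?_)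
  have hcard : Nat.card (K.map (MulAut.conj g⁻¹).toMonoidHom) = Nat.card K := Coprime.card_map_conj K g⁻¹
  have hle : K ≤ K.map (MulAut.conj g⁻¹).toMonoidHom := by
    refine Coprime.le_of_forall_invariant_sylow fun q hq => ?_
    by_cases hqp : q = p
    · subst hqp
      exact ⟨⊥, bot_le, bot_le, by rw [Subgroup.relIndex_bot_left]; exact not_dvd_card_coreOf M⟩
    haveI := Fact.mk hq
    have hqA : ¬ q ∣ Nat.card A := fun h => by
      obtain ⟨k, hk⟩ := IsPGroup.iff_card.mp hAp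
      rw [hk] at h
      exact hqp ((Nat.prime_dvd_prime_iff_eq hq hp.out).mp (hq.dvd_of_dvd_pow h))
    have hZA : ¬ RankLE 2 ↥(A ⊓ Subgroup.centralizer (A : Set G)) := fun h => hAr (by
      rw [← inf_of_le_left (hAC.ge.trans inf_le_right : A ≤ Subgroup.centralizer (A : Set G))]
      exact h p hp.out)
    have htrA := transitive_of_center_rank_three hG hTA hq hqA hZA
    obtain ⟨hU1, hU2⟩ := descends_subnormal hG hTA hq hqA htrA (Nat.card U) U le_rfl hUtop hAU
      (isSubnormal_subgroupOf_of_isPGroup (hR.to_le hUR)) (hπ U (hR.to_le hUR))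
    obtain ⟨hR1, -⟩ := descends_subnormal hG hTU hq (fun h => hqA (hπ U (hR.to_le hUR) q hq h)) hU2
      (Nat.card R) R le_rfl hRtop hUR (isSubnormal_subgroupOf_of_isPGroup hR)
      (fun r hr h => (hπ R hR r hr h).trans (Subgroup.card_dvd_of_le hAU))
    have hcop : (Nat.card R).Coprime (Nat.card K) := by
      obtain ⟨k, hk⟩ := IsPGroup.iff_card.mp hR
      rw [hk]
      exact ((Nat.Prime.coprime_iff_not_dvd hp.out).mpr (not_dvd_card_coreOf M)).pow_left k
    obtain ⟨Q, hQK, hQ, hQi, hQR⟩ := exists_invariant_sylow (hRM.trans (le_normalizer_coreOf M))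
      (Or.inl (Coprime.isSolvable_of_isPGroup hR)) hcop q
    obtain ⟨Q', hQ', hQQ'⟩ := exists_maxInv_ge hq hQ hQR
    have hQ'K : Q' ≤ K := hinvK Q' (fun h => by
      obtain ⟨k, hk⟩ := IsPGroup.iff_card.mp (isPGroup_of_inv hq hQ'.1)
      rw [hk] at h
      exact hqp ((Nat.prime_dvd_prime_iff_eq hp.out hq).mp (hp.out.dvd_of_dvd_pow h)).symm) hQ'.1.2.2
    have hQmax := hR1 hQ'
    obtain ⟨d, hd, hde⟩ := hU2 Q' hQmax _ (conj_maxInv hq hg hQmax)
    refine ⟨Q, hQK, ?_, hQi⟩
    intro y hy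
    rw [map_conj_mem, inv_inv]
    have h1 : g * y * g⁻¹ ∈ Q'.map (MulAut.conj d).toMonoidHom := hde ▸ ⟨y, hQQ' hy, rfl⟩
    exact (map_conj_le_iff.mpr fun k hk => K.mul_mem (K.mul_mem (hDK hd) (hQ'K hk)) (K.inv_mem (hDK hd))) h1
  have heq := Subgroup.eq_of_le_of_card_ge hle hcard.le
  have hinv : g⁻¹ ∈ Subgroup.normalizer (K : Set G) := Subgroup.mem_normalizer_iff_map_conj_eq.mpr heq.symm
  simpa using (Subgroup.normalizer (K : Set G)).inv_mem hinv

theorem inUniqueMaximal_of_inv_le (hG : IsMinSimpleOddOrder G) {M B : Subgroup G} (hM : IsCoatom M)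
    (hB : IsPGroup p B) (hB1 : B ≠ ⊥) (hBM : B ≤ M)
    (hY : ∀ Y : Subgroup G, ¬ p ∣ Nat.card Y → B ≤ Subgroup.normalizer (Y : Set G) → Y ≤ M) :
    InUniqueMaximal B :=
  ⟨M, ⟨hM, hBM⟩, fun _ hL => eq_of_inv_le hG hM hB hB1 hBM hY hL.1 hL.2⟩

theorem sq_le_card_of_not_isCyclic {B : Subgroup G} (hB : IsPGroup p B) (hBnc : ¬ IsCyclic B) :
    p ^ 2 ≤ Nat.card B := by
  obtain ⟨k, hk⟩ := IsPGroup.iff_card.mp hB
  rw [hk]
  refine Nat.pow_le_pow_right hp.out.pos ?_
  by_contra hk2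
  interval_cases k
  · haveI : Subsingleton B := (Nat.card_eq_one_iff_unique.mp (by rw [hk, pow_zero])).1
    exact hBnc isCyclic_of_subsingleton
  · exact hBnc (isCyclic_of_prime_card (by rw [hk, pow_one]))

/-- An invariant `p'`-subgroup lies in every subgroup containing the centralizers of `B#`. -/
theorem le_of_forall_centralizer_le {M B Y : Subgroup G} (hBe : IsElementaryAbelian p B) (hBnc : ¬ IsCyclic B)
    (h : ∀ b ∈ B, b ≠ 1 → Subgroup.centralizer ({b} : Set G) ≤ M) (hY : ¬ p ∣ Nat.card Y)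
    (hBY : B ≤ Subgroup.normalizer (Y : Set G)) : Y ≤ M := by
  refine le_trans (Components.le_iSup_hyperplanes hBe hY hBY).le (iSup_le fun C => ?_)
  have hne : (C : Subgroup G) ≠ ⊥ := by
    intro hC
    have h2 := C.2.2
    rw [hC, Subgroup.relIndex_bot_left] at h2
    have h3 := (sq_le_card_of_not_isCyclic (Components.ea_isPGroup hBe) hBnc).trans h2
    exact absurd ((Nat.pow_le_pow_iff_right hp.out.one_lt).mp (h3.trans (pow_one p).ge)) (by omega)
  obtain ⟨e, he, he1⟩ := (C : Subgroup G).bot_or_exists_ne_one.resolve_left hne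
  exact inf_le_right.trans ((Subgroup.centralizer_le (by simpa using he)).trans (h e (C.2.1 he) he1))

end Cfsg.Agent.Core.BG
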