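/-
Minimal simple groups of odd order: uniqueness subgroups inside the Fitting subgroup of a maximal subgroup.
-/
import Cfsg.Agent.Core.BG.Bender
import Cfsg.Agent.Core.BG.Uniqueness

set_option autoImplicit false
set_option linter.style.haveILetI false
set_option linter.unusedSectionVars false

namespace Cfsg.Agent.Core.BG

open Cfsg
open Cfsg.Agent.Coprime (mem_normalizer_of_conj_mem)

variable {G : Type*} [Group G] [Finite G]

theorem centralizer_fitCenter_le (hG : IsMinSimpleOddOrder G) {H : Subgroup G} (hH : IsCoatom H)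
    {r : ℕ} (hr : r.Prime) (hrF : r ∣ Nat.card (fittingOf H)) :
    Subgroup.centralizer (fitCenter r H : Set G) ≤ H :=
  (Subgroup.centralizer_le_normalizer _).trans ((hH.le_iff.mp (le_normalizer_fitCenter r H)).resolve_left
    (normalizer_ne_top hG (fitCenter_ne_bot hr hrF) fun h =>
      hH.1 (top_le_iff.mp (h ▸ inf_le_left.trans (piCoreOf_le _ _))))).le

/-- `C(F(H)) ≤ F(H)` for a maximal subgroup `H`. -/
theorem centralizer_fittingOf_le (hG : IsMinSimpleOddOrder G) {H : Subgroup G} (hH : IsCoatom H)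
    (hF : fittingOf H ≠ ⊥) : Subgroup.centralizer (fittingOf H : Set G) ≤ fittingOf H := by
  have hle : Subgroup.centralizer (fittingOf H : Set G) ≤ H :=
    (Subgroup.centralizer_le_normalizer _).trans ((hH.le_iff.mp (le_normalizer_fittingOf H)).resolve_left
      (normalizer_ne_top hG hF fun h => hH.1 (top_le_iff.mp (h ▸ fittingOf_le H)))).le
  haveI := isSolvable_proper hG hH.1
  refine le_trans (le_inf hle le_rfl) (le_fittingOf_of_normal_in_centralizer le_rfl Subgroup.le_normalizer ?_)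
  exact Group.isSolvable_of_isSolvable_injective (Subgroup.inclusion_injective inf_le_left)

/-- All invariant `π(F)'`-subgroups of a suitable subgroup of `F` are trivial. -/
theorem inv_eq_bot (hG : IsMinSimpleOddOrder G) {H : Subgroup G} (hH : IsCoatom H) {C : Subgroup G}
    (hC : TransitivityHypothesis C) (hCF : C ≤ fittingOf H)
    (hπ : ∀ r : ℕ, r.Prime → r ∣ Nat.card (fittingOf H) → r ∣ Nat.card C)
    (hZ : ¬ RankLE 2 ↥(C ⊓ Subgroup.centralizer (C : Set G)))
    {Y : Subgroup G} (hY : IsPiNat (primesNotDvd (Nat.card (fittingOf H))) (Nat.card Y))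
    (hCY : C ≤ Subgroup.normalizer (Y : Set G)) : Y = ⊥ := by
  set F := fittingOf H with hFdef
  have hFne : F ≠ ⊥ := fun h => hC.1 (le_bot_iff.mp (h ▸ hCF))
  have hFtop : F ≠ ⊤ := fun h => hH.1 (top_le_iff.mp (h ▸ fittingOf_le H))
  haveI : Group.IsNilpotent F := isNilpotent_fittingOf H
  have hsn : (C.subgroupOf F).IsSubnormal := FGS4.isSubnormal_of_isNilpotent _
  have hset : primesNotDvd (Nat.card F) = primesNotDvd (Nat.card C) := by
    ext r
    exact and_congr_right fun hr => not_congr ⟨hπ r hr, fun h => h.trans (Subgroup.card_dvd_of_le hCF)⟩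
  have hK : piCoreOf (primesNotDvd (Nat.card F)) (Subgroup.centralizer (F : Set G)) = ⊥ :=
    Subgroup.card_eq_one.mp (Nat.eq_one_of_dvd_coprimes (coprime_of_isPiNat (isPiNat_piCoreOf _ _))
      (Subgroup.card_dvd_of_le ((piCoreOf_le _ _).trans (centralizer_fittingOf_le hG hH hFne))) dvd_rfl)
  have triv : ∀ q : ℕ, q.Prime → ¬ q ∣ Nat.card C → ∀ S : Subgroup G, IsPGroup q S →
      C ≤ Subgroup.normalizer (S : Set G) → S = ⊥ := by
    intro q hq hqC S hS hCS
    haveI := Fact.mk hq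
    have htr := transitive_of_center_rank_three hG hC hq hqC hZ
    obtain ⟨hsub, hconj⟩ := descends_subnormal hG hC hq hqC htr (Nat.card F) F le_rfl hFtop hCF hsn hπ
    rw [hK] at hconj
    obtain ⟨Q, hQ, -⟩ := exists_maxInv_ge hq (A := F) (IsPGroup.of_bot : IsPGroup q (⊥ : Subgroup G))
      (le_top.trans (Subgroup.normalizer_eq_top ⊥).ge)
    have huniq : ∀ Q' ∈ maxInvSubgroups ⊤ F {q}, Q' = Q := fun Q' hQ' => by
      obtain ⟨k, hk, hke⟩ := hconj Q hQ Q' hQ'
      rw [Subgroup.mem_bot.mp hk, conj_one_map] at hke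
      exact hke
    have hHQ : H ≤ Subgroup.normalizer (Q : Set G) := fun g hg => Subgroup.mem_normalizer_iff_map_conj_eq.mpr
      (huniq _ (conj_maxInv hq (le_normalizer_fittingOf H hg) hQ))
    have hQq := isPGroup_of_inv hq hQ.1
    have hQbot : Q = ⊥ := by
      by_contra h
      have hN := (hH.le_iff.mp hHQ).resolve_left (normalizer_ne_top_of_isPGroup hG h hQq)
      have hQH : Q ≤ H := Subgroup.le_normalizer.trans hN.le
      have h1 : Q ≤ fitPart q H := le_piCoreOf hQH hHQ (by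
        obtain ⟨k, hk⟩ := IsPGroup.iff_card.mp hQq
        rw [hk]; exact isPiNat_prime_pow hq (Set.mem_singleton q) k)
      have h2 : fitPart q H = ⊥ := not_not.mp fun h' => hqC (hπ q hq ((dvd_fitting_iff hq H).mpr h'))
      exact h (le_bot_iff.mp (h2 ▸ h1))
    obtain ⟨R, hR, hSR⟩ := exists_maxInv_ge hq hS hCS
    have hb := hsub hQ
    rw [hQbot] at hb
    exact le_bot_iff.mp (hSR.trans (hb.2 R hR.1 bot_le).le)
  by_contra hne
  obtain ⟨q, hq, hqY⟩ := Nat.exists_prime_and_dvd fun h => hne (Subgroup.card_eq_one.mp h)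
  haveI := Fact.mk hq
  obtain ⟨P, hPY, hP, hPi, hCP⟩ := exists_invariant_sylow hCY
    (Or.inl (isSolvable_proper hG hC.2.1))
    ((coprime_of_isPiNat (hset ▸ hY) : (Nat.card C).Coprime (Nat.card Y))) q
  rw [triv q hq (fun h => (hY q hq hqY).2 (h.trans (Subgroup.card_dvd_of_le hCF))) P hP hCP,
    Subgroup.relIndex_bot_left] at hPi
  exact hPi hqY

theorem not_rankLE_two_of_ea {p : ℕ} (hp : p.Prime) {A₀ Z : Subgroup G} (hA : IsElementaryAbelian p A₀)
    (hAZ : A₀ ≤ Z) (h3 : p ^ 3 ≤ Nat.card A₀) : ¬ RankLE 2 Z := by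
  intro h
  have he := PLocal.isEA_comap hA Z.subtype Z.subtype_injective
  have hc := h p hp _ he.1 he.2
  change Nat.card ↥(A₀.subgroupOf Z) ≤ p ^ 2 at hc
  rw [card_subgroupOf hAZ] at hc
  exact absurd ((Nat.pow_le_pow_iff_right hp.one_lt).mp (h3.trans hc)) (by omega)

theorem not_pRankLE_two_of_ea {p : ℕ} (hp : p.Prime) {A₀ Z : Subgroup G} (hA : IsElementaryAbelian p A₀)
    (hAZ : A₀ ≤ Z) (h3 : p ^ 3 ≤ Nat.card A₀) : ¬ PRankLE p 2 Z := by
  intro h
  have he := PLocal.isEA_comap hA Z.subtype Z.subtype_injective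
  have hc := h _ he.1 he.2
  change Nat.card ↥(A₀.subgroupOf Z) ≤ p ^ 2 at hc
  rw [card_subgroupOf hAZ] at hc
  exact absurd ((Nat.pow_le_pow_iff_right hp.one_lt).mp (h3.trans hc)) (by omega)

/-- A mixed Fitting subgroup: `F ∩ C(A₀)` is a uniqueness subgroup. -/
theorem fitting_centralizer_unique (hG : IsMinSimpleOddOrder G) {H : Subgroup G} (hH : IsCoatom H)
    {p : ℕ} [hp : Fact p.Prime] {A₀ : Subgroup G} (hA₀ : A₀ ≤ fittingOf H)
    (hA₀e : IsElementaryAbelian p A₀) (hA₀3 : p ^ 3 ≤ Nat.card A₀)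
    (hF : ¬ IsPGroup p (fittingOf H)) :
    InUniqueMaximal (fittingOf H ⊓ Subgroup.centralizer (A₀ : Set G)) := by
  set F := fittingOf H with hFdef
  set C := F ⊓ Subgroup.centralizer (A₀ : Set G)
  have hAC : A₀ ≤ C := le_inf hA₀ fun a ha => Subgroup.mem_centralizer_iff.mpr fun b hb =>
    PLocal.comm_of_EA hA₀e hb ha
  have hAne : A₀ ≠ ⊥ := fun h => by
    rw [h, Subgroup.card_bot] at hA₀3
    exact absurd hA₀3 (not_le.mpr (Nat.one_lt_pow (by norm_num) hp.out.one_lt))
  have hpF : p ∣ Nat.card F := by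
    obtain ⟨k, hk⟩ := IsPGroup.iff_card.mp (Components.ea_isPGroup hA₀e)
    refine dvd_trans ?_ (Subgroup.card_dvd_of_le hA₀)
    exact hk ▸ dvd_pow_self p fun e => hAne (Subgroup.eq_bot_of_card_eq _ (by rw [hk, e, pow_zero]))
  have hF2 : 2 ≤ (Nat.card F).primeFactors.card := by
    by_contra hlt
    refine hF (IsPGroup.of_card (n := (Nat.card F).primeFactorsList.length)
      (Nat.eq_prime_pow_of_unique_prime_dvd Nat.card_pos.ne' fun {d} hd hdF => ?_))
    exact Finset.card_le_one.mp (by omega) d (Nat.mem_primeFactors.mpr ⟨hd, hdF, Nat.card_pos.ne'⟩)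
      p (Nat.mem_primeFactors.mpr ⟨hp.out, hpF, Nat.card_pos.ne'⟩)
  have hCF : C ≤ F := inf_le_left
  have hZC : F ⊓ Subgroup.centralizer (F : Set G) ≤ C := inf_le_inf_left F (Subgroup.centralizer_le hA₀)
  have hCC : F ⊓ Subgroup.centralizer (C : Set G) ≤ C := inf_le_inf_left F (Subgroup.centralizer_le hAC)
  have hπ : ∀ r : ℕ, r.Prime → r ∣ Nat.card F → r ∣ Nat.card C := fun r hr hrF => by
    haveI := Fact.mk hr
    obtain ⟨k, hk⟩ := IsPGroup.iff_card.mp (isPGroup_fitCenter hr H)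
    refine dvd_trans ?_ (Subgroup.card_dvd_of_le ((fitCenter_le_center hr H).trans hZC))
    exact hk ▸ dvd_pow_self r fun e => fitCenter_ne_bot hr hrF (Subgroup.eq_bot_of_card_eq _ (by rw [hk, e, pow_zero]))
  have hset : primesNotDvd (Nat.card F) = primesNotDvd (Nat.card C) := by
    ext r
    exact and_congr_right fun hr => not_congr ⟨hπ r hr, fun h => h.trans (Subgroup.card_dvd_of_le hCF)⟩
  have hFne : F ≠ ⊥ := fun h => hAne (le_bot_iff.mp (h ▸ hA₀))
  have hCne : C ≠ ⊥ := fun h => hAne (le_bot_iff.mp (h ▸ hAC))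
  have hCtop : C ≠ ⊤ := fun h => hH.1 (top_le_iff.mp (h ▸ hCF.trans (fittingOf_le H)))
  have hTC : TransitivityHypothesis C := by
    refine ⟨hCne, hCtop, fun X hX hCX => ?_⟩
    rw [← hset]
    refine le_antisymm (sSup_le fun L hL => ?_) (le_sSup ⟨piCoreOf_le _ _, isPiNat_piCoreOf _ _,
      hCX.trans (le_normalizer_piCoreOf _ _)⟩)
    refine le_piCoreOf_of_bender (fun r hr hrF => centralizer_fitCenter_le hG hH hr hrF) hF2 hCF hCC
      (isSolvable_proper hG hX) (hCX.trans Subgroup.le_normalizer) ?_ hL.1 hL.2.1 hL.2.2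
    refine le_trans ?_ ((hZC.trans hCX).trans Subgroup.le_normalizer)
    exact le_inf (inf_le_right.trans (centralizer_fittingOf_le hG hH hFne)) inf_le_right
  have hZ : ¬ RankLE 2 ↥(C ⊓ Subgroup.centralizer (C : Set G)) :=
    not_rankLE_two_of_ea hp.out hA₀e (le_inf hAC (Subgroup.le_centralizer_iff.mp inf_le_right)) hA₀3
  exact ⟨H, ⟨hH, hCF.trans (fittingOf_le H)⟩, fun L hL => bender_uniqueness hG hH hF2 hCF hZC
    (fun Y hY => inv_eq_bot hG hH hTC hCF hπ hZ hY.2.1 hY.2.2) hL.1 hL.2⟩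

/-- A primary Fitting subgroup. -/
theorem fitting_pGroup_unique (hG : IsMinSimpleOddOrder G) {H : Subgroup G} (hH : IsCoatom H)
    {p : ℕ} [hp : Fact p.Prime] (hF : IsPGroup p (fittingOf H)) (hFne : fittingOf H ≠ ⊥) (P : Sylow p H) :
    ¬ p ∣ ((P : Subgroup H).map H.subtype).index ∧
      ∀ A : Subgroup G, IsSCN ((P : Subgroup H).map H.subtype) A → ¬ PRankLE p 2 ↥A →
        A ≤ fittingOf H ∧ InUniqueMaximal A := by
  set F := fittingOf H with hFdef
  set Pg := (P : Subgroup H).map H.subtype with hPgdef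
  have hHs := isSolvable_proper hG hH.1
  haveI := hHs
  have hPgH : Pg ≤ H := Subgroup.map_subtype_le _
  have hPgp : IsPGroup p Pg := P.isPGroup'.map _
  have hmax : ∀ T : Subgroup G, IsPGroup p T → Pg ≤ T → T ≤ H → T = Pg := fun T hT hle hTH => by
    have h := P.3 (hT.comap_subtype (K := H)) fun x hx => Subgroup.mem_subgroupOf.mpr (hle ⟨x, hx, rfl⟩)
    rw [hPgdef, ← h]
    exact ((Subgroup.subgroupOf_map_subtype T H).trans (inf_of_le_left hTH)).symm
  have hFP : F ≤ Pg := by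
    rw [hFdef, fittingOf, hPgdef]
    refine Subgroup.map_mono (IsPGroup.le_sylow_of_normal ?_ P)
    exact hF.of_equiv ((fittingSubgroup H).equivMapOfInjective H.subtype H.subtype_injective).symm
  have hfp : IsPGroup p (fittingSubgroup H) :=
    hF.of_equiv ((fittingSubgroup H).equivMapOfInjective H.subtype H.subtype_injective).symm
  have hO : pPrimeCore p H = ⊥ := by
    have hdis : Disjoint (pPrimeCore p H) (fittingSubgroup H) := by
      rw [disjoint_iff, Subgroup.eq_bot_iff_forall]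
      rintro x ⟨hx1, hx2⟩
      exact ThompsonComplement.eq_one_of_mem hfp hx2
        ((card_pPrimeCore_coprime p H).coprime_dvd_left (Subgroup.orderOf_dvd_natCard _ hx1))
    refine le_bot_iff.mp (le_trans (le_inf le_rfl ?_) hdis.le_bot)
    refine le_trans (fun x hx => Subgroup.mem_centralizer_iff.mpr fun y hy => ?_) centralizer_fittingSubgroup_le
    exact (Subgroup.commute_of_normal_of_disjoint _ _ inferInstance inferInstance hdis x y hx hy).eq.symm
  have hPne : Pg ≠ ⊥ := fun h => hFne (le_bot_iff.mp (h ▸ hFP))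
  have hN : Subgroup.normalizer (Pg : Set G) ≤ H := by
    set Z := centerThompsonOf p Pg
    have h := le_core_sup_zj hG.1 hHs hPgp hPgH hmax
    rw [coreOf, hO, Subgroup.map_bot, bot_sup_eq] at h
    have hZp : IsPGroup p Z :=
      hPgp.to_le (inf_le_left.trans (ThompsonComplement.thompsonSubgroupOf_le_self p Pg))
    exact (normalizer_le_normalizer_centerThompsonOf Pg).trans ((hH.le_iff.mp (h.trans inf_le_right)).resolve_left
      (normalizer_ne_top_of_isPGroup hG (centerThompsonOf_ne_bot hPgp hPne) hZp)).le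
  obtain ⟨S, hS⟩ := hPgp.exists_le_sylow
  have hSP : (S : Subgroup G) = Pg := by
    by_contra hne
    obtain ⟨T, hT, hPT, -, hTN⟩ := exists_normalizer_growth S.isPGroup' (lt_of_le_of_ne hS (Ne.symm hne))
    exact hPT.ne' (hmax T hT hPT.le (hTN.trans hN))
  refine ⟨hSP ▸ S.not_dvd_index, fun A hscn hr => ?_⟩
  obtain ⟨hAP, hAn, hAc⟩ := hscn
  have hAcomm : IsMulCommutative A := ⟨⟨fun a b => Subtype.ext
    (Subgroup.mem_centralizer_iff.mp (hAc.ge b.2).2 a a.2)⟩⟩
  have hAF : A ≤ F := by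
    intro a ha
    have haH : a ∈ H := hPgH (hAP ha)
    have h := OddLocal.le_pPrimePCore_of_abelian_normal (hG.1.of_dvd_nat (Subgroup.card_subgroup_dvd_card H)) P
      (A.subgroupOf H)
      ⟨⟨fun x y => Subtype.ext (Subtype.ext (show ((x : H) : G) * ((y : H) : G) = ((y : H) : G) * ((x : H) : G) from
        congrArg Subtype.val (hAcomm.is_comm.comm (⟨((x : H) : G), Subgroup.mem_subgroupOf.mp x.2⟩ : A)
          ⟨((y : H) : G), Subgroup.mem_subgroupOf.mp y.2⟩)))⟩⟩
      (fun x hx => mem_normalizer_of_conj_mem fun y hy =>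
        (Subgroup.mem_normalizer_iff.mp (hAn ⟨x, hx, rfl⟩) y).mp hy)
    rw [pPrimePCore_eq_pCore hO] at h
    exact ⟨⟨a, haH⟩, pCore_le_fittingSubgroup p H (h (Subgroup.mem_subgroupOf.mpr ha)), rfl⟩
  refine ⟨hAF, ?_⟩
  have hAne : A ≠ ⊥ := fun h => hr fun E _ _ => by
    have h1 : Nat.card E ≤ Nat.card A := Subgroup.card_le_card_group E
    exact h1.trans ((Subgroup.card_eq_one.mpr h).le.trans (Nat.one_le_pow _ _ hp.out.pos))
  have hAp : IsPGroup p A := hF.to_le hAF
  have hpA : p ∣ Nat.card A := by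
    obtain ⟨k, hk⟩ := IsPGroup.iff_card.mp hAp
    exact hk ▸ dvd_pow_self p fun e => hAne (Subgroup.eq_bot_of_card_eq _ (by rw [hk, e, pow_zero]))
  have hTA : TransitivityHypothesis A :=
    transitivityHypothesis_of_full hG (hpA.trans (Subgroup.card_subgroup_dvd_card A)) hAp hAne
      fun x hx hxp => OddChar.mem_of_mem_centralizer_pElement S (hSP ▸ hAn) (hSP ▸ hAc) hx
        ⟨1, by rw [pow_one]; exact hxp⟩
  have hπ : ∀ r : ℕ, r.Prime → r ∣ Nat.card F → r ∣ Nat.card A := fun r hr' hrd => by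
    obtain ⟨k, hk⟩ := IsPGroup.iff_card.mp hF
    rw [hk] at hrd
    rwa [(Nat.prime_dvd_prime_iff_eq hr' hp.out).mp (hr'.dvd_of_dvd_pow hrd)]
  have hZ : ¬ RankLE 2 ↥(A ⊓ Subgroup.centralizer (A : Set G)) := fun h => hr (by
    rw [← inf_of_le_left (hAc.ge.trans inf_le_right : A ≤ Subgroup.centralizer (A : Set G))]
    exact h p hp.out)
  refine inUniqueMaximal_of_inv_le hG hH hAp hAne (hAF.trans (fittingOf_le H)) fun Y hY hAY => ?_
  rw [inv_eq_bot hG hH hTA hAF hπ hZ (Y := Y) (fun r hr' hrd => ⟨hr', fun hrF => hY ?_⟩) hAY]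
  · exact bot_le
  · obtain ⟨k, hk⟩ := IsPGroup.iff_card.mp hF
    rw [hk] at hrF
    rwa [← (Nat.prime_dvd_prime_iff_eq hr' hp.out).mp (hr'.dvd_of_dvd_pow hrF)]

end Cfsg.Agent.Core.BG
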