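/-
Minimal simple groups of odd order: spreading uniqueness through a `p`-group of rank three.
-/
import Cfsg.Agent.Core.BG.FittingUnique
import Cfsg.Agent.S1399
import Cfsg.Agent.Transfer.PGroupNormal

set_option autoImplicit false
set_option linter.style.haveILetI false
set_option linter.unusedSectionVars false

namespace Cfsg.Agent.Core.BG

open Cfsg

variable {G : Type*} [Group G] [Finite G] {p : ℕ} [hp : Fact p.Prime]

theorem not_rankLE_one_of_ea {E K : Subgroup G} (hE : IsElementaryAbelian p E) (hEK : E ≤ K)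
    (h2 : p ^ 2 ≤ Nat.card E) : ¬ RankLE 1 K := by
  intro h
  have he := PLocal.isEA_comap hE K.subtype K.subtype_injective
  have hc := h p hp.out _ he.1 he.2
  change Nat.card ↥(E.subgroupOf K) ≤ p ^ 1 at hc
  rw [card_subgroupOf hEK] at hc
  exact absurd ((Nat.pow_le_pow_iff_right hp.out.one_lt).mp (h2.trans hc)) (by omega)

theorem exists_ea_of_not_pRankLE {k : ℕ} {K : Subgroup G} (h : ¬ PRankLE p k K) :
    ∃ E : Subgroup G, IsElementaryAbelian p E ∧ E ≤ K ∧ p ^ (k + 1) ≤ Nat.card E := by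
  simp only [PRankLE, not_forall, not_le] at h
  obtain ⟨B, hBc, hBr, hBcard⟩ := h
  refine ⟨B.map K.subtype, ⟨⟨⟨?_⟩⟩, ?_⟩, Subgroup.map_subtype_le B, ?_⟩
  · rintro ⟨_, a, ha, rfl⟩ ⟨_, b, hb, rfl⟩
    exact Subtype.ext (congrArg (fun z : B => ((z : K) : G)) (hBc.is_comm.comm ⟨a, ha⟩ ⟨b, hb⟩))
  · rintro _ ⟨a, ha, rfl⟩
    rw [← map_pow, hBr a ha, map_one]
  · rw [card_map_subtype]
    have hB : IsPGroup p B := fun b => ⟨1, Subtype.ext (by rw [pow_one]; exact hBr b b.2)⟩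
    obtain ⟨n, hn⟩ := IsPGroup.iff_card.mp hB
    rw [hn] at hBcard ⊢
    exact Nat.pow_le_pow_right hp.out.pos ((Nat.pow_lt_pow_iff_right hp.out.one_lt).mp hBcard)

theorem inUniqueMaximal_map_conj {X : Subgroup G} (hX : InUniqueMaximal X) (g : G) :
    InUniqueMaximal (X.map (MulAut.conj g).toMonoidHom) := by
  obtain ⟨M, ⟨hM, hXM⟩, huniq⟩ := hX
  have hco : ∀ (N : Subgroup G) (x : G), IsCoatom N → IsCoatom (N.map (MulAut.conj x).toMonoidHom) :=
    fun N x hN => ((MulAut.conj x).mapSubgroup.isCoatom_iff N).mpr hN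
  refine ⟨M.map (MulAut.conj g).toMonoidHom, ⟨hco M g hM, Subgroup.map_mono hXM⟩, fun Y hY => ?_⟩
  refine (map_conj_eq_iff.mpr (huniq _ ⟨hco Y g⁻¹ hY.1, ?_⟩)).symm
  have h := Subgroup.map_mono (f := (MulAut.conj g⁻¹).toMonoidHom) hY.2
  rwa [Components.map_conj_map_conj, inv_mul_cancel, conj_one_map] at h

theorem inUniqueMaximal_of_le (hG : IsMinSimpleOddOrder G) {X K : Subgroup G} (hX : InUniqueMaximal X)
    (hXK : X ≤ K) (hK : K ≠ ⊤) : InUniqueMaximal K := by
  obtain ⟨M, ⟨hM, hXM⟩, huniq⟩ := hX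
  obtain ⟨Y, hY, hle⟩ := (eq_top_or_exists_le_coatom K).resolve_left hK
  exact ⟨M, ⟨hM, (huniq Y ⟨hY, hXK.trans hle⟩) ▸ hle⟩, fun Z hZ => huniq Z ⟨hZ.1, hXK.trans hZ.2⟩⟩

/-- One uniqueness abelian subgroup of rank three makes every such subgroup a uniqueness subgroup. -/
theorem ea_unique_of_unique (hG : IsMinSimpleOddOrder G) {X : Subgroup G} (hXc : IsMulCommutative X)
    (hX3 : ¬ PRankLE p 2 X) (hXU : InUniqueMaximal X) {E : Subgroup G} (hE : IsElementaryAbelian p E)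
    (hE3 : p ^ 3 ≤ Nat.card E) : InUniqueMaximal E := by
  obtain ⟨X₁, hX₁, hX₁X, hX₁3⟩ := exists_ea_of_not_pRankLE hX3
  have h2 : ∀ F : Subgroup G, p ^ 3 ≤ Nat.card F → p ^ 2 ≤ Nat.card F := fun F h =>
    (Nat.pow_le_pow_right hp.out.pos (by norm_num)).trans h
  have hU₁ : InUniqueMaximal X₁ := S1399.result hG X X₁ hXU
    (hX₁X.trans fun a ha => Subgroup.mem_centralizer_iff.mpr fun b hb =>
      congrArg Subtype.val (hXc.is_comm.comm (⟨b, hb⟩ : X) ⟨a, ha⟩))
    (not_rankLE_one_of_ea hX₁ le_rfl (h2 X₁ hX₁3))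
  obtain ⟨P, hEP⟩ := (Components.ea_isPGroup hE).exists_le_sylow
  obtain ⟨S, hS⟩ := (Components.ea_isPGroup hX₁).exists_le_sylow
  obtain ⟨g, hg⟩ := MulAction.exists_smul_eq G S P
  set Y := X₁.map (MulAut.conj g).toMonoidHom
  have hYP : Y ≤ (P : Subgroup G) := by
    rw [← hg, Sylow.coe_subgroup_smul]
    exact Subgroup.map_mono hS
  have hY : IsElementaryAbelian p Y := by
    refine ⟨⟨⟨?_⟩⟩, ?_⟩
    · rintro ⟨_, a, ha, rfl⟩ ⟨_, b, hb, rfl⟩
      refine Subtype.ext ?_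
      show (MulAut.conj g).toMonoidHom a * (MulAut.conj g).toMonoidHom b =
        (MulAut.conj g).toMonoidHom b * (MulAut.conj g).toMonoidHom a
      rw [← map_mul, ← map_mul, PLocal.comm_of_EA hX₁ ha hb]
    · rintro _ ⟨a, ha, rfl⟩
      rw [← map_pow, hX₁.2 a ha, map_one]
  have hY3 : p ^ 3 ≤ Nat.card Y := by rw [Coprime.card_map_conj]; exact hX₁3
  have hp2 : p ≠ 2 := by
    refine OddLocal.RankTwo.ne_two_of_dvd hG.1 ?_
    obtain ⟨n, hn⟩ := IsPGroup.iff_card.mp (Components.ea_isPGroup hE)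
    refine dvd_trans ?_ (Subgroup.card_subgroup_dvd_card E)
    rw [hn] at hE3 ⊢
    exact dvd_pow_self p (by have := (Nat.pow_le_pow_iff_right hp.out.one_lt).mp hE3; omega)
  have hPnc : ¬ IsCyclic (P : Subgroup G) := fun h => by
    have hc : IsCyclic ↥(E.subgroupOf (P : Subgroup G)) := inferInstance
    have he := PLocal.isEA_comap hE (P : Subgroup G).subtype (P : Subgroup G).subtype_injective
    have h1 : Nat.card ↥(E.subgroupOf (P : Subgroup G)) ∣ p := by
      rw [← IsCyclic.exponent_eq_card]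
      exact Monoid.exponent_dvd_of_forall_pow_eq_one fun x => Subtype.ext (he.2 x x.2)
    rw [card_subgroupOf hEP] at h1
    have := (Nat.pow_le_pow_iff_right hp.out.one_lt).mp
      (hE3.trans ((Nat.le_of_dvd hp.out.pos h1).trans (pow_one p).ge))
    omega
  obtain ⟨U, hUn, hU, hUc⟩ := Transfer.PNormal.exists_normal_ea_sq hp2 P.isPGroup' hPnc
  set U' := U.map (P : Subgroup G).subtype
  have hU' : IsElementaryAbelian p U' := by
    refine ⟨⟨⟨?_⟩⟩, ?_⟩
    · rintro ⟨_, a, ha, rfl⟩ ⟨_, b, hb, rfl⟩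
      refine Subtype.ext ?_
      show ((a : P) : G) * b = (b : G) * a
      exact congrArg Subtype.val (PLocal.comm_of_EA hU ha hb)
    · rintro _ ⟨a, ha, rfl⟩
      rw [← map_pow, hU.2 a ha, map_one]
  -- the centralizer of `U` in a rank three subgroup of `P`
  have link : ∀ F : Subgroup G, IsElementaryAbelian p F → p ^ 3 ≤ Nat.card F → F ≤ (P : Subgroup G) →
      p ^ 2 ≤ Nat.card ↥(F ⊓ Subgroup.centralizer (U' : Set G)) := by
    intro F hF hF3 hFP
    have he := PLocal.isEA_comap hF (P : Subgroup G).subtype (P : Subgroup G).subtype_injective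
    have h := OddLocal.RankTwo.sq_le_card_inf P.isPGroup' hUn hU hUc
      (Y := F.subgroupOf (P : Subgroup G)) he (by
        rw [card_subgroupOf hFP]
        exact lt_of_lt_of_le (Nat.pow_lt_pow_right hp.out.one_lt (by norm_num)) hF3)
    refine h.trans ?_
    rw [← card_map_subtype]
    refine Subgroup.card_le_of_le ?_
    rintro _ ⟨y, ⟨hy1, hy2⟩, rfl⟩
    refine ⟨hy1, Subgroup.mem_centralizer_iff.mpr ?_⟩
    rintro _ ⟨u, hu, rfl⟩
    exact congrArg Subtype.val (Subgroup.mem_centralizer_iff.mp hy2 u hu)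
  have ea_inf : ∀ F : Subgroup G, IsElementaryAbelian p F →
      IsElementaryAbelian p (F ⊓ Subgroup.centralizer (U' : Set G) : Subgroup G) := fun F hF =>
    ⟨⟨⟨fun a b => Subtype.ext (PLocal.comm_of_EA hF a.2.1 b.2.1)⟩⟩, fun a ha => hF.2 a ha.1⟩
  have self_cent : ∀ {F : Subgroup G}, IsElementaryAbelian p F → ∀ {D : Subgroup G}, D ≤ F →
      D ≤ Subgroup.centralizer (F : Set G) := fun hF D hD a ha =>
    Subgroup.mem_centralizer_iff.mpr fun b hb => PLocal.comm_of_EA hF hb (hD ha)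
  have hYU := inUniqueMaximal_map_conj hU₁ g
  have h1 := S1399.result hG Y (Y ⊓ Subgroup.centralizer (U' : Set G)) hYU (self_cent hY inf_le_left)
    (not_rankLE_one_of_ea (ea_inf Y hY) le_rfl (link Y hY hY3 hYP))
  have h2' := S1399.result hG _ U' h1 (Subgroup.le_centralizer_iff.mp inf_le_right)
    (not_rankLE_one_of_ea hU' le_rfl (by rw [card_map_subtype, hUc]))
  have h3 := S1399.result hG U' (E ⊓ Subgroup.centralizer (U' : Set G)) h2' inf_le_right
    (not_rankLE_one_of_ea (ea_inf E hE) le_rfl (link E hE hE3 hEP))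
  exact S1399.result hG _ E h3 (Subgroup.le_centralizer_iff.mp (self_cent hE inf_le_left))
    (not_rankLE_one_of_ea hE le_rfl (h2 E hE3))

/-- A noncyclic `p`-subgroup centralising an elementary abelian subgroup of order `p ^ 3`. -/
theorem noncyclic_unique_of_unique (hG : IsMinSimpleOddOrder G) {X : Subgroup G} (hXc : IsMulCommutative X)
    (hX3 : ¬ PRankLE p 2 X) (hXU : InUniqueMaximal X) {B : Subgroup G} (hB : IsPGroup p B)
    (hBnc : ¬ IsCyclic B) (hB3 : ¬ PRankLE p 2 ↥(Subgroup.centralizer (B : Set G))) :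
    InUniqueMaximal B := by
  obtain ⟨E, hE, hEC, hE3⟩ := exists_ea_of_not_pRankLE hB3
  refine S1399.result hG E B (ea_unique_of_unique hG hXc hX3 hXU hE hE3)
    (Subgroup.le_centralizer_iff.mp hEC) ?_
  have hp2 : p ≠ 2 := by
    refine OddLocal.RankTwo.ne_two_of_dvd hG.1 ?_
    obtain ⟨n, hn⟩ := IsPGroup.iff_card.mp (Components.ea_isPGroup hE)
    refine dvd_trans ?_ (Subgroup.card_subgroup_dvd_card E)
    rw [hn] at hE3 ⊢
    exact dvd_pow_self p (by have := (Nat.pow_le_pow_iff_right hp.out.one_lt).mp hE3; omega)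
  obtain ⟨U, -, hU, hUc⟩ := Transfer.PNormal.exists_normal_ea_sq hp2 hB hBnc
  intro h
  have hc := h p hp.out U hU.1 hU.2
  rw [hUc] at hc
  exact absurd ((Nat.pow_le_pow_iff_right hp.out.one_lt).mp hc) (by omega)

end Cfsg.Agent.Core.BG
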