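/-
Groups of odd order acting in a prime manner.
-/
import Cfsg.Agent.Core.BG.PrimeAction
import Cfsg.Agent.Core.BG.Bender
import Cfsg.Agent.S1545
import Cfsg.Agent.S0033

set_option autoImplicit false
set_option linter.style.haveILetI false
set_option linter.unusedSectionVars false

namespace Cfsg.Agent.Core.BG

open Cfsg
open Cfsg.Agent.Coprime (mem_normalizer_of_conj_mem)
open Cfsg.Agent.OddChar (fixGroup)
open scoped commutatorElement

variable {G : Type*} [Group G] [Finite G]

/-- The kernel of a Frobenius group is nilpotent. -/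
theorem isNilpotent_of_fpf_prime {K : Subgroup G} {x : G} {p : ℕ} (hp : p.Prime) (hx : orderOf x = p)
    (hxK : x ∈ Subgroup.normalizer (K : Set G)) (hfix : K ⊓ Subgroup.centralizer ({x} : Set G) = ⊥) :
    Group.IsNilpotent K := by
  set φ : MulAut K := K.normalizerMonoidHom ⟨x, hxK⟩
  have hfpf : MonoidHom.FixedPointFree (φ : K →* K) := fun k hk => by
    refine Subtype.ext (Subgroup.mem_bot.mp (hfix.le ⟨k.2, Subgroup.mem_centralizer_singleton_iff.mpr ?_⟩))
    exact ((mul_inv_eq_iff_eq_mul.mp (congrArg Subtype.val hk : x * k * x⁻¹ = k))).symm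
  by_cases hK : K = ⊥
  · subst hK; infer_instance
  have hφp : φ ^ p = 1 := by
    rw [← map_pow, show (⟨x, hxK⟩ : ↥(Subgroup.normalizer (K : Set G))) ^ p = 1 from
      Subtype.ext (show x ^ p = 1 by rw [← hx]; exact pow_orderOf_eq_one x), map_one]
  have hφ1 : φ ≠ 1 := fun h => hK ((Subgroup.eq_bot_iff_forall K).mpr fun k hk =>
    congrArg Subtype.val (hfpf ⟨k, hk⟩ (show φ ⟨k, hk⟩ = ⟨k, hk⟩ by rw [h]; rfl)))
  haveI := Fact.mk hp
  exact S0033.result φ hfpf p hp (orderOf_eq_prime hφp hφ1)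

/-- The order of a solvable group acted on by a Frobenius group whose kernel has no fixed points. -/
theorem card_eq_inf_centralizer_pow {M K R : Subgroup G} (hMs : Group.IsSolvable M) (hK1 : K ≠ ⊥) (hR1 : R ≠ ⊥)
    (hRK : R ≤ Subgroup.normalizer (K : Set G)) (hKR : K ⊓ R = ⊥)
    (hfpf : ∀ e ∈ R, e ≠ 1 → K ⊓ Subgroup.centralizer ({e} : Set G) = ⊥)
    (hKM : K ⊔ R ≤ Subgroup.normalizer (M : Set G))
    (hcop : (Nat.card M).Coprime (Nat.card ↥(K ⊔ R))) (hCK : M ⊓ Subgroup.centralizer (K : Set G) = ⊥) :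
    Nat.card M = Nat.card ↥(M ⊓ Subgroup.centralizer (R : Set G)) ^ Nat.card R := by
  have h := S1545.result K R M hK1 hR1 hKR
    (fun e he u hu => (Subgroup.mem_normalizer_iff.mp (hRK he) u).mp hu)
    (fun e he he1 u hu h => Subgroup.mem_bot.mp ((hfpf e he he1).le
      ⟨hu, Subgroup.mem_centralizer_singleton_iff.mpr h.symm⟩))
    (fun x hx m hm => (Subgroup.mem_normalizer_iff.mp (hKM hx) m).mp hm)
    (Subgroup.inf_eq_bot_of_coprime hcop) hMs hcop
  have htop : M ⊓ Subgroup.centralizer ((K ⊔ R : Subgroup G) : Set G) = ⊥ :=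
    le_bot_iff.mp ((inf_le_inf_left M (Subgroup.centralizer_le (le_sup_left : K ≤ K ⊔ R))).trans hCK.le)
  rwa [htop, hCK, Subgroup.card_bot, one_pow, one_mul, mul_one] at h

/-- A Frobenius group acting on a nilpotent group in a prime manner. -/
theorem frobenius_prime_manner (K R M : Subgroup G) (hK1 : K ≠ ⊥) (hR1 : R ≠ ⊥) (hKR : K ⊓ R = ⊥)
    (hRK : R ≤ Subgroup.normalizer (K : Set G))
    (hfrob : ∀ r ∈ R, r ≠ 1 → K ⊓ Subgroup.centralizer ({r} : Set G) = ⊥)
    (hM1 : M ≠ ⊥) (hMn : Group.IsNilpotent M) (hKM : K ≤ Subgroup.normalizer (M : Set G))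
    (hRM : R ≤ Subgroup.normalizer (M : Set G))
    (hcop : (Nat.card ↥(K ⊔ R)).Coprime (Nat.card M)) (hCK : M ⊓ Subgroup.centralizer (K : Set G) = ⊥)
    (hpr : ∀ x ∈ R, x ≠ 1 → M ⊓ Subgroup.centralizer ({x} : Set G) = M ⊓ Subgroup.centralizer (R : Set G)) :
    (Nat.card R).Prime ∧ Nat.card M = Nat.card ↥(M ⊓ Subgroup.centralizer (R : Set G)) ^ Nat.card R ∧
      (IsCyclic ↥(M ⊓ Subgroup.centralizer (R : Set G)) → ⁅K, K⁆ ≤ Subgroup.centralizer (M : Set G)) := by
  haveI := hMn
  have hMs : Group.IsSolvable M := inferInstance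
  have hW : K ⊔ R ≤ Subgroup.normalizer (M : Set G) := sup_le hKM hRM
  have hM := card_eq_inf_centralizer_pow hMs hK1 hR1 hRK hKR hfrob hW hcop.symm hCK
  have hR2 : Nat.card R ≠ 1 := fun h => hR1 (Subgroup.card_eq_one.mp h)
  obtain ⟨r₀, hr₀, hr₀d⟩ := Nat.exists_prime_and_dvd hR2
  haveI := Fact.mk hr₀
  obtain ⟨⟨x, hxR⟩, hx⟩ := exists_prime_orderOf_dvd_card' (G := R) r₀ hr₀d
  rw [Subgroup.orderOf_mk] at hx
  have hx1 : x ≠ 1 := fun h => hr₀.ne_one (by rw [← hx, h, orderOf_one])
  have hxle : Subgroup.zpowers x ≤ R := Subgroup.zpowers_le.mpr hxR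
  have hM₀ : Nat.card M = Nat.card ↥(M ⊓ Subgroup.centralizer (R : Set G)) ^ r₀ := by
    have h := card_eq_inf_centralizer_pow (R := Subgroup.zpowers x) hMs hK1
      (fun h => hx1 (Subgroup.zpowers_eq_bot.mp h)) (hxle.trans hRK)
      (le_bot_iff.mp ((inf_le_inf_left K hxle).trans hKR.le)) (fun e he => hfrob e (hxle he))
      ((sup_le_sup_left hxle K).trans hW)
      (hcop.symm.coprime_dvd_right (Subgroup.card_dvd_of_le (sup_le_sup_left hxle K))) hCK
    rw [Nat.card_zpowers, hx] at h
    rwa [show M ⊓ Subgroup.centralizer ((Subgroup.zpowers x : Subgroup G) : Set G) =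
      M ⊓ Subgroup.centralizer (R : Set G) by
        rw [← hpr x hxR hx1, Subgroup.zpowers_eq_closure, Subgroup.centralizer_closure]] at h
  have hprime : (Nat.card R).Prime := by
    have hc : 1 < Nat.card ↥(M ⊓ Subgroup.centralizer (R : Set G)) := by
      rcases Nat.lt_or_ge 1 (Nat.card ↥(M ⊓ Subgroup.centralizer (R : Set G))) with h | h
      · exact h
      · have h1 : Nat.card ↥(M ⊓ Subgroup.centralizer (R : Set G)) = 1 := le_antisymm h Nat.card_pos
        rw [h1, one_pow] at hM
        exact absurd (Subgroup.card_eq_one.mp hM) hM1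
    rw [show Nat.card R = r₀ from Nat.pow_right_injective hc (hM.symm.trans hM₀)]
    exact hr₀
  refine ⟨hprime, hM, fun hcyc => ?_⟩
  have hKn : Group.IsNilpotent K := isNilpotent_of_fpf_prime hr₀ hx (hRK hxR) (hfrob x hxR hx1)
  intro k hk
  suffices hle : M ≤ Subgroup.centralizer ({k} : Set G) from
    Subgroup.mem_centralizer_iff.mpr fun m hm => Subgroup.mem_centralizer_singleton_iff.mp (hle hm)
  refine Coprime.le_of_forall_invariant_sylow fun v hv => ?_
  haveI := Fact.mk hv
  obtain ⟨P₀⟩ := (inferInstance : Nonempty (Sylow v M))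
  haveI hPn : (P₀ : Subgroup M).Normal :=
    ((isNilpotent_iff_forall_sylow_normal.mp hMn) v ⟨hv⟩ P₀)
  haveI := Sylow.characteristic_of_normal P₀ hPn
  set P := (P₀ : Subgroup M).map M.subtype
  have hPp : IsPGroup v P := P₀.isPGroup'.map _
  have hPM : P ≤ M := Subgroup.map_subtype_le _
  refine ⟨P, hPM, ?_, by
    rw [Subgroup.relIndex, Subgroup.subgroupOf, Subgroup.comap_map_eq_self_of_injective M.subtype_injective]
    exact P₀.not_dvd_index⟩
  by_cases hvM : v ∣ Nat.card M
  swap
  · have hP1 : P = ⊥ := by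
      obtain ⟨n, hn⟩ := IsPGroup.iff_card.mp hPp
      rcases Nat.eq_zero_or_pos n with rfl | hn0
      · exact Subgroup.card_eq_one.mp (by rw [hn, pow_zero])
      · exact absurd ((dvd_pow_self v hn0.ne').trans (hn ▸ Subgroup.card_dvd_of_le hPM)) hvM
    rw [hP1]; exact bot_le
  set W := K ⊔ R
  have hWP : W ≤ Subgroup.normalizer (P : Set G) :=
    hW.trans (Transfer.HHRed.normalizer_map_char (P₀ : Subgroup M))
  have hcopP : (Nat.card W).Coprime (Nat.card P) := hcop.coprime_dvd_right (Subgroup.card_dvd_of_le hPM)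
  have hKW : K ≤ W := le_sup_left
  have hRW : R ≤ W := le_sup_right
  haveI : IsMulCommutative (P ⧸ frattini P) := ⟨⟨FGS3.quotient_frattini_comm hPp⟩⟩
  set ψ := frattiniAct P W hWP
  have hfixK : fixGroup ψ (K.subgroupOf W) = ⊥ := by
    refine le_bot_iff.mp ((frattiniAct_fix hPp hWP hKW inferInstance
      (hcopP.coprime_dvd_left (Subgroup.card_dvd_of_le hKW))).trans ?_)
    rw [le_bot_iff.mp ((inf_le_inf_right _ hPM).trans hCK.le), Subgroup.bot_subgroupOf, Subgroup.map_bot]
  have hRsol : Group.IsSolvable R := by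
    haveI := Fact.mk hprime
    exact Coprime.isSolvable_of_isPGroup (IsPGroup.of_card (n := 1) (by rw [pow_one]))
  have hcopQ : (Nat.card (P ⧸ frattini P)).Coprime (Nat.card ↥(K.subgroupOf W ⊔ R.subgroupOf W)) :=
    (hcopP.symm.coprime_dvd_left (Subgroup.card_quotient_dvd_card _)).coprime_dvd_right
      (Subgroup.card_subgroup_dvd_card _)
  have hRKW : R.subgroupOf W ≤ Subgroup.normalizer ((K.subgroupOf W : Subgroup W) : Set W) := fun a ha =>
    mem_normalizer_of_conj_mem fun y hy => Subgroup.mem_subgroupOf.mpr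
      ((Subgroup.mem_normalizer_iff.mp (hRK (Subgroup.mem_subgroupOf.mp ha)) _).mp (Subgroup.mem_subgroupOf.mp hy))
  have hKRW : K.subgroupOf W ⊓ R.subgroupOf W = ⊥ :=
    le_bot_iff.mp fun a ha => Subtype.ext (Subgroup.mem_bot.mp (hKR.le ⟨ha.1, ha.2⟩))
  have hfpfW : ∀ e ∈ R.subgroupOf W, e ≠ 1 → K.subgroupOf W ⊓ Subgroup.centralizer ({e} : Set W) = ⊥ :=
    fun e he he1 => le_bot_iff.mp fun a ha => Subtype.ext (Subgroup.mem_bot.mp
      ((hfrob e he fun h => he1 (Subtype.ext h)).le ⟨ha.1, Subgroup.mem_centralizer_singleton_iff.mpr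
        (congrArg Subtype.val (Subgroup.mem_centralizer_singleton_iff.mp ha.2))⟩))
  have hle := frattiniAct_fix hPp hWP hRW hRsol (hcopP.coprime_dvd_left (Subgroup.card_dvd_of_le hRW))
  haveI hcycF : IsCyclic (fixGroup ψ (R.subgroupOf W)) := by
    haveI := hcyc
    haveI : IsCyclic ↥((P ⊓ Subgroup.centralizer (R : Set G)).subgroupOf P) := by
      haveI : IsCyclic ↥(P ⊓ Subgroup.centralizer (R : Set G)) := isCyclic_of_injective
        (Subgroup.inclusion (inf_le_inf_right _ hPM)) (Subgroup.inclusion_injective _)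
      exact isCyclic_of_surjective
        (Subgroup.subgroupOfEquivOfLe (inf_le_left : P ⊓ Subgroup.centralizer (R : Set G) ≤ P)).symm.toMonoidHom
        (MulEquiv.surjective _)
    haveI : IsCyclic ↥(((P ⊓ Subgroup.centralizer (R : Set G)).subgroupOf P).map
        (QuotientGroup.mk' (frattini P))) :=
      isCyclic_of_surjective _ ((QuotientGroup.mk' (frattini P)).subgroupMap_surjective _)
    exact isCyclic_of_injective (Subgroup.inclusion hle) (Subgroup.inclusion_injective _)
  have hdv : Nat.card (fixGroup ψ (R.subgroupOf W)) ∣ v := by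
    rw [← IsCyclic.exponent_eq_card]
    exact Monoid.exponent_dvd_of_forall_pow_eq_one fun a =>
      Subtype.ext (FGS3.quotient_frattini_pow hPp _)
  have htriv : ∀ w ∈ ⁅K.subgroupOf W, K.subgroupOf W⁆, ψ w = 1 := by
    rcases (Nat.dvd_prime hv).mp hdv with h | h
    · -- the whole quotient is trivial
      have hQ := card_eq_fix_pow ψ (Group.isSolvable_of_comm
        (FGS3.quotient_frattini_comm hPp)) hRKW hKRW hfpfW hcopQ hfixK
      rw [h, one_pow] at hQ
      haveI : Subsingleton (P ⧸ frattini P) := (Nat.card_eq_one_iff_unique.mp hQ).1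
      exact fun w _ => MulEquiv.ext fun _ => Subsingleton.elim _ _
    · exact fun w hw => derived_le_ker_of_fixed_line ψ
        (Core.isNilpotent_congr (Subgroup.subgroupOfEquivOfLe hKW).symm hKn) hRKW hKRW hfpfW hcopQ hfixK
        (h ▸ hv) hw
  obtain ⟨w, hw, rfl⟩ : k ∈ (⁅K.subgroupOf W, K.subgroupOf W⁆).map W.subtype := by
    rw [Subgroup.map_commutator, Subgroup.map_subgroupOf_eq_of_le hKW]; exact hk
  have hC := frattiniAct_eq_one hPp hWP (w := w) ?_ (htriv w hw)
  · exact fun y hy => Subgroup.mem_centralizer_singleton_iff.mpr (Subgroup.mem_centralizer_iff.mp hC y hy)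
  · exact (Nat.Coprime.coprime_dvd_left (orderOf_dvd_natCard w) hcop).coprime_dvd_right hvM

/-- The preimage of a normal nilpotent subgroup has normal `Q F` for each of its Sylow subgroups `Q`. -/
theorem sup_normal_of_sylow_nilpotent {F Q : Subgroup G} [F.Normal] {N : Subgroup (G ⧸ F)}
    (hNil : Group.IsNilpotent N) (hNn : N.Normal) {q : ℕ} [hq : Fact q.Prime] (hQ : IsPGroup q Q)
    (hQ2 : Q ≤ N.comap (QuotientGroup.mk' F)) (hQi : ¬ q ∣ Q.relIndex (N.comap (QuotientGroup.mk' F))) :
    (Q ⊔ F).Normal := by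
  set π := QuotientGroup.mk' F
  haveI := hNn
  have hQN : Q.map π ≤ N := Subgroup.map_le_iff_le_comap.mpr hQ2
  have hidx : ¬ q ∣ ((Q.map π).subgroupOf N).index := by
    show ¬ q ∣ (Q.map π).relIndex N
    have e : (Q.map π).relIndex N = (Q ⊔ F).relIndex (N.comap π) := by
      conv_lhs => rw [← Subgroup.map_comap_eq_self_of_surjective (QuotientGroup.mk'_surjective F) N]
      rw [Subgroup.relIndex_map_map, QuotientGroup.ker_mk']
      congr 1
      exact sup_of_le_left fun a ha => by
        show π a ∈ N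
        rw [show π a = 1 from (QuotientGroup.eq_one_iff a).mpr ha]; exact one_mem _
    rw [e]
    exact fun h => hQi (h.trans (Subgroup.relIndex_dvd_of_le_left _ le_sup_left))
  have hQbp : IsPGroup q ((Q.map π).subgroupOf N) := (hQ.map π).comap_subtype
  have hsn : ((hQbp.toSylow hidx : Sylow q N) : Subgroup N).Normal :=
    (isNilpotent_iff_forall_sylow_normal.mp hNil) q hq _
  haveI := Sylow.characteristic_of_normal (hQbp.toSylow hidx) hsn
  have hn : (((hQbp.toSylow hidx : Sylow q N) : Subgroup N).map N.subtype).Normal :=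
    normal_map_subtype_of_characteristic _
  rw [show ((hQbp.toSylow hidx : Sylow q N) : Subgroup N) = (Q.map π).subgroupOf N from rfl,
    Subgroup.map_subgroupOf_eq_of_le hQN] at hn
  have h2 := hn.comap π
  rwa [Subgroup.comap_map_eq, QuotientGroup.ker_mk'] at h2

set_option maxHeartbeats 1000000 in
/-- In a group `K R` with `R` acting in a prime manner on `K` and fixed-point-freely on `F(K)`, the
subgroup `[K, R]` lies in `F(K)`. -/
theorem commutator_le_fittingOf_of_prime_manner [Group.IsSolvable G] (hodd : Odd (Nat.card G))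
    (K R : Subgroup G) [hKn : K.Normal] (hKR : K ⊔ R = ⊤) (hcop : (Nat.card K).Coprime (Nat.card R))
    (hprime : ∀ x ∈ R, x ≠ 1 →
      K ⊓ Subgroup.centralizer ({x} : Set G) = K ⊓ Subgroup.centralizer (R : Set G))
    (hF : fittingOf K ⊓ Subgroup.centralizer (R : Set G) = ⊥) :
    ⁅K, R⁆ ≤ fittingOf K := by
  by_cases hR : R = ⊥
  · rw [hR, Subgroup.commutator_bot_right]; exact bot_le
  set F := fittingOf K
  have hFK : F ≤ K := fittingOf_le K
  have hFn : F.Normal := by
    show ((fittingSubgroup K).map K.subtype).Normal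
    exact normal_map_subtype_of_characteristic _
  haveI := hFn
  obtain ⟨r, hr, hrd⟩ := Nat.exists_prime_and_dvd fun h => hR (Subgroup.card_eq_one.mp h)
  haveI := Fact.mk hr
  obtain ⟨⟨x, hxR⟩, hx⟩ := exists_prime_orderOf_dvd_card' (G := R) r hrd
  rw [Subgroup.orderOf_mk] at hx
  have hx1 : x ≠ 1 := fun h => hr.ne_one (by rw [← hx, h, orderOf_one])
  set X := Subgroup.zpowers x with hXdef
  have hX : Nat.card X = r := by rw [Nat.card_zpowers, hx]
  have hXs : Group.IsSolvable X := inferInstance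
  have hXK : X ≤ Subgroup.normalizer (K : Set G) := le_top.trans (Subgroup.normalizer_eq_top K).ge
  have hcopX : (Nat.card X).Coprime (Nat.card K) :=
    hcop.symm.coprime_dvd_left (Subgroup.card_dvd_of_le (Subgroup.zpowers_le.mpr hxR))
  have hCX : K ⊓ Subgroup.centralizer (X : Set G) = K ⊓ Subgroup.centralizer (R : Set G) := by
    rw [hXdef, Subgroup.zpowers_eq_closure, Subgroup.centralizer_closure, hprime x hxR hx1]
  have hFX : F ⊓ Subgroup.centralizer (X : Set G) = ⊥ := le_bot_iff.mp fun a ha => hF.le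
    ⟨ha.1, (hCX.le ⟨hFK ha.1, ha.2⟩).2⟩
  set π := QuotientGroup.mk' F
  set Kb := K.map π
  set Xb := X.map π
  haveI hKbn : Kb.Normal := hKn.map π (QuotientGroup.mk'_surjective F)
  -- `x` centralizes the Fitting subgroup of `K / F`
  have hF2 : fittingOf Kb ≤ Subgroup.centralizer (Xb : Set (G ⧸ F)) := by
    set F2 := (fittingOf Kb).comap π
    have hF2K : F2 ≤ K := fun a ha => by
      obtain ⟨b, hb, hbe⟩ := fittingOf_le Kb ha
      have h1 : b⁻¹ * a ∈ F := QuotientGroup.eq.mp hbe
      have := K.mul_mem hb (hFK h1)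
      rwa [mul_inv_cancel_left] at this
    haveI hF2n : F2.Normal := by
      haveI : (fittingOf Kb).Normal := normal_map_subtype_of_characteristic _
      exact Subgroup.Normal.comap inferInstance π
    refine le_trans (Subgroup.map_comap_eq_self_of_surjective (QuotientGroup.mk'_surjective F) _).ge ?_
    rw [Subgroup.map_le_iff_le_comap]
    refine Coprime.le_of_forall_invariant_sylow fun q hq => ?_
    haveI := Fact.mk hq
    obtain ⟨Q, hQ2, hQ, hQi, hXQ⟩ := exists_invariant_sylow
      (le_top.trans (Subgroup.normalizer_eq_top F2).ge : X ≤ Subgroup.normalizer (F2 : Set G)) (Or.inl hXs)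
      (hcopX.coprime_dvd_right (Subgroup.card_dvd_of_le hF2K)) q
    refine ⟨Q, hQ2, ?_, hQi⟩
    suffices hQXF : ⁅Q, X⁆ ≤ F by
      intro a ha
      refine Subgroup.mem_centralizer_iff.mpr ?_
      rintro _ ⟨y, hy, rfl⟩
      have h1 : π ⁅a, y⁆ = 1 := (QuotientGroup.eq_one_iff _).mpr (hQXF (Subgroup.commutator_mem_commutator ha hy))
      rw [map_commutatorElement, commutatorElement_eq_one_iff_mul_comm] at h1
      exact h1.symm
    by_cases hqK : q ∣ Nat.card K
    swap
    · have hQ1 : Q = ⊥ := by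
        obtain ⟨n, hn⟩ := IsPGroup.iff_card.mp hQ
        rcases Nat.eq_zero_or_pos n with rfl | hn0
        · exact Subgroup.card_eq_one.mp (by rw [hn, pow_zero])
        · exact absurd ((dvd_pow_self q hn0.ne').trans (hn ▸ Subgroup.card_dvd_of_le (hQ2.trans hF2K))) hqK
      rw [hQ1, Subgroup.commutator_bot_left]; exact bot_le
    have hqr : q ≠ r := fun h => hr.ne_one (Nat.eq_one_of_dvd_coprimes hcop (h ▸ hqK) hrd)
    have odd_ne : ∀ {v : ℕ}, v ∣ Nat.card G → v ≠ 2 := fun h h2 =>
      absurd (hodd.of_dvd_nat (h2 ▸ h)) (by decide)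
    have hfn : ∀ v : ℕ, (fitPart v K).Normal := fun v => by
      unfold fitPart piCoreOf
      exact normal_map_subtype_of_characteristic _
    set D := ⨆ v : {v : Nat.Primes // (v : ℕ) ≠ q}, fitPart (v : Nat.Primes) K
    -- `Q` moved by `x` centralizes the `q'`-part of `F`
    have hQD : ⁅Q, X⁆ ≤ Subgroup.centralizer (D : Set G) := by
      rw [Subgroup.le_centralizer_iff]
      refine iSup_le fun v => Subgroup.le_centralizer_iff.mp ?_
      haveI := Fact.mk v.1.2
      by_cases hvb : fitPart (v : Nat.Primes) K = ⊥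
      · rw [hvb]
        exact fun a _ => Subgroup.mem_centralizer_iff.mpr fun y hy => by
          rw [SetLike.mem_coe, Subgroup.mem_bot] at hy; simp [hy]
      have hvK : ((v : Nat.Primes) : ℕ) ∣ Nat.card K :=
        ((dvd_fitting_iff v.1.2 K).mpr hvb).trans (Subgroup.card_dvd_of_le hFK)
      have hnorm : ∀ H : Subgroup G, H ≤ Subgroup.normalizer ((fitPart (v : Nat.Primes) K : Subgroup G) : Set G) :=
        fun H => le_top.trans (Subgroup.normalizer_eq_top_iff.mpr (hfn (v : Nat.Primes))).ge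
      exact commutator_le_centralizer_of_fpf hq hr v.2 (fun h => hr.ne_one (Nat.eq_one_of_dvd_coprimes hcop (h ▸ hvK) hrd))
        hqr (odd_ne (hqK.trans (Subgroup.card_subgroup_dvd_card K))) hX hQ (isPGroup_fitPart v.1.2 K) hXQ
        (hnorm X) (hnorm Q)
        (le_bot_iff.mp ((inf_le_inf_right _ (fitPart_le_fittingOf v.1.2 K)).trans hFX.le))
    have hDF : D ≤ F := iSup_le fun v => fitPart_le_fittingOf v.1.2 K
    have hQXQ : ⁅Q, X⁆ ≤ Q := Coprime.commutator_le_of_le_normalizer hXQ
    -- `Q F` is normal in `G`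
    have hQFn : (Q ⊔ F).Normal := sup_normal_of_sylow_nilpotent (isNilpotent_fittingOf Kb)
      (normal_map_subtype_of_characteristic _) hQ hQ2 hQi
    haveI hDn : D.Normal := by
      haveI : ∀ v : {v : Nat.Primes // (v : ℕ) ≠ q}, (fitPart (v : Nat.Primes) K).Normal := fun v => hfn _
      exact Subgroup.iSup_normal _
    haveI := hQFn
    haveI : (Subgroup.centralizer (D : Set G)).Normal := Subgroup.normal_centralizer
    set Y := (Q ⊔ F) ⊓ Subgroup.centralizer (D : Set G) with hYdef
    have hYn : Y.Normal := inferInstance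
    have hYK : Y ≤ K := inf_le_left.trans (sup_le (hQ2.trans hF2K) hFK)
    have hpow : ∀ y ∈ Q ⊔ F, ∃ n : ℕ, y ^ q ^ n ∈ D := by
      intro y hy
      obtain ⟨u, hu, d, hd, rfl⟩ := Subgroup.mem_sup_of_normal_right.mp hy
      obtain ⟨n, hn⟩ := hQ ⟨u, hu⟩
      have h1 : (u * d) ^ q ^ n ∈ F := by
        rw [← QuotientGroup.eq_one_iff, QuotientGroup.mk_pow, QuotientGroup.mk_mul,
          (QuotientGroup.eq_one_iff d).mpr hd, mul_one, ← QuotientGroup.mk_pow,
          show u ^ q ^ n = 1 from congrArg Subtype.val hn, QuotientGroup.mk_one]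
      have hsup : F ≤ fitPart q K ⊔ D := fittingOf_le_iff.mpr fun s hs => by
        rcases eq_or_ne s q with rfl | hsq
        · exact le_sup_left
        · exact le_sup_of_le_right (le_iSup (fun v : {v : Nat.Primes // (v : ℕ) ≠ q} =>
            fitPart (v : Nat.Primes) K) ⟨⟨s, hs⟩, hsq⟩)
      obtain ⟨a, ha, b, hb, hab⟩ := Subgroup.mem_sup_of_normal_right.mp (hsup h1)
      obtain ⟨m, hm⟩ := isPGroup_fitPart hq K ⟨a, ha⟩
      refine ⟨n + m, ?_⟩
      rw [pow_add, pow_mul, ← hab, ← QuotientGroup.eq_one_iff, QuotientGroup.mk_pow, QuotientGroup.mk_mul,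
        (QuotientGroup.eq_one_iff b).mpr hb, mul_one, ← QuotientGroup.mk_pow,
        show a ^ q ^ m = 1 from congrArg Subtype.val hm, QuotientGroup.mk_one]
    have hYnil : Group.IsNilpotent Y := by
      have hp' : IsPGroup q (Y ⧸ Subgroup.center Y) := by
        intro c
        obtain ⟨y, rfl⟩ := QuotientGroup.mk_surjective c
        obtain ⟨n, hn⟩ := hpow y y.2.1
        refine ⟨n, ?_⟩
        rw [← QuotientGroup.mk_pow, QuotientGroup.eq_one_iff]
        exact Subgroup.mem_center_iff.mpr fun z => Subtype.ext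
          (Subgroup.mem_centralizer_iff.mp z.2.2 _ hn).symm
      haveI := hp'.isNilpotent
      exact Group.of_quotient_center_nilpotent inferInstance
    have hYF : Y ≤ F := fun y hy => ⟨⟨y, hYK hy⟩,
      le_fittingSubgroup (N := Y.subgroupOf K) (hYn.comap _)
        (isNilpotent_congr (Subgroup.subgroupOfEquivOfLe hYK).symm hYnil) (Subgroup.mem_subgroupOf.mpr hy), rfl⟩
    exact (le_inf (hQXQ.trans le_sup_left) hQD).trans hYF
  -- hence `x` centralizes `K / F`
  haveI : Group.IsSolvable Kb := inferInstance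
  have hXbs : Group.IsSolvable Xb := inferInstance
  have hKX : ⁅Kb, Xb⁆ = ⊥ := by
    have hXbK : Xb ≤ Subgroup.normalizer (Kb : Set (G ⧸ F)) := le_top.trans (Subgroup.normalizer_eq_top Kb).ge
    have hcopb : (Nat.card Xb).Coprime (Nat.card Kb) :=
      (hcopX.coprime_dvd_left (Subgroup.card_map_dvd X π)).coprime_dvd_right (Subgroup.card_map_dvd K π)
    have hcent : Kb ⊓ Subgroup.centralizer (fittingOf Kb : Set (G ⧸ F)) ≤ fittingOf Kb :=
      le_fittingOf_of_normal_in_centralizer le_rfl Subgroup.le_normalizer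
        (Group.isSolvable_of_isSolvable_injective (Subgroup.inclusion_injective inf_le_left))
    haveI : (fittingOf Kb).Normal := normal_map_subtype_of_characteristic _
    have h1 : ⁅Kb, Xb⁆ ≤ Subgroup.centralizer (fittingOf Kb : Set (G ⧸ F)) := by
      rw [Subgroup.commutator_le]
      intro k hk a ha
      refine Coprime.mem_centralizer_iff_conj.mpr fun f hf => ?_
      have hc : ∀ g ∈ fittingOf Kb, a * g * a⁻¹ = g := fun g hg => by
        rw [Subgroup.mem_centralizer_iff.mp (hF2 hg) a ha, mul_inv_cancel_right]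
      have hc' : ∀ g ∈ fittingOf Kb, a⁻¹ * g * a = g := fun g hg => by
        conv_lhs => rw [← hc g hg]
        group
      have h2 : k⁻¹ * (a * f * a⁻¹) * k ∈ fittingOf Kb := by
        rw [hc f hf]
        simpa using (inferInstance : (fittingOf Kb).Normal).conj_mem f hf k⁻¹
      rw [commutatorElement_def]
      calc k * a * k⁻¹ * a⁻¹ * f * (k * a * k⁻¹ * a⁻¹)⁻¹
          = k * (a * (k⁻¹ * (a⁻¹ * f * a) * k) * a⁻¹) * k⁻¹ := by group
        _ = f := by
          rw [hc' f hf, hc _ (by simpa using (inferInstance : (fittingOf Kb).Normal).conj_mem f hf k⁻¹)]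
          group
    have h3 : ⁅Kb, Xb⁆ ≤ fittingOf Kb :=
      (le_inf (Coprime.commutator_le_of_le_normalizer hXbK) h1).trans hcent
    haveI := hXbs
    refine Coprime.commutator_eq_bot_of_commutator_commutator hXbK hcopb (le_bot_iff.mp ?_)
    refine (Subgroup.commutator_mono h3 le_rfl).trans (le_of_eq ?_)
    exact Subgroup.commutator_eq_bot_iff_le_centralizer.mpr hF2
  rw [Subgroup.commutator_le]
  intro k hk y hy
  have hfix : ∀ a ∈ X, ⁅k, a⁆ ∈ F := fun a ha => (QuotientGroup.eq_one_iff _).mp (by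
    show π ⁅k, a⁆ = 1
    rw [map_commutatorElement]
    exact Subgroup.mem_bot.mp (hKX.le (Subgroup.commutator_mem_commutator (Subgroup.mem_map_of_mem π hk)
      (Subgroup.mem_map_of_mem π ha))))
  haveI := hXs
  obtain ⟨m, hm, c, hc, rfl⟩ := Coprime.exists_mul_centralizer hXK hcopX hFK
    (le_top.trans (Subgroup.normalizer_eq_top F).ge) hk hfix
  have hcy : c * y = y * c := (Subgroup.mem_centralizer_iff.mp (hCX.le hc).2 y hy).symm
  have e : ⁅m * c, y⁆ = m * (y * m⁻¹ * y⁻¹) := by
    rw [commutatorElement_def]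
    calc m * c * y * (m * c)⁻¹ * y⁻¹ = m * (c * y * c⁻¹) * m⁻¹ * y⁻¹ := by group
      _ = m * (y * m⁻¹ * y⁻¹) := by rw [hcy]; group
  rw [e]
  exact F.mul_mem hm (hFn.conj_mem _ (F.inv_mem hm) y)

end Cfsg.Agent.Core.BG
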