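/-
Minimal simple groups of odd order: self-centralizing normal subgroups of rank three.
-/
import Cfsg.Agent.Core.BG.Chain
import Cfsg.Agent.S1401
import Cfsg.Agent.S0056
import Cfsg.Agent.Core.Hall
import Cfsg.Agent.Transfer.ZJFusion
import Cfsg.Agent.Dickson.PSolvable
import Cfsg.Agent.OddLocal.RankTwo.NarrowSolvable
import Mathlib.GroupTheory.Focal

set_option autoImplicit false
set_option linter.style.haveILetI false
set_option linter.unusedSectionVars false

namespace Cfsg.Agent.Core.BG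

open Cfsg
open Cfsg.Agent.Coprime (map_conj_mem map_conj_le_iff exists_mul_of_mem_sup mem_normalizer_of_conj_mem)
open scoped commutatorElement

variable {G : Type*} [Group G] [Finite G]

/-- A subgroup in the derived group of `N = K N₀` lies in the derived group of `N₀` if it has order
coprime to that of `K`. -/
theorem le_commutator_of_factor {P K N N₀ : Subgroup G} (hN : N ≤ K ⊔ N₀)
    (hK : N₀ ≤ Subgroup.normalizer (K : Set G)) (hP₀ : P ≤ N₀) (hP : P ≤ ⁅N, N⁆)
    (hcop : (Nat.card P).Coprime (Nat.card K)) : P ≤ ⁅N₀, N₀⁆ := by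
  set S := Subgroup.normalizer (K : Set G)
  haveI : (K.subgroupOf S).Normal := Subgroup.normal_subgroupOf_of_le_normalizer le_rfl
  set φ := QuotientGroup.mk' (K.subgroupOf S)
  have hN₀' : ⁅N₀, N₀⁆ ≤ N₀ := Subgroup.commutator_le.mpr fun a ha b hb =>
    N₀.mul_mem (N₀.mul_mem (N₀.mul_mem ha hb) (N₀.inv_mem ha)) (N₀.inv_mem hb)
  have hNN : ⁅N, N⁆ ≤ K ⊔ ⁅N₀, N₀⁆ := by
    rw [Subgroup.commutator_le]
    intro g₁ hg₁ g₂ hg₂
    obtain ⟨k₁, hk₁, m₁, hm₁, rfl⟩ := exists_mul_of_mem_sup hK (hN hg₁)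
    obtain ⟨k₂, hk₂, m₂, hm₂, rfl⟩ := exists_mul_of_mem_sup hK (hN hg₂)
    have hφ : ∀ (k m : G) (hk : k ∈ K) (hg : k * m ∈ S) (hm : m ∈ S),
        φ ⟨k * m, hg⟩ = φ ⟨m, hm⟩ := fun k m hk hg hm => by
      rw [show (⟨k * m, hg⟩ : S) = ⟨k, Subgroup.le_normalizer hk⟩ * ⟨m, hm⟩ from rfl, map_mul,
        show φ ⟨k, Subgroup.le_normalizer hk⟩ = 1 from (QuotientGroup.eq_one_iff _).mpr hk, one_mul]
    have hg₁' : k₁ * m₁ ∈ S := S.mul_mem (Subgroup.le_normalizer hk₁) (hK hm₁)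
    have hg₂' : k₂ * m₂ ∈ S := S.mul_mem (Subgroup.le_normalizer hk₂) (hK hm₂)
    have h : φ (⁅(⟨k₁ * m₁, hg₁'⟩ : S), ⟨k₂ * m₂, hg₂'⟩⁆ * ⁅(⟨m₁, hK hm₁⟩ : S), ⟨m₂, hK hm₂⟩⁆⁻¹) = 1 := by
      rw [map_mul, map_inv, map_commutatorElement, map_commutatorElement, hφ k₁ m₁ hk₁ hg₁' (hK hm₁),
        hφ k₂ m₂ hk₂ hg₂' (hK hm₂), mul_inv_cancel]
    have h' : ⁅k₁ * m₁, k₂ * m₂⁆ * ⁅m₁, m₂⁆⁻¹ ∈ K :=
      Subgroup.mem_subgroupOf.mp ((QuotientGroup.eq_one_iff (N := K.subgroupOf S) _).mp h)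
    have h'' := Subgroup.mul_mem_sup h' (Subgroup.commutator_mem_commutator hm₁ hm₂)
    rwa [inv_mul_cancel_right] at h''
  intro x hx
  obtain ⟨k, hk, m, hm, hkm⟩ := exists_mul_of_mem_sup (hN₀'.trans hK) (hNN (hP hx))
  have hkN : k ∈ N₀ := by
    have : k = x * m⁻¹ := by rw [← hkm]; group
    rw [this]; exact N₀.mul_mem (hP₀ hx) (N₀.inv_mem (hN₀' hm))
  haveI : ((⁅N₀, N₀⁆).subgroupOf N₀).Normal :=
    Subgroup.normal_subgroupOf_of_le_normalizer (Subgroup.normalizer_commutator_ge_left N₀ N₀)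
  set ψ := QuotientGroup.mk' ((⁅N₀, N₀⁆).subgroupOf N₀)
  have hxk : ψ ⟨x, hP₀ hx⟩ = ψ ⟨k, hkN⟩ := by
    rw [show (⟨x, hP₀ hx⟩ : N₀) = ⟨k, hkN⟩ * ⟨m, hN₀' hm⟩ from Subtype.ext hkm.symm, map_mul,
      show ψ ⟨m, hN₀' hm⟩ = 1 from (QuotientGroup.eq_one_iff _).mpr hm, mul_one]
  have h1 : ψ ⟨x, hP₀ hx⟩ = 1 := orderOf_eq_one_iff.mp (Nat.eq_one_of_dvd_coprimes hcop
    ((orderOf_map_dvd ψ _).trans (by rw [Subgroup.orderOf_mk]; exact Subgroup.orderOf_dvd_natCard _ hx))
    (hxk ▸ (orderOf_map_dvd ψ _).trans (by rw [Subgroup.orderOf_mk]; exact Subgroup.orderOf_dvd_natCard _ hk)))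
  exact Subgroup.mem_subgroupOf.mp ((QuotientGroup.eq_one_iff (N := (⁅N₀, N₀⁆).subgroupOf N₀) _).mp h1)

/-- The restriction to `N₀` of the action of a normalizer. -/
theorem map_mem_commutator_range {P N₀ R : Subgroup G} (hP : P ≤ ⁅N₀, N₀⁆)
    (hN : N₀ ≤ Subgroup.normalizer (R : Set G)) {x : G} (hx : x ∈ P) :
    ∃ y : N₀, (y : G) = x ∧ R.normalizerMonoidHom (Subgroup.inclusion hN y) ∈
      ⁅(R.normalizerMonoidHom.comp (Subgroup.inclusion hN)).range,
        (R.normalizerMonoidHom.comp (Subgroup.inclusion hN)).range⁆ := by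
  obtain ⟨y, hy, hyx⟩ : x ∈ (commutator N₀).map N₀.subtype := by
    rw [Subgroup.map_subtype_commutator]; exact hP hx
  refine ⟨y, hyx, ?_⟩
  rw [MonoidHom.range_eq_map, ← Subgroup.map_commutator]
  exact ⟨y, hy, rfl⟩

theorem le_centralizer_of_apply_eq_one {P N₀ R : Subgroup G} (hN : N₀ ≤ Subgroup.normalizer (R : Set G))
    (h : ∀ x ∈ P, ∃ y : N₀, (y : G) = x ∧ R.normalizerMonoidHom (Subgroup.inclusion hN y) = 1) :
    P ≤ Subgroup.centralizer (R : Set G) := by
  intro x hx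
  obtain ⟨y, hyx, hy⟩ := h x hx
  have hk : Subgroup.inclusion hN y ∈ R.normalizerMonoidHom.ker := hy
  rw [Subgroup.normalizerMonoidHom_ker] at hk
  exact hyx ▸ hk

/-- The derived group centralizes an invariant cyclic subgroup. -/
theorem le_centralizer_of_isCyclic {P N₀ R : Subgroup G} (hP : P ≤ ⁅N₀, N₀⁆)
    (hN : N₀ ≤ Subgroup.normalizer (R : Set G)) (hR : IsCyclic R) :
    P ≤ Subgroup.centralizer (R : Set G) := by
  haveI := hR
  refine le_centralizer_of_apply_eq_one hN fun x hx => ?_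
  obtain ⟨y, hyx, hy⟩ := map_mem_commutator_range hP hN hx
  refine ⟨y, hyx, Subgroup.mem_bot.mp ?_⟩
  set f := R.normalizerMonoidHom.comp (Subgroup.inclusion hN)
  have h0 : ⁅f.range, f.range⁆ = ⊥ :=
    Subgroup.commutator_eq_bot_iff_le_centralizer.mpr fun a _ => Subgroup.mem_centralizer_iff.mpr fun b _ =>
      (IsCyclic.mulAutMulEquiv R).injective (by rw [map_mul, map_mul, mul_comm])
  rwa [h0] at hy

/-- A `p`-subgroup of the derived group centralizes an invariant `q`-group with small automorphisms. -/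
theorem le_centralizer_of_oddAutSmall {p q : ℕ} [hp : Fact p.Prime] [hq : Fact q.Prime] (hpq : p ≠ q)
    {P N₀ R : Subgroup G} (hN₀ : Odd (Nat.card N₀)) (hN₀s : Group.IsSolvable N₀) (hPp : IsPGroup p P)
    (hP : P ≤ ⁅N₀, N₀⁆) (hN : N₀ ≤ Subgroup.normalizer (R : Set G))
    (h : OddLocal.RankTwo.OddAutSmall q R) : P ≤ Subgroup.centralizer (R : Set G) := by
  set f := R.normalizerMonoidHom.comp (Subgroup.inclusion hN) with hf
  haveI := hN₀s
  have hX := h.1 f.range (hN₀.of_dvd_nat (Subgroup.card_range_dvd f))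
    (Group.isSolvable_of_surjective f.rangeRestrict_surjective)
  refine le_centralizer_of_apply_eq_one hN fun x hx => ?_
  obtain ⟨y, hyx, hy⟩ := map_mem_commutator_range hP hN hx
  refine ⟨y, hyx, ?_⟩
  rw [← Subgroup.map_subtype_commutator] at hy
  obtain ⟨k, hk⟩ := IsPGroup.iff_card.mp (hX.map f.range.subtype)
  obtain ⟨n, hn⟩ := IsPGroup.iff_card.mp hPp
  refine orderOf_eq_one_iff.mp (Nat.eq_one_of_dvd_coprimes (((Nat.coprime_primes hp.out hq.out).mpr hpq).pow n k)
    ((orderOf_map_dvd f y).trans ?_) (hk ▸ Subgroup.orderOf_dvd_natCard _ hy))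
  rw [← Subgroup.orderOf_coe, hyx, ← hn]
  exact Subgroup.orderOf_dvd_natCard P hx

/-- In a finite cyclic group, subgroups are determined by their orders. -/
theorem le_of_card_dvd_of_isCyclic {K A B : Subgroup G} (hK : IsCyclic K) (hA : A ≤ K) (hB : B ≤ K)
    (h : Nat.card A ∣ Nat.card B) : A ≤ B := by
  haveI := hK
  letI : CommGroup K := IsCyclic.commGroup
  intro a ha
  set f := (powMonoidHom (Nat.card B) : K →* K)
  have hBf : B.subgroupOf K ≤ f.ker := fun b hb => by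
    rw [MonoidHom.mem_ker, powMonoidHom_apply]
    exact Subtype.ext (orderOf_dvd_iff_pow_eq_one.mp
      (Subgroup.orderOf_dvd_natCard B (Subgroup.mem_subgroupOf.mp hb)))
  have hcard : Nat.card f.ker ≤ Nat.card ↥(B.subgroupOf K) := by
    rw [IsCyclic.card_powMonoidHom_ker, card_subgroupOf hB]
    exact Nat.gcd_le_right _ Nat.card_pos
  refine Subgroup.mem_subgroupOf.mp ((Subgroup.eq_of_le_of_card_ge hBf hcard).ge ?_ : (⟨a, hA ha⟩ : K) ∈ B.subgroupOf K)
  rw [MonoidHom.mem_ker, powMonoidHom_apply]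
  exact Subtype.ext (orderOf_dvd_iff_pow_eq_one.mp ((Subgroup.orderOf_dvd_natCard A ha).trans h))

/-- A cyclic Sylow subgroup for the smaller of two primes normalizes a Sylow subgroup for the larger. -/
theorem dvd_card_normalizer_of_cyclic {J : Type*} [Group J] [Finite J] [Group.IsSolvable J] {q s : ℕ}
    [hq : Fact q.Prime] [hs : Fact s.Prime] (hqs : q < s) (Q : Sylow q J) (S : Sylow s J) (hQ : IsCyclic Q)
    (hqJ : q ∣ Nat.card J) : q ∣ Nat.card (Subgroup.normalizer ((S : Subgroup J) : Set J)) := by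
  obtain ⟨K, hK₁, hK₂⟩ := exists_isPiHall_of_isSolvable (G := J) ({q, s} : Set ℕ)
  have hKq : ¬ q ∣ K.index := hK₂ q hq.out (Or.inl rfl)
  have hKs : ¬ s ∣ K.index := hK₂ s hs.out (Or.inr rfl)
  have hqK : q ∣ Nat.card K :=
    (hq.out.dvd_mul.mp (K.card_mul_index.symm ▸ hqJ)).resolve_right hKq
  have hmin : (Nat.card K).minFac = q := by
    have h1 : Nat.card K ≠ 1 := fun h => hq.out.ne_one (Nat.dvd_one.mp (h ▸ hqK))
    have h2 := hK₁ _ (Nat.minFac_prime h1) (Nat.minFac_dvd _)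
    have h3 := Nat.minFac_le_of_dvd hq.out.two_le hqK
    rcases h2 with h2 | h2
    · exact h2
    · rw [Set.mem_singleton_iff] at h2; omega
  obtain ⟨Q'⟩ := (inferInstance : Nonempty (Sylow q K))
  have hQ' : IsCyclic Q' := by
    obtain ⟨T, hT⟩ := (Q'.isPGroup'.map K.subtype).exists_le_sylow
    haveI : IsCyclic T := isCyclic_of_surjective (Q.equiv T).toMonoidHom (Q.equiv T).surjective
    exact isCyclic_of_injective ((Subgroup.inclusion hT).comp
      ((Q' : Subgroup K).equivMapOfInjective K.subtype K.subtype_injective).toMonoidHom)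
      ((Subgroup.inclusion_injective hT).comp (MulEquiv.injective _))
  obtain ⟨N, hNn, hNi, hNq⟩ : ∃ N : Subgroup K, N.Normal ∧ N.index = Nat.card Q' ∧ ¬ q ∣ Nat.card N :=
    ⟨_, MonoidHom.normal_ker _, (hQ'.isComplement' hmin).symm.index_eq_card,
      MonoidHom.not_dvd_card_ker_transferSylow Q' (hQ'.normalizer_le_centralizer hmin)⟩
  have hNs : IsPGroup s N := by
    refine IsPGroup.iff_card.mpr ⟨_, Nat.eq_prime_pow_of_unique_prime_dvd Nat.card_pos.ne' fun {d} hd hdN => ?_⟩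
    rcases hK₁ d hd (hdN.trans (Subgroup.card_subgroup_dvd_card N)) with h | h
    · exact absurd (h ▸ hdN) hNq
    · exact h
  have hN's : IsPGroup s (N.map K.subtype) := hNs.map _
  have hN'i : ¬ s ∣ (N.map K.subtype).index := by
    rw [Subgroup.index_map_subtype, hs.out.dvd_mul, not_or, hNi]
    refine ⟨fun h => ?_, hKs⟩
    obtain ⟨k, hk⟩ := Q'.isPGroup'.exists_card_eq
    rw [hk] at h
    exact hqs.ne' ((Nat.prime_dvd_prime_iff_eq hs.out hq.out).mp (hs.out.dvd_of_dvd_pow h))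
  have hKN : K ≤ Subgroup.normalizer ((N.map K.subtype : Subgroup J) : Set J) := fun x hx => by
    refine mem_normalizer_of_conj_mem ?_
    rintro _ ⟨y, hy, rfl⟩
    exact ⟨⟨x, hx⟩ * y * ⟨x, hx⟩⁻¹, hNn.conj_mem y hy _, rfl⟩
  have h := hqK.trans (Subgroup.card_dvd_of_le hKN)
  have e1 : (Subgroup.normalizer ((N.map K.subtype : Subgroup J) : Set J)).index =
      (Subgroup.normalizer ((S : Subgroup J) : Set J)).index :=
    ((hN's.toSylow hN'i).card_eq_index_normalizer).symm.trans S.card_eq_index_normalizer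
  have e2 := (Subgroup.normalizer ((S : Subgroup J) : Set J)).card_mul_index
  have e3 := (Subgroup.normalizer ((N.map K.subtype : Subgroup J) : Set J)).card_mul_index
  rw [e1] at e3
  have e4 := Nat.eq_of_mul_eq_mul_right (Nat.pos_of_ne_zero Subgroup.index_ne_zero_of_finite) (e3.trans e2.symm)
  rwa [e4] at h

variable {p : ℕ} [hp : Fact p.Prime]

/-- A Sylow subgroup lies in the derived group of the normalizer of the centre of its Thompson
subgroup. -/
theorem sylow_le_commutator_normalizer_zj (hG : IsMinSimpleOddOrder G) (hp2 : p ≠ 2) (P : Sylow p G) :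
    (P : Subgroup G) ≤ ⁅Subgroup.normalizer (centerThompsonOf p (P : Subgroup G) : Set G),
      Subgroup.normalizer (centerThompsonOf p (P : Subgroup G) : Set G)⁆ := by
  have htop : commutator G = ⊤ := by
    haveI := hG.2.1
    rcases Subgroup.Normal.eq_bot_or_eq_top (H := commutator G) inferInstance with h | h
    · refine absurd ⟨⟨fun a b => commutatorElement_eq_one_iff_mul_comm.mp (Subgroup.mem_bot.mp ?_)⟩⟩ hG.2.2.1
      rw [← h, commutator_def]
      exact Subgroup.commutator_mem_commutator (Subgroup.mem_top a) (Subgroup.mem_top b)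
    · exact h
  have hns : ¬ Dickson.HasSL2Section p (⊤ : Subgroup G) := by
    refine Dickson.no_section_of_abelian_sylow_two hp2 fun T => ?_
    haveI := Fact.mk Nat.prime_two
    obtain ⟨k, hk⟩ := T.isPGroup'.exists_card_eq
    have hd := hG.1.of_dvd_nat (Subgroup.card_subgroup_dvd_card (T : Subgroup G))
    rw [hk] at hd
    rcases Nat.eq_zero_or_pos k with rfl | hk0
    · rw [pow_zero] at hk
      haveI : Subsingleton T := (Nat.card_eq_one_iff_unique.mp hk).1
      exact ⟨⟨fun a b => Subsingleton.elim _ _⟩⟩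
    · exact absurd ((Nat.odd_pow_iff hk0.ne').mp hd) (by decide)
  set N := Subgroup.normalizer (centerThompsonOf p (P : Subgroup G) : Set G)
  have hPN : (P : Subgroup G) ≤ N :=
    Subgroup.le_normalizer.trans (normalizer_le_normalizer_centerThompsonOf _)
  have h0 := Subgroup.commutator_inf_eq_focalSubgroup P
  rw [htop, top_inf_eq] at h0
  refine le_trans (le_of_eq h0) ?_
  rw [Subgroup.focalSubgroup_def, Subgroup.closure_le]
  rintro _ ⟨hg, x, hx, u, rfl⟩
  have hxu : u * x⁻¹ * u⁻¹ ∈ (P : Subgroup G) := by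
    have := mul_mem (inv_mem hx) hg
    rwa [commutatorElement_def, show x⁻¹ * (x * u * x⁻¹ * u⁻¹) = u * x⁻¹ * u⁻¹ by group] at this
  obtain ⟨n, hn, hne⟩ := Transfer.ZJ.agreesIn hp2 hns P (A := Subgroup.zpowers x⁻¹) (g := u)
    (Subgroup.zpowers_le.mpr (inv_mem hx)) (by
      rw [MonoidHom.map_zpowers, Subgroup.zpowers_le]; exact hxu)
  have e := hne x⁻¹ (Subgroup.mem_zpowers _)
  rw [SetLike.mem_coe, show ⁅x, u⁆ = x * (u * x⁻¹ * u⁻¹) by rw [commutatorElement_def]; group, ← e,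
    show x * (n * x⁻¹ * n⁻¹) = ⁅x, n⁆ by rw [commutatorElement_def]; group]
  exact Subgroup.commutator_mem_commutator (hPN hx) hn

/-- The core of the centralizer of `A`. -/
def coreC (A : Subgroup G) : Subgroup G :=
  piCoreOf (primesNotDvd (Nat.card A)) (Subgroup.centralizer (A : Set G))

theorem coreC_le (A : Subgroup G) : coreC A ≤ Subgroup.centralizer (A : Set G) := piCoreOf_le _ _

/-- The standing hypotheses: `A` is normal and self-centralizing in the Sylow subgroup `P`, of rank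
three, and `U` lies between `A` and `P` with `P ≤ N(U)'`. -/
structure ScnSetting (P : Sylow p G) (A E U : Subgroup G) : Prop where
  simple : IsMinSimpleOddOrder G
  scn : IsSCN (P : Subgroup G) A
  EA : IsElementaryAbelian p E
  E_le : E ≤ A
  E_card : p ^ 3 ≤ Nat.card E
  le_U : A ≤ U
  U_le : U ≤ (P : Subgroup G)
  P_der : (P : Subgroup G) ≤ ⁅Subgroup.normalizer (U : Set G), Subgroup.normalizer (U : Set G)⁆
  P_nor : (P : Subgroup G) ≤ Subgroup.normalizer (U : Set G)
  rank_F : ∀ M : Subgroup G, IsCoatom M → PRankLE p 2 (fittingOf M)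

namespace ScnSetting

variable {P : Sylow p G} {A E U : Subgroup G} (h : ScnSetting P A E U)
include h

theorem A_le : A ≤ (P : Subgroup G) := h.scn.1

theorem isPGroup : IsPGroup p A := P.isPGroup'.to_le h.A_le

theorem A_comm : IsMulCommutative A :=
  ⟨⟨fun a b => Subtype.ext (Subgroup.mem_centralizer_iff.mp (h.scn.2.2.ge b.2).2 a a.2)⟩⟩

theorem A_le_centralizer : A ≤ Subgroup.centralizer (A : Set G) := h.scn.2.2.ge.trans inf_le_right

theorem E_ne : E ≠ ⊥ := fun e => by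
  have := h.E_card
  rw [Subgroup.card_eq_one.mpr e] at this
  exact absurd this (Nat.one_lt_pow (by norm_num) hp.out.one_lt).not_ge

theorem A_ne : A ≠ ⊥ := fun e => h.E_ne (le_bot_iff.mp (e ▸ h.E_le))

theorem dvd_A : p ∣ Nat.card A := by
  obtain ⟨k, hk⟩ := IsPGroup.iff_card.mp h.isPGroup
  exact hk ▸ dvd_pow_self p fun e => h.A_ne (Subgroup.eq_bot_of_card_eq _ (by rw [hk, e, pow_zero]))

theorem p_ne_two : p ≠ 2 :=
  OddLocal.RankTwo.ne_two_of_dvd h.simple.1 (h.dvd_A.trans (Subgroup.card_subgroup_dvd_card A))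

theorem not_dvd {q : ℕ} (hq : q.Prime) (hqp : q ≠ p) : ¬ q ∣ Nat.card A := by
  intro hd
  obtain ⟨k, hk⟩ := IsPGroup.iff_card.mp h.isPGroup
  rw [hk] at hd
  exact hqp ((Nat.prime_dvd_prime_iff_eq hq hp.out).mp (hq.dvd_of_dvd_pow hd))

theorem transHyp : TransitivityHypothesis A :=
  transitivityHypothesis_of_full h.simple (h.dvd_A.trans (Subgroup.card_subgroup_dvd_card A)) h.isPGroup h.A_ne
    fun _ hx hxp => OddChar.mem_of_mem_centralizer_pElement P h.scn.2.1 h.scn.2.2 hx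
      ⟨1, by rw [pow_one]; exact hxp⟩

theorem rank_Z : ¬ RankLE 2 ↥(A ⊓ Subgroup.centralizer (A : Set G)) :=
  not_rankLE_two_of_ea hp.out h.EA (le_inf h.E_le (h.E_le.trans h.A_le_centralizer)) h.E_card

theorem P_ne_top : (P : Subgroup G) ≠ ⊤ := fun e =>
  normalizer_ne_top_of_isPGroup h.simple (X := (P : Subgroup G))
    (fun e' => h.A_ne (le_bot_iff.mp (e' ▸ h.A_le))) P.isPGroup' (by rw [e]; exact Subgroup.normalizer_eq_top ⊤)

theorem primes_dvd {X : Subgroup G} (hX : X ≤ (P : Subgroup G)) :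
    ∀ r : ℕ, r.Prime → r ∣ Nat.card X → r ∣ Nat.card A := by
  intro r hr hrd
  obtain ⟨k, hk⟩ := P.isPGroup'.exists_card_eq
  have := hrd.trans (Subgroup.card_dvd_of_le hX)
  rw [hk] at this
  rw [(Nat.prime_dvd_prime_iff_eq hr hp.out).mp (hr.dvd_of_dvd_pow this)]
  exact h.dvd_A

theorem le_coreC {L : Subgroup G} (hL : L ≤ Subgroup.centralizer (A : Set G))
    (hπ : IsPiNat (primesNotDvd (Nat.card A)) (Nat.card L)) : L ≤ coreC A :=
  inv_le_K h.simple h.transHyp hL hπ

theorem isPiNat_coreC : IsPiNat (primesNotDvd (Nat.card A)) (Nat.card (coreC A)) := isPiNat_piCoreOf _ _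

/-- Every maximal `P`-invariant `q`-subgroup is maximal `A`-invariant, and `P` lies in the derived
group of its normalizer. -/
theorem inv_facts {q : ℕ} (hq : q.Prime) (hqp : q ≠ p) {S : Subgroup G}
    (hS : S ∈ maxInvSubgroups ⊤ (P : Subgroup G) {q}) :
    S ∈ maxInvSubgroups ⊤ A {q} ∧
      Subgroup.normalizer (U : Set G) ≤
        coreC A ⊔ (Subgroup.normalizer (U : Set G) ⊓ Subgroup.normalizer (S : Set G)) ∧
      (P : Subgroup G) ≤ ⁅Subgroup.normalizer (U : Set G) ⊓ Subgroup.normalizer (S : Set G),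
        Subgroup.normalizer (U : Set G) ⊓ Subgroup.normalizer (S : Set G)⁆ := by
  have hqA := h.not_dvd hq hqp
  have htr := transitive_of_center_rank_three h.simple h.transHyp hq hqA h.rank_Z
  have hUtop : U ≠ ⊤ := fun e => h.P_ne_top (top_le_iff.mp (e ▸ h.U_le))
  obtain ⟨hU1, hU2⟩ := descends_subnormal h.simple h.transHyp hq hqA htr (Nat.card U) U le_rfl hUtop h.le_U
    (isSubnormal_subgroupOf_of_isPGroup (P.isPGroup'.to_le h.U_le)) (h.primes_dvd h.U_le)
  obtain ⟨hTU, hsetU⟩ := transitivityHypothesis_overgroup h.transHyp hUtop h.le_U (h.primes_dvd h.U_le)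
  obtain ⟨hP1, -⟩ := descends_subnormal h.simple hTU hq
    (fun hd => hqA (h.primes_dvd h.U_le q hq hd)) hU2 (Nat.card (P : Subgroup G)) P le_rfl h.P_ne_top h.U_le
    (isSubnormal_subgroupOf_of_isPGroup P.isPGroup')
    (fun r hr hd => (h.primes_dvd le_rfl r hr hd).trans (Subgroup.card_dvd_of_le h.le_U))
  have hSU := hP1 hS
  set DU := piCoreOf (primesNotDvd (Nat.card U)) (Subgroup.centralizer (U : Set G))
  set N₀ := Subgroup.normalizer (U : Set G) ⊓ Subgroup.normalizer (S : Set G)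
  have hDn : Subgroup.normalizer (U : Set G) ≤ Subgroup.normalizer (DU : Set G) := by
    refine le_trans (fun r hr => ?_) (normalizer_le_normalizer_piCoreOf _ _)
    refine mem_normalizer_of_conj_mem fun y hy => ?_
    rw [Coprime.mem_centralizer_iff_conj] at hy ⊢
    intro a ha
    have h1 : r⁻¹ * a * r ∈ U :=
      (Subgroup.mem_normalizer_iff.mp hr _).mpr (by simpa [mul_assoc] using ha)
    calc r * y * r⁻¹ * a * (r * y * r⁻¹)⁻¹ = r * (y * (r⁻¹ * a * r) * y⁻¹) * r⁻¹ := by group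
      _ = a := by rw [hy _ h1]; group
  have hfac : Subgroup.normalizer (U : Set G) ≤ DU ⊔ N₀ := by
    intro g hg
    obtain ⟨k, hk, hke⟩ := hU2 S hSU _ (conj_maxInv hq hg hSU)
    have hkS : k⁻¹ * g ∈ Subgroup.normalizer (S : Set G) :=
      Subgroup.mem_normalizer_iff_map_conj_eq.mpr (show S.map (MulAut.conj (k⁻¹ * g)).toMonoidHom = S by
        rw [← Components.map_conj_map_conj, hke, Components.map_conj_map_conj, inv_mul_cancel, conj_one_map])
    have hkN : k ∈ Subgroup.normalizer (U : Set G) :=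
      Subgroup.centralizer_le_normalizer _ (piCoreOf_le _ _ hk)
    have := Subgroup.mul_mem_sup hk (show k⁻¹ * g ∈ N₀ from ⟨(Subgroup.normalizer (U : Set G)).mul_mem ((Subgroup.normalizer (U : Set G)).inv_mem hkN) hg, hkS⟩)
    rwa [mul_inv_cancel_left] at this
  have hDD : DU ≤ coreC A := h.le_coreC ((piCoreOf_le _ _).trans (Subgroup.centralizer_le h.le_U))
    (hsetU ▸ isPiNat_piCoreOf _ _)
  refine ⟨hU1 hSU, hfac.trans (sup_le_sup_right hDD _),
    le_commutator_of_factor hfac (inf_le_left.trans hDn) (le_inf h.P_nor hS.1.2.2) h.P_der ?_⟩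
  obtain ⟨k, hk⟩ := P.isPGroup'.exists_card_eq
  rw [hk]
  exact (hp.out.coprime_iff_not_dvd.mpr fun hd =>
    ((hsetU ▸ isPiNat_piCoreOf _ _ : IsPiNat (primesNotDvd (Nat.card A)) (Nat.card DU)) p hp.out hd).2
      h.dvd_A).pow_left k

/-- An `A`-invariant `q`-group lies in a `coreC A`-conjugate of a given maximal `P`-invariant one. -/
theorem le_conj {q : ℕ} (hq : q.Prime) (hqp : q ≠ p) {S : Subgroup G}
    (hS : S ∈ maxInvSubgroups ⊤ (P : Subgroup G) {q}) {T : Subgroup G} (hT : IsPGroup q T)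
    (hAT : A ≤ Subgroup.normalizer (T : Set G)) :
    ∃ d ∈ coreC A, T ≤ S.map (MulAut.conj d).toMonoidHom := by
  obtain ⟨T', hT', hle⟩ := exists_maxInv_ge hq hT hAT
  obtain ⟨d, hd, e⟩ := transitive_of_center_rank_three h.simple h.transHyp hq (h.not_dvd hq hqp) h.rank_Z
    S (h.inv_facts hq hqp hS).1 T' hT'
  exact ⟨d, hd, e ▸ hle⟩

end ScnSetting

/-- A maximal subgroup `L` with its large nonnarrow maximal `P`-invariant `q`-subgroup `R`. -/
structure StrongData (P : Sylow p G) (A U L : Subgroup G) (q : ℕ) (R : Subgroup G) : Prop where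
  coat : IsCoatom L
  prime : q.Prime
  ne : q ≠ p
  inv : R ∈ maxInvSubgroups ⊤ (P : Subgroup G) {q}
  noncyclic : ¬ IsCyclic R
  le : R ≤ L
  norm : ∀ V : Subgroup G, V ≤ R → V ≠ ⊥ → Subgroup.normalizer (V : Set G) ≤ L
  over_le : ∀ Y : Subgroup G, Y ≤ R → ¬ IsCyclic Y → ∀ X : Subgroup G, X ≠ ⊤ → Y ≤ X → X ≤ L
  sylow_le : (P : Subgroup G) ≤ L
  core_le : coreC A ≤ L
  normalizer_le : Subgroup.normalizer (U : Set G) ≤ L

theorem le_of_unique (hG : IsMinSimpleOddOrder G) {B L : Subgroup G} (hB : InUniqueMaximal B) (hL : IsCoatom L)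
    (hBL : B ≤ L) {X : Subgroup G} (hX : X ≠ ⊤) (hBX : B ≤ X) : X ≤ L := by
  obtain ⟨Y, hY, hle⟩ := (eq_top_or_exists_le_coatom X).resolve_left hX
  exact hB.unique ⟨hY, hBX.trans hle⟩ ⟨hL, hBL⟩ ▸ hle

theorem not_isCyclic_of_ea {q k : ℕ} [hq : Fact q.Prime] {B R : Subgroup G} (hB : IsElementaryAbelian q B)
    (hBR : B ≤ R) (hk : 2 ≤ k) (hc : q ^ k ≤ Nat.card B) : ¬ IsCyclic R := by
  intro hR
  haveI := hR
  have hcy : IsCyclic B := isCyclic_of_injective (Subgroup.inclusion hBR) (Subgroup.inclusion_injective _)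
  have h1 : Nat.card B ∣ q := by
    rw [← IsCyclic.exponent_eq_card]
    exact Monoid.exponent_dvd_of_forall_pow_eq_one fun x => Subtype.ext (hB.2 x x.2)
  have := (Nat.pow_le_pow_iff_right hq.out.one_lt).mp
    (hc.trans ((Nat.le_of_dvd hq.out.pos h1).trans (pow_one q).ge))
  omega

theorem exists_ea_sq {q : ℕ} [hq : Fact q.Prime] (hq2 : q ≠ 2) {Y : Subgroup G} (hY : IsPGroup q Y)
    (hnc : ¬ IsCyclic Y) : ∃ B : Subgroup G, IsElementaryAbelian q B ∧ B ≤ Y ∧ Nat.card B = q ^ 2 := by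
  obtain ⟨U, -, hU, hUc⟩ := Transfer.PNormal.exists_normal_ea_sq hq2 hY hnc
  refine ⟨U.map Y.subtype, ⟨⟨⟨?_⟩⟩, ?_⟩, Subgroup.map_subtype_le U, by rw [card_map_subtype, hUc]⟩
  · rintro ⟨_, a, ha, rfl⟩ ⟨_, b, hb, rfl⟩
    exact Subtype.ext (show Y.subtype a * Y.subtype b = Y.subtype b * Y.subtype a by
      rw [← map_mul, ← map_mul, PLocal.comm_of_EA hU ha hb])
  · rintro _ ⟨a, ha, rfl⟩
    rw [← map_pow, hU.2 a ha, map_one]

namespace ScnSetting

variable {P : Sylow p G} {A E U : Subgroup G} (h : ScnSetting P A E U)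
include h

theorem hyperplanes_inf_ne_bot {B₁ B₂ : Subgroup G} (h₁ : B₁.relIndex E ≤ p) (h₂ : B₂.relIndex E ≤ p) :
    B₁ ⊓ B₂ ≠ ⊥ := by
  intro he
  have h3 : (B₁ ⊓ B₂).relIndex E ≤ p * p := Subgroup.relIndex_inf_le.trans (Nat.mul_le_mul h₁ h₂)
  rw [he, Subgroup.relIndex_bot_left] at h3
  have : p ^ 3 ≤ p ^ 2 := (h.E_card.trans h3).trans (by rw [pow_two])
  exact absurd ((Nat.pow_le_pow_iff_right hp.out.one_lt).mp this) (by omega)

/-- Some element of `E` has noncyclic centralizer in a noncyclic invariant `q`-group. -/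
theorem exists_noncyclic_centralizer {q : ℕ} [hq : Fact q.Prime] (hqp : q ≠ p) {R : Subgroup G}
    (hR : IsPGroup q R) (hRnc : ¬ IsCyclic R) (hER : E ≤ Subgroup.normalizer (R : Set G)) :
    ∃ b ∈ E, b ≠ 1 ∧ ¬ IsCyclic ↥(R ⊓ Subgroup.centralizer ({b} : Set G)) := by
  by_contra! hall
  set F : Finset (Subgroup G) := (Set.toFinite {B : Subgroup G | B ≤ E ∧ B.relIndex E ≤ p}).toFinset with hF
  have memF : ∀ B, B ∈ F ↔ B ≤ E ∧ B.relIndex E ≤ p := fun B => by rw [hF, Set.Finite.mem_toFinset]; rfl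
  obtain ⟨B₀, hB₀, hmax⟩ := F.exists_max_image (fun B : Subgroup G =>
    Nat.card ↥(R ⊓ Subgroup.centralizer (B : Set G)))
    ⟨E, (memF E).mpr ⟨le_rfl, by rw [Subgroup.relIndex_self]; exact hp.out.one_lt.le⟩⟩
  obtain ⟨hB₀E, hB₀i⟩ := (memF B₀).mp hB₀
  have le_single : ∀ B : Subgroup G, ∀ e ∈ B,
      R ⊓ Subgroup.centralizer (B : Set G) ≤ R ⊓ Subgroup.centralizer ({e} : Set G) := fun B e he =>
    inf_le_inf_left _ (Subgroup.centralizer_le (by simpa using he))
  have key : R ≤ R ⊓ Subgroup.centralizer (B₀ : Set G) := by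
    have hpR : ¬ p ∣ Nat.card R := fun hd => by
      obtain ⟨k, hk⟩ := IsPGroup.iff_card.mp hR
      rw [hk] at hd
      exact hqp ((Nat.prime_dvd_prime_iff_eq hp.out hq.out).mp (hp.out.dvd_of_dvd_pow hd)).symm
    refine (Components.le_iSup_hyperplanes h.EA hpR hER).le.trans (iSup_le fun B => ?_)
    obtain ⟨e, he, he1⟩ := ((B : Subgroup G) ⊓ B₀).bot_or_exists_ne_one.resolve_left
      (h.hyperplanes_inf_ne_bot B.2.2 hB₀i)
    refine le_of_card_dvd_of_isCyclic (hall e (B.2.1 he.1) he1) (le_single _ e he.1) (le_single _ e he.2) ?_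
    obtain ⟨i, hi⟩ := IsPGroup.iff_card.mp (hR.to_le (inf_le_left : R ⊓ Subgroup.centralizer ((B : Subgroup G) : Set G) ≤ R))
    obtain ⟨j, hj⟩ := IsPGroup.iff_card.mp (hR.to_le (inf_le_left : R ⊓ Subgroup.centralizer (B₀ : Set G) ≤ R))
    have hle := hmax B ((memF B).mpr B.2)
    rw [hi, hj] at hle ⊢
    exact pow_dvd_pow q ((Nat.pow_le_pow_iff_right hq.out.one_lt).mp hle)
  obtain ⟨e, he, he1⟩ := B₀.bot_or_exists_ne_one.resolve_left fun e =>
    h.hyperplanes_inf_ne_bot hB₀i hB₀i (by rw [e, inf_idem])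
  haveI := hall e (hB₀E he) he1
  exact hRnc (isCyclic_of_injective (Subgroup.inclusion (key.trans (le_single B₀ e he)))
    (Subgroup.inclusion_injective _))

/-- A maximal subgroup whose derived group contains `P` is strong. -/
theorem strong {L : Subgroup G} (hL : IsCoatom L) (hPL : (P : Subgroup G) ≤ L)
    (hPL' : (P : Subgroup G) ≤ ⁅L, L⁆) :
    InUniqueMaximal A ∨ ∃ q R, StrongData P A U L q R := by
  have hG := h.simple
  haveI := isSolvable_proper hG hL.1
  obtain ⟨q, hq, hr⟩ : ∃ q : ℕ, q.Prime ∧ ¬ PRankLE q 2 (fittingOf L) := by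
    by_contra! hall
    have hd : commutator L ≤ fittingSubgroup L := by
      refine OddLocal.RankTwo.commutator_le_fitting (hG.1.of_dvd_nat (Subgroup.card_subgroup_dvd_card L))
        fun r hr hr2 => ?_
      haveI := Fact.mk hr
      refine OddLocal.RankTwo.oddAutSmall_of_rankLE_two hr2 (isPGroup_pCore r L) ?_
      refine Components.pRankLE_of_injective (f := ((fittingSubgroup L).equivMapOfInjective L.subtype
        L.subtype_injective).toMonoidHom.comp (Subgroup.inclusion (pCore_le_fittingSubgroup r L)))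
        (by rw [MonoidHom.coe_comp]; exact ((fittingSubgroup L).equivMapOfInjective L.subtype
          L.subtype_injective).injective.comp (Subgroup.inclusion_injective _)) (hall r hr)
    have hPF : (P : Subgroup G) ≤ fittingOf L := by
      refine hPL'.trans ?_
      rw [← Subgroup.map_subtype_commutator]
      exact Subgroup.map_mono hd
    exact not_pRankLE_two_of_ea hp.out h.EA ((h.E_le.trans h.A_le).trans hPF) h.E_card (h.rank_F L hL)
  haveI := Fact.mk hq
  have hqp : q ≠ p := by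
    rintro rfl
    exact hr (h.rank_F L hL)
  obtain ⟨Eq, hEq, hEqF, hEq3⟩ := exists_ea_of_not_pRankLE hr
  have hEqP : Eq ≤ fitPart q L := by
    intro e he
    obtain ⟨y, hy, rfl⟩ := hEqF he
    rw [fitPart_eq hq]
    refine ⟨y, ?_, rfl⟩
    haveI := isNilpotent_fittingSubgroup L
    obtain ⟨Sq, hSq⟩ := ((Components.ea_isPGroup hEq).comap_of_injective
      (L.subtype.comp (fittingSubgroup L).subtype)
      (L.subtype_injective.comp (fittingSubgroup L).subtype_injective)).exists_le_sylow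
    have h1 : (⟨y, hy⟩ : fittingSubgroup L) ∈ pCore q (fittingSubgroup L) := by
      rw [pCore_eq_sylow Sq]; exact hSq he
    have h2 : y ∈ (pCore q (fittingSubgroup L)).map (fittingSubgroup L).subtype := ⟨_, h1, rfl⟩
    rw [map_pCore_subtype] at h2
    exact h2.1
  have hq2 : q ≠ 2 := by
    refine OddLocal.RankTwo.ne_two_of_dvd hG.1 ((?_ : q ∣ Nat.card Eq).trans (Subgroup.card_subgroup_dvd_card Eq))
    obtain ⟨n, hn⟩ := IsPGroup.iff_card.mp (Components.ea_isPGroup hEq)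
    rw [hn] at hEq3 ⊢
    exact dvd_pow_self q (by have := (Nat.pow_le_pow_iff_right hq.one_lt).mp hEq3; omega)
  obtain ⟨R, hR, hFR⟩ := exists_maxInv_ge hq (isPGroup_fitPart hq L)
    (hPL.trans (le_normalizer_piCoreOf _ _))
  have hRq : IsPGroup q R := isPGroup_of_inv hq hR.1
  have hEqR : Eq ≤ R := hEqP.trans hFR
  have hEqU : ∀ B : Subgroup G, IsElementaryAbelian q B → q ^ 3 ≤ Nat.card B → InUniqueMaximal B :=
    fun B hB hB3 => S1401.result hG L hL q hr B (Components.ea_isPGroup hB) hB.1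
      (not_pRankLE_two_of_ea hq hB le_rfl hB3)
  have hEqL : Eq ≤ L := hEqF.trans (fittingOf_le L)
  have hRne : R ≠ ⊥ := fun e => by
    have hb : Eq = ⊥ := le_bot_iff.mp (e ▸ hEqR : Eq ≤ ⊥)
    rw [hb, Subgroup.card_bot] at hEq3
    exact absurd hEq3 (Nat.one_lt_pow (by norm_num) hq.one_lt).not_ge
  have hRtop : R ≠ ⊤ := fun e => normalizer_ne_top_of_isPGroup hG hRne hRq
    (by rw [e]; exact Subgroup.normalizer_eq_top ⊤)
  have hRL : R ≤ L := le_of_unique hG (hEqU Eq hEq hEq3) hL hEqL hRtop hEqR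
  obtain ⟨hRA, hfac, hPder⟩ := h.inv_facts hq hqp hR
  by_cases hmx : ∃ E' : Subgroup R, OddLocal.RankTwo.MaxEASq q E'
  · -- narrow: `P` centralizes `R`
    left
    obtain ⟨E', hE'⟩ := hmx
    have hPR : (P : Subgroup G) ≤ Subgroup.centralizer (R : Set G) := by
      refine le_centralizer_of_oddAutSmall (Ne.symm hqp) (hG.1.of_dvd_nat (Subgroup.card_subgroup_dvd_card _))
        (isSolvable_proper hG fun e => normalizer_ne_top_of_isPGroup hG hRne hRq
          (top_le_iff.mp (e ▸ inf_le_right))) P.isPGroup' hPder inf_le_right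
        (OddLocal.RankTwo.oddAutSmall_of_maxEASq hq2 hRq (not_pRankLE_two_of_ea hq hEq hEqR hEq3) hE')
    have hEnc : ¬ IsCyclic E := not_isCyclic_of_ea h.EA le_rfl (by norm_num) h.E_card
    have hcent : ∀ b ∈ E, b ≠ 1 → Subgroup.centralizer ({b} : Set G) ≤ L := fun b hb hb1 =>
      le_of_unique hG (hEqU Eq hEq hEq3) hL hEqL (centralizer_singleton_ne_top hG hb1) fun x hx =>
        Subgroup.mem_centralizer_singleton_iff.mpr
          (Subgroup.mem_centralizer_iff.mp (hPR (h.A_le (h.E_le hb))) x (hEqR hx))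
    exact inUniqueMaximal_of_le hG
      (inUniqueMaximal_of_inv_le hG hL (Components.ea_isPGroup h.EA) h.E_ne
        ((h.E_le.trans h.A_le).trans hPL)
        fun Y hY hEY => le_of_forall_centralizer_le h.EA hEnc hcent hY hEY)
      h.E_le (fun e => h.P_ne_top (top_le_iff.mp (e ▸ h.A_le)))
  right
  have hover : ∀ Y : Subgroup G, Y ≤ R → ¬ IsCyclic Y → ∀ X : Subgroup G, X ≠ ⊤ → Y ≤ X → X ≤ L := by
    intro Y hYR hYnc X hX hYX
    obtain ⟨B, hB, hBY, hBc⟩ := exists_ea_sq hq2 (hRq.to_le hYR) hYnc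
    have hBR : B ≤ R := hBY.trans hYR
    have hB' := PLocal.isEA_comap hB R.subtype R.subtype_injective
    obtain ⟨B₂, hB₂, hBB₂, hne⟩ : ∃ B₂ : Subgroup R, IsElementaryAbelian q B₂ ∧ B.subgroupOf R ≤ B₂ ∧
        B₂ ≠ B.subgroupOf R := by
      by_contra! hall
      exact hmx ⟨B.subgroupOf R, hB', by rw [card_subgroupOf hBR, hBc], hall⟩
    set B₃ := B₂.map R.subtype
    have hB₃ : IsElementaryAbelian q B₃ := by
      refine ⟨⟨⟨?_⟩⟩, ?_⟩
      · rintro ⟨_, a, ha, rfl⟩ ⟨_, b, hb, rfl⟩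
        exact Subtype.ext (show R.subtype a * R.subtype b = R.subtype b * R.subtype a by
          rw [← map_mul, ← map_mul, PLocal.comm_of_EA hB₂ ha hb])
      · rintro _ ⟨a, ha, rfl⟩
        rw [← map_pow, hB₂.2 a ha, map_one]
    have hB₃c : q ^ 3 ≤ Nat.card B₃ := by
      have hlt : Nat.card ↥(B.subgroupOf R) < Nat.card B₂ :=
        lt_of_le_of_ne (Subgroup.card_le_of_le hBB₂) fun e => hne (Subgroup.eq_of_le_of_card_ge hBB₂ e.ge).symm
      obtain ⟨n, hn⟩ := IsPGroup.iff_card.mp (Components.ea_isPGroup hB₃)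
      rw [card_subgroupOf hBR, hBc, ← card_map_subtype B₂, hn] at hlt
      rw [hn]
      exact Nat.pow_le_pow_right hq.pos ((Nat.pow_lt_pow_iff_right hq.one_lt).mp hlt)
    have hBB₃ : B ≤ B₃ := fun b hb => ⟨⟨b, hBR hb⟩, hBB₂ (Subgroup.mem_subgroupOf.mpr hb), rfl⟩
    refine le_of_unique hG (S1399.result hG B₃ B (hEqU B₃ hB₃ hB₃c) (fun b hb => ?_)
      (not_rankLE_one_of_ea hB le_rfl hBc.ge)) hL (hBR.trans hRL) hX (hBY.trans hYX)
    exact Subgroup.mem_centralizer_iff.mpr fun c hc => PLocal.comm_of_EA hB₃ hc (hBB₃ hb)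
  have hRnc : ¬ IsCyclic R := not_isCyclic_of_ea hEq hEqR (by norm_num) hEq3
  have hnorm : ∀ V : Subgroup G, V ≤ R → V ≠ ⊥ → Subgroup.normalizer (V : Set G) ≤ L := by
    intro V hVR hVne
    have hN := normalizer_ne_top_of_isPGroup hG hVne (hRq.to_le hVR)
    by_cases hVc : IsCyclic V
    · -- `N(V) ≤ N(W)` for the subgroup `W` of order `q`, whose centralizer in `R` is noncyclic
      haveI : Nontrivial R := (Subgroup.nontrivial_iff_ne_bot R).mpr hRne
      haveI := hRq.center_nontrivial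
      obtain ⟨W, hW, hWV⟩ : ∃ W : Subgroup G, Nat.card W = q ∧ W ≤ V := by
        obtain ⟨k, hk⟩ := IsPGroup.iff_card.mp (hRq.to_le hVR)
        have hk0 : k ≠ 0 := fun e => hVne (Subgroup.eq_bot_of_card_eq _ (by rw [hk, e, pow_zero]))
        obtain ⟨v, hv⟩ := exists_prime_orderOf_dvd_card' (G := V) q (hk ▸ dvd_pow_self q hk0)
        exact ⟨Subgroup.zpowers (v : G), by rw [Nat.card_zpowers, Subgroup.orderOf_coe, hv],
          Subgroup.zpowers_le.mpr v.2⟩
      have hWne : W ≠ ⊥ := fun e => hq.ne_one (by rw [← hW, e, Subgroup.card_bot])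
      have hNVW : Subgroup.normalizer (V : Set G) ≤ Subgroup.normalizer (W : Set G) := by
        intro g hg
        refine Subgroup.mem_normalizer_iff_map_conj_eq.mpr ?_
        have hle : W.map (MulAut.conj g).toMonoidHom ≤ V :=
          (Subgroup.map_mono hWV).trans (Subgroup.mem_normalizer_iff_map_conj_eq.mp hg).le
        exact le_antisymm (le_of_card_dvd_of_isCyclic hVc hle hWV (Coprime.card_map_conj W g).dvd)
          (le_of_card_dvd_of_isCyclic hVc hWV hle (Coprime.card_map_conj W g).symm.dvd)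
      refine hNVW.trans (hover (R ⊓ Subgroup.centralizer (W : Set G)) inf_le_left (fun hc => ?_) _
        (normalizer_ne_top_of_isPGroup hG hWne (hRq.to_le (hWV.trans hVR)))
        (inf_le_right.trans (Subgroup.centralizer_le_normalizer _)))
      set Z := (Subgroup.center R).map R.subtype
      have hZN : Z ≤ R ⊓ Subgroup.centralizer (W : Set G) := by
        rintro _ ⟨z, hz, rfl⟩
        exact ⟨z.2, Subgroup.mem_centralizer_iff.mpr fun w hw =>
          congrArg Subtype.val (Subgroup.mem_center_iff.mp hz ⟨w, hVR (hWV hw)⟩)⟩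
      have hqZ : q ∣ Nat.card Z := by
        have hne : Subgroup.center R ≠ ⊥ := (Subgroup.nontrivial_iff_ne_bot _).mp inferInstance
        rw [card_map_subtype]
        obtain ⟨k, hk⟩ := IsPGroup.iff_card.mp (hRq.to_subgroup (Subgroup.center R))
        exact hk ▸ dvd_pow_self q fun e => hne (Subgroup.eq_bot_of_card_eq _ (by rw [hk, e, pow_zero]))
      have hWC : W ≤ R ⊓ Subgroup.centralizer (W : Set G) := by
        refine le_inf (hWV.trans hVR) fun a ha => Subgroup.mem_centralizer_iff.mpr fun b hb => ?_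
        haveI : IsCyclic W := isCyclic_of_prime_card hW
        letI : CommGroup W := IsCyclic.commGroup
        exact congrArg Subtype.val (mul_comm (⟨b, hb⟩ : W) ⟨a, ha⟩)
      have hWZ : W ≤ Z := le_of_card_dvd_of_isCyclic hc hWC hZN (hW ▸ hqZ)
      refine not_isCyclic_of_ea hEq (le_inf hEqR fun e he => Subgroup.mem_centralizer_iff.mpr fun w hw => ?_)
        (by norm_num) hEq3 hc
      obtain ⟨z, hz, rfl⟩ := hWZ hw
      exact (congrArg Subtype.val (Subgroup.mem_center_iff.mp hz ⟨e, hEqR he⟩)).symm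
    · exact hover V hVR hVc _ hN Subgroup.le_normalizer
  obtain ⟨b₀, hb₀, hb₀1, hb₀nc⟩ :=
    h.exists_noncyclic_centralizer hqp hRq hRnc ((h.E_le.trans h.A_le).trans hR.1.2.2)
  have hD : coreC A ≤ L := by
    refine (coreC_le A).trans ((Subgroup.centralizer_le ?_).trans
      (hover _ inf_le_left hb₀nc _ (centralizer_singleton_ne_top hG hb₀1) inf_le_right))
    simpa using h.E_le hb₀
  exact ⟨q, R, hL, hq, hqp, hR, hRnc, hRL, hnorm, hover, hPL, hD,
    hfac.trans (sup_le hD (inf_le_right.trans (hnorm R le_rfl hRne)))⟩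

/-- Two cyclic centralizers of `x` produce a nontrivial intersection. -/
theorem meet_of_cyclic {M L : Subgroup G} {q s : ℕ} {R S : Subgroup G} (hM : StrongData P A U M q R)
    (hL : StrongData P A U L s S) (hqs : q < s) {x : G} (hx : x ∈ A) (hx1 : x ≠ 1)
    (hT : IsCyclic ↥(R ⊓ Subgroup.centralizer ({x} : Set G)))
    (hR1 : R ⊓ Subgroup.centralizer ({x} : Set G) ≠ ⊥) (hS1 : S ⊓ Subgroup.centralizer ({x} : Set G) ≠ ⊥) :
    R ⊓ L ≠ ⊥ := by
  haveI := Fact.mk hM.prime
  haveI := Fact.mk hL.prime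
  have hG := h.simple
  set X := Subgroup.centralizer ({x} : Set G)
  have hXtop : X ≠ ⊤ := centralizer_singleton_ne_top hG hx1
  have hAX : A ≤ X := fun a ha => Subgroup.mem_centralizer_singleton_iff.mpr
    (congrArg Subtype.val (h.A_comm.is_comm.comm (⟨a, ha⟩ : A) ⟨x, hx⟩))
  have hDX : coreC A ≤ X := (coreC_le A).trans (Subgroup.centralizer_le (by simpa using hx))
  set J := piCoreOf (primesNotDvd (Nat.card A)) X with hJdef
  have hJπ : IsPiNat (primesNotDvd (Nat.card A)) (Nat.card J) := isPiNat_piCoreOf _ _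
  have hJA : A ≤ Subgroup.normalizer (J : Set G) := hAX.trans (le_normalizer_piCoreOf _ _)
  have hJX : J ≤ X := piCoreOf_le _ _
  haveI hJs : Group.IsSolvable J := isSolvable_proper hG fun e => hXtop (top_le_iff.mp (e ▸ hJX))
  have hAs : Group.IsSolvable A := Coprime.isSolvable_of_isPGroup h.isPGroup
  -- the invariant `r`-group `T = V ∩ C(x)` is a Sylow subgroup of `J`
  have syl : ∀ (r : ℕ) [Fact r.Prime] (V : Subgroup G), r ≠ p → V ∈ maxInvSubgroups ⊤ (P : Subgroup G) {r} →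
      V ⊓ X ≤ J ∧ IsPGroup r ↥((V ⊓ X).subgroupOf J) ∧ ¬ r ∣ ((V ⊓ X).subgroupOf J).index ∧
        A ≤ Subgroup.normalizer ((V ⊓ X : Subgroup G) : Set G) := by
    intro r hr V hrp hV
    have hVr : IsPGroup r V := isPGroup_of_inv hr.out hV.1
    have hAV : A ≤ Subgroup.normalizer (V : Set G) := (h.inv_facts hr.out hrp hV).1.1.2.2
    have hAT : A ≤ Subgroup.normalizer ((V ⊓ X : Subgroup G) : Set G) := by
      rw [inf_comm]; exact le_normalizer_inf_of hAX hAV
    have hTJ : V ⊓ X ≤ J := le_core h.transHyp hXtop hAX inf_le_right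
      (isPiNat_of_pGroup hr.out (h.not_dvd hr.out hrp) (hVr.to_le inf_le_left)) hAT
    refine ⟨hTJ, (hVr.to_le inf_le_left).comap_subtype, ?_, hAT⟩
    obtain ⟨T, hT, hTJ', hTr, hTi, hAT'⟩ := exists_invariant_sylow_ge hJA (Or.inl hAs)
      (coprime_of_isPiNat hJπ) hTJ (hVr.to_le inf_le_left) hAT
    obtain ⟨d, hd, hTd⟩ := h.le_conj hr.out hrp hV hTr hAT'
    have hle : T.map (MulAut.conj d⁻¹).toMonoidHom ≤ V ⊓ X := by
      refine le_inf ?_ ?_
      · have := Subgroup.map_mono (f := (MulAut.conj d⁻¹).toMonoidHom) hTd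
        rwa [Components.map_conj_map_conj, inv_mul_cancel, conj_one_map] at this
      · exact map_conj_le_iff.mpr fun t ht =>
          X.mul_mem (X.mul_mem (X.inv_mem (hDX hd)) (hJX (hTJ' ht))) (by simpa using hDX hd)
    have he : V ⊓ X = T := Subgroup.eq_of_le_of_card_ge hT
      ((Coprime.card_map_conj T d⁻¹).symm.le.trans (Subgroup.card_le_of_le hle))
    rwa [he]
  obtain ⟨hT₁J, hT₁p, hT₁i, -⟩ := syl q R hM.ne hM.inv
  obtain ⟨hT₂J, hT₂p, hT₂i, hAT₂⟩ := syl s S hL.ne hL.inv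
  have hqJ : q ∣ Nat.card J := by
    refine dvd_trans ?_ (Subgroup.card_dvd_of_le hT₁J)
    obtain ⟨k, hk⟩ := IsPGroup.iff_card.mp ((isPGroup_of_inv hM.prime hM.inv.1).to_le (inf_le_left : R ⊓ X ≤ R))
    exact hk ▸ dvd_pow_self q fun e => hR1 (Subgroup.eq_bot_of_card_eq _ (by rw [hk, e, pow_zero]))
  have hcyc : IsCyclic ↥((R ⊓ X).subgroupOf J) := by
    haveI := hT
    exact isCyclic_of_surjective (Subgroup.subgroupOfEquivOfLe hT₁J).symm.toMonoidHom (MulEquiv.surjective _)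
  have hdvd := dvd_card_normalizer_of_cyclic hqs (hT₁p.toSylow hT₁i) (hT₂p.toSylow hT₂i) hcyc hqJ
  set W := J ⊓ Subgroup.normalizer ((S ⊓ X : Subgroup G) : Set G)
  have hW : q ∣ Nat.card W := by
    refine hdvd.trans ?_
    rw [← card_map_subtype]
    refine Subgroup.card_dvd_of_le ?_
    rintro _ ⟨y, hy, rfl⟩
    refine ⟨y.2, mem_normalizer_of_conj_mem fun z hz => ?_⟩
    exact Subgroup.mem_subgroupOf.mp ((Subgroup.mem_normalizer_iff.mp hy ⟨z, hT₂J hz⟩).mp (Subgroup.mem_subgroupOf.mpr hz))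
  have hAW : A ≤ Subgroup.normalizer (W : Set G) :=
    (le_inf hJA (hAT₂.trans Subgroup.le_normalizer)).trans Subgroup.inf_normalizer_le_normalizer_inf
  obtain ⟨T, hTW, hTq, hTi, hAT⟩ := exists_invariant_sylow hAW (Or.inl hAs)
    ((coprime_of_isPiNat hJπ).coprime_dvd_right (Subgroup.card_dvd_of_le inf_le_left)) q
  have hTne : T ≠ ⊥ := fun e => hTi (by rw [e, Subgroup.relIndex_bot_left]; exact hW)
  obtain ⟨d, hd, hTd⟩ := h.le_conj hM.prime hM.ne hM.inv hTq hAT
  intro hbot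
  have hle : T.map (MulAut.conj d⁻¹).toMonoidHom ≤ R ⊓ L := by
    refine le_inf ?_ ?_
    · have := Subgroup.map_mono (f := (MulAut.conj d⁻¹).toMonoidHom) hTd
      rwa [Components.map_conj_map_conj, inv_mul_cancel, conj_one_map] at this
    · have hTL : T ≤ L := hTW.trans (inf_le_right.trans (hL.norm _ inf_le_left hS1))
      exact map_conj_le_iff.mpr fun t ht =>
        L.mul_mem (L.mul_mem (L.inv_mem (hL.core_le hd)) (hTL ht)) (by simpa using hL.core_le hd)
  rw [hbot, le_bot_iff, Subgroup.map_eq_bot_iff_of_injective _ (MulAut.conj d⁻¹).injective] at hle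
  exact hTne hle

/-- Two strong maximal subgroups meet in both ways. -/
theorem meet {M L : Subgroup G} {q s : ℕ} {R S : Subgroup G} (hM : StrongData P A U M q R)
    (hL : StrongData P A U L s S) (hqs : q ≠ s) : R ⊓ L ≠ ⊥ ∨ S ⊓ M ≠ ⊥ := by
  have hEP : E ≤ (P : Subgroup G) := h.E_le.trans h.A_le
  have ne : ∀ {r : ℕ} {V : Subgroup G}, r.Prime → r ≠ p → V ∈ maxInvSubgroups ⊤ (P : Subgroup G) {r} →
      V ≠ ⊥ → ∃ B : Subgroup G, B ≤ E ∧ B.relIndex E ≤ p ∧ V ⊓ Subgroup.centralizer (B : Set G) ≠ ⊥ := by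
    intro r V hr hrp hV hVne
    haveI := Fact.mk hr
    refine exists_hyperplane h.EA (fun hd => ?_) (hEP.trans hV.1.2.2) hVne
    obtain ⟨k, hk⟩ := IsPGroup.iff_card.mp (isPGroup_of_inv hr hV.1)
    rw [hk] at hd
    exact hrp ((Nat.prime_dvd_prime_iff_eq hp.out hr).mp (hp.out.dvd_of_dvd_pow hd)).symm
  have hne : ∀ {V : Subgroup G}, ¬ IsCyclic V → V ≠ ⊥ := fun hV e => hV (e ▸ inferInstance)
  obtain ⟨B₁, hB₁, hi₁, hc₁⟩ := ne hM.prime hM.ne hM.inv (hne hM.noncyclic)
  obtain ⟨B₂, hB₂, hi₂, hc₂⟩ := ne hL.prime hL.ne hL.inv (hne hL.noncyclic)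
  obtain ⟨x, hx, hx1⟩ := (B₁ ⊓ B₂).bot_or_exists_ne_one.resolve_left (h.hyperplanes_inf_ne_bot hi₁ hi₂)
  have hR1 : R ⊓ Subgroup.centralizer ({x} : Set G) ≠ ⊥ := by
    rw [inf_comm]; exact inf_centralizer_singleton_ne_bot hx.1 hc₁
  have hS1 : S ⊓ Subgroup.centralizer ({x} : Set G) ≠ ⊥ := by
    rw [inf_comm]; exact inf_centralizer_singleton_ne_bot hx.2 hc₂
  have hxA : x ∈ A := h.E_le (hB₁ hx.1)
  have hXtop := centralizer_singleton_ne_top h.simple hx1
  by_cases hR : IsCyclic ↥(R ⊓ Subgroup.centralizer ({x} : Set G))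
  swap
  · exact Or.inr fun e => hS1 (le_bot_iff.mp (e ▸ inf_le_inf_left S (hM.over_le _ inf_le_left hR _ hXtop inf_le_right)))
  by_cases hS : IsCyclic ↥(S ⊓ Subgroup.centralizer ({x} : Set G))
  swap
  · exact Or.inl fun e => hR1 (le_bot_iff.mp (e ▸ inf_le_inf_left R (hL.over_le _ inf_le_left hS _ hXtop inf_le_right)))
  rcases lt_or_gt_of_ne hqs with hlt | hlt
  · exact Or.inl (h.meet_of_cyclic hM hL hlt hxA hx1 hR hR1 hS1)
  · exact Or.inr (h.meet_of_cyclic hL hM hlt hxA hx1 hS hS1 hR1)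

/-- Two different strong maximal subgroups meeting make `A` a uniqueness subgroup. -/
theorem unique_of_meet {M L : Subgroup G} {q s : ℕ} {R S : Subgroup G} (hM : StrongData P A U M q R)
    (hL : StrongData P A U L s S) (hne : M ≠ L) (hR3 : R ⊓ L ≠ ⊥) : InUniqueMaximal A := by
  haveI := Fact.mk hM.prime
  have hG := h.simple
  have eq : ∀ Y : Subgroup G, Y ≤ R → ¬ IsCyclic Y → Y ≤ L → False := fun Y hYR hY hYL =>
    hne ((hL.coat.le_iff.mp (hM.over_le Y hYR hY L hL.coat.1 hYL)).resolve_left hM.coat.1)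
  have hcyc : IsCyclic ↥(R ⊓ L) := not_not.mp fun hn => eq _ inf_le_left hn inf_le_right
  have hRq : IsPGroup q R := isPGroup_of_inv hM.prime hM.inv.1
  obtain ⟨hRA, -, hPder⟩ := h.inv_facts hM.prime hM.ne hM.inv
  have hPC : (P : Subgroup G) ≤ Subgroup.centralizer ((R ⊓ L : Subgroup G) : Set G) :=
    le_centralizer_of_isCyclic hPder
      ((le_inf inf_le_right ((inf_le_left.trans hL.normalizer_le).trans Subgroup.le_normalizer)).trans
        Subgroup.inf_normalizer_le_normalizer_inf) hcyc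
  have hER : E ≤ Subgroup.normalizer (R : Set G) := (h.E_le.trans h.A_le).trans hM.inv.1.2.2
  have hpR : ¬ p ∣ Nat.card R := fun hd => by
    obtain ⟨k, hk⟩ := IsPGroup.iff_card.mp hRq
    rw [hk] at hd
    exact hM.ne ((Nat.prime_dvd_prime_iff_eq hp.out hM.prime).mp (hp.out.dvd_of_dvd_pow hd)).symm
  obtain ⟨B, hB, hBi, hBL⟩ : ∃ B : Subgroup G, B ≤ E ∧ B.relIndex E ≤ p ∧
      ¬ R ⊓ Subgroup.centralizer (B : Set G) ≤ L := by
    by_contra! hall
    exact eq R le_rfl hM.noncyclic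
      ((Components.le_iSup_hyperplanes h.EA hpR hER).le.trans (iSup_le fun B => hall B.1 B.2.1 B.2.2))
  set V := R ⊓ Subgroup.centralizer (B : Set G)
  have hR3V : R ⊓ L ≤ V := le_inf inf_le_left ((Subgroup.le_centralizer_iff.mp hPC).trans
    (Subgroup.centralizer_le ((hB.trans h.E_le).trans h.A_le)))
  have hVnc : ¬ IsCyclic V := by
    intro hV
    haveI := hV
    haveI : IsMulCommutative V := by letI : CommGroup V := IsCyclic.commGroup; infer_instance
    have hAV : A ≤ Subgroup.normalizer (V : Set G) := by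
      refine (le_inf hRA.1.2.2 ?_).trans Subgroup.inf_normalizer_le_normalizer_inf
      refine le_trans ?_ Subgroup.le_normalizer
      intro a ha
      exact Subgroup.mem_centralizer_iff.mpr fun b hb =>
        congrArg Subtype.val (h.A_comm.is_comm.comm (⟨b, h.E_le (hB hb)⟩ : A) ⟨a, ha⟩)
    have hVq : IsPGroup q V := hRq.to_le inf_le_left
    have hπV := isPiNat_of_pGroup hM.prime (h.not_dvd hM.prime hM.ne) hVq
    have hAVc : A ≤ Subgroup.centralizer (V : Set G) := by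
      refine S0056.result A V hAV (coprime_of_isPiNat hπV) fun v hv hvp a ha => ?_
      have hvR3 : Subgroup.zpowers v ≤ R ⊓ L := by
        refine le_of_card_dvd_of_isCyclic hV (Subgroup.zpowers_le.mpr hv) hR3V ?_
        obtain ⟨k, hk⟩ := IsPGroup.iff_card.mp hVq
        obtain ⟨j, hj⟩ := IsPGroup.iff_card.mp (hRq.to_le (inf_le_left : R ⊓ L ≤ R))
        have hoq : orderOf v = q := (Nat.prime_dvd_prime_iff_eq hvp hM.prime).mp
          (hvp.dvd_of_dvd_pow (hk ▸ Subgroup.orderOf_dvd_natCard V hv))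
        rw [Nat.card_zpowers, hoq, hj]
        exact dvd_pow_self q fun e => hR3 (Subgroup.eq_bot_of_card_eq _ (by rw [hj, e, pow_zero]))
      exact (Subgroup.mem_centralizer_iff.mp (hPC (h.A_le ha)) v (hvR3 (Subgroup.mem_zpowers v))).symm
    exact hBL ((h.le_coreC (Subgroup.le_centralizer_iff.mp hAVc) hπV).trans hL.core_le)
  have hBnc : ¬ IsCyclic B := fun hBc => by
    have hcard : p ^ 2 ≤ Nat.card B := by
      have h1 := (card_mul_relIndex hB).ge.trans (Nat.mul_le_mul_left _ hBi)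
      have h2 := h.E_card.trans h1
      rw [pow_succ] at h2
      exact Nat.le_of_mul_le_mul_right h2 hp.out.pos
    exact not_isCyclic_of_ea (⟨⟨⟨fun a b => Subtype.ext (PLocal.comm_of_EA h.EA (hB a.2) (hB b.2))⟩⟩,
      fun a ha => h.EA.2 a (hB ha)⟩ : IsElementaryAbelian p B) le_rfl le_rfl hcard hBc
  have hBe : IsElementaryAbelian p B :=
    ⟨⟨⟨fun a b => Subtype.ext (PLocal.comm_of_EA h.EA (hB a.2) (hB b.2))⟩⟩, fun a ha => h.EA.2 a (hB ha)⟩
  have hcent : ∀ b ∈ B, b ≠ 1 → Subgroup.centralizer ({b} : Set G) ≤ M := fun b hb hb1 =>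
    hM.over_le V inf_le_left hVnc _ (centralizer_singleton_ne_top hG hb1)
      (inf_le_right.trans (Subgroup.centralizer_le (by simpa using hb)))
  have hBne : B ≠ ⊥ := fun e => hBnc (e ▸ inferInstance)
  exact inUniqueMaximal_of_le hG
    (inUniqueMaximal_of_inv_le hG hM.coat (Components.ea_isPGroup hBe) hBne
      (((hB.trans h.E_le).trans h.A_le).trans hM.sylow_le)
      fun Y hY hBY => le_of_forall_centralizer_le hBe hBnc hcent hY hBY)
    (hB.trans h.E_le) (fun e => h.P_ne_top (top_le_iff.mp (e ▸ h.A_le)))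

/-- The uniqueness of `A`. -/
theorem inUniqueMaximal {M₀ : Subgroup G} (hM₀ : IsCoatom M₀) (hPM : (P : Subgroup G) ≤ M₀)
    (hPM' : (P : Subgroup G) ≤ ⁅M₀, M₀⁆) : InUniqueMaximal A := by
  have hG := h.simple
  rcases h.strong hM₀ hPM hPM' with h0 | ⟨q, R, hM⟩
  · exact h0
  haveI := Fact.mk hM.prime
  by_contra hcon
  refine hcon (inUniqueMaximal_of_inv_le hG hM₀ h.isPGroup h.A_ne (h.A_le.trans hPM) fun Y hY hAY => ?_)
  have hAs : Group.IsSolvable A := Coprime.isSolvable_of_isPGroup h.isPGroup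
  have hcop : (Nat.card A).Coprime (Nat.card Y) := by
    obtain ⟨k, hk⟩ := IsPGroup.iff_card.mp h.isPGroup
    rw [hk]; exact (hp.out.coprime_iff_not_dvd.mpr hY).pow_left k
  refine Coprime.le_of_forall_invariant_sylow fun t ht => ?_
  haveI := Fact.mk ht
  by_cases htp : t = p
  · subst htp
    exact ⟨⊥, bot_le, bot_le, by rw [Subgroup.relIndex_bot_left]; exact hY⟩
  obtain ⟨T, hTY, hT, hTi, hAT⟩ := exists_invariant_sylow hAY (Or.inl hAs) hcop t
  refine ⟨T, hTY, ?_, hTi⟩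
  obtain ⟨S, hS, -⟩ := exists_maxInv_ge ht (A := (P : Subgroup G)) (IsPGroup.of_bot : IsPGroup t (⊥ : Subgroup G))
    (le_top.trans (Subgroup.normalizer_eq_top ⊥).ge)
  obtain ⟨d, hd, hTd⟩ := h.le_conj ht htp hS hT hAT
  refine hTd.trans (map_conj_le_iff.mpr fun y hy => ?_)
  refine M₀.mul_mem (M₀.mul_mem (hM.core_le hd) ?_) (M₀.inv_mem (hM.core_le hd))
  by_cases hS1 : S = ⊥
  · subst hS1; rw [Subgroup.mem_bot.mp hy]; exact one_mem _
  have hSt : IsPGroup t S := isPGroup_of_inv ht hS.1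
  obtain ⟨L, hL, hNL⟩ := (eq_top_or_exists_le_coatom (Subgroup.normalizer (S : Set G))).resolve_left
    (normalizer_ne_top_of_isPGroup hG hS1 hSt)
  obtain ⟨-, -, hder⟩ := h.inv_facts ht htp hS
  rcases h.strong hL (hS.1.2.2.trans hNL) (hder.trans (Subgroup.commutator_mono (inf_le_right.trans hNL)
    (inf_le_right.trans hNL))) with h0 | ⟨s, S', hL'⟩
  · exact absurd h0 hcon
  suffices hLM : L = M₀ by exact hLM ▸ hNL (Subgroup.le_normalizer hy)
  by_contra hne
  by_cases hqs : q = s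
  · subst hqs
    haveI := Fact.mk hL'.prime
    obtain ⟨d, hd, hSd⟩ := h.le_conj hM.prime hM.ne hM.inv (isPGroup_of_inv hM.prime hL'.inv.1)
      (h.inv_facts hM.prime hM.ne hL'.inv).1.1.2.2
    have hS'M : S' ≤ M₀ := hSd.trans (map_conj_le_iff.mpr fun z hz =>
      M₀.mul_mem (M₀.mul_mem (hM.core_le hd) (hM.le hz)) (M₀.inv_mem (hM.core_le hd)))
    exact hne ((hM₀.le_iff.mp (hL'.over_le S' le_rfl hL'.noncyclic M₀ hM₀.1 hS'M)).resolve_left hL.1)
  rcases h.meet hM hL' hqs with h1 | h1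
  · exact hcon (h.unique_of_meet hM hL' (Ne.symm hne) h1)
  · exact hcon (h.unique_of_meet hL' hM hne h1)

end ScnSetting

/-- **A self-centralizing normal subgroup of rank three is a uniqueness subgroup.** -/
theorem scn_three_unique (hG : IsMinSimpleOddOrder G) {P : Sylow p G} {A : Subgroup G}
    (hA : IsSCN (P : Subgroup G) A) (hA3 : ¬ PRankLE p 2 A) : InUniqueMaximal A := by
  obtain ⟨E, hE, hEA, hE3⟩ := exists_ea_of_not_pRankLE hA3
  have hAp : IsPGroup p A := P.isPGroup'.to_le hA.1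
  have hAc : IsMulCommutative A :=
    ⟨⟨fun a b => Subtype.ext (Subgroup.mem_centralizer_iff.mp (hA.2.2.ge b.2).2 a a.2)⟩⟩
  by_cases hF : ∃ M : Subgroup G, IsCoatom M ∧ ¬ PRankLE p 2 (fittingOf M)
  · obtain ⟨M, hM, hMF⟩ := hF
    exact S1401.result hG M hM p hMF A hAp hAc hA3
  push Not at hF
  have hpA : p ∣ Nat.card A := by
    refine dvd_trans ?_ (Subgroup.card_dvd_of_le hEA)
    obtain ⟨n, hn⟩ := IsPGroup.iff_card.mp (Components.ea_isPGroup hE)
    rw [hn] at hE3 ⊢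
    exact dvd_pow_self p (by have := (Nat.pow_le_pow_iff_right hp.out.one_lt).mp hE3; omega)
  have hp2 : p ≠ 2 :=
    OddLocal.RankTwo.ne_two_of_dvd hG.1 (hpA.trans (Subgroup.card_subgroup_dvd_card A))
  have hPne : (P : Subgroup G) ≠ ⊥ := P.ne_bot_of_dvd_card (hpA.trans (Subgroup.card_subgroup_dvd_card A))
  set N := Subgroup.normalizer (centerThompsonOf p (P : Subgroup G) : Set G)
  have hPN : (P : Subgroup G) ≤ N :=
    Subgroup.le_normalizer.trans (normalizer_le_normalizer_centerThompsonOf _)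
  obtain ⟨M, hM, hNM⟩ := (eq_top_or_exists_le_coatom N).resolve_left
    (normalizer_ne_top_of_isPGroup hG (centerThompsonOf_ne_bot P.isPGroup' hPne)
      (P.isPGroup'.to_le (inf_le_left.trans (ThompsonComplement.thompsonSubgroupOf_le_self p _))))
  have hPM := hPN.trans hNM
  have hPM' : (P : Subgroup G) ≤ ⁅M, M⁆ :=
    (sylow_le_commutator_normalizer_zj hG hp2 P).trans (Subgroup.commutator_mono hNM hNM)
  have hmax : ∀ T : Subgroup G, IsPGroup p T → (P : Subgroup G) ≤ T → T ≤ M → T = P :=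
    fun T hT hle _ => P.3 hT hle
  obtain ⟨U, hUP, hPU, hMU, hUuniv⟩ := exists_pPrimePCore_sylow P.isPGroup' hPM hmax
  haveI := isSolvable_proper hG hM.1
  have hAU : A ≤ U := by
    refine hUuniv A hA.1 (OddLocal.le_pPrimePCore_of_abelian_normal
      (hG.1.of_dvd_nat (Subgroup.card_subgroup_dvd_card M)) (P.subtype hPM) _ ?_ ?_)
    · exact ⟨⟨fun a b => Subtype.ext (Subtype.ext (show ((a : M) : G) * ((b : M) : G) = ((b : M) : G) * ((a : M) : G) from
        congrArg Subtype.val (hAc.is_comm.comm (⟨((a : M) : G), Subgroup.mem_subgroupOf.mp a.2⟩ : A)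
          ⟨((b : M) : G), Subgroup.mem_subgroupOf.mp b.2⟩)))⟩⟩
    · intro x hx
      exact mem_normalizer_of_conj_mem fun y hy => (Subgroup.mem_normalizer_iff.mp (hA.2.1 hx) y).mp hy
  have hcop : (Nat.card (P : Subgroup G)).Coprime (Nat.card (coreOf p M)) := by
    obtain ⟨k, hk⟩ := P.isPGroup'.exists_card_eq
    rw [hk]; exact (hp.out.coprime_iff_not_dvd.mpr (not_dvd_card_coreOf M)).pow_left k
  refine ScnSetting.inUniqueMaximal (U := U) (E := E) ⟨hG, hA, hE, hEA, hE3, hAU, hUP, ?_, hPU, hF⟩ hM hPM hPM'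
  exact (le_commutator_of_factor hMU (inf_le_left.trans (le_normalizer_coreOf M)) (le_inf hPM hPU) hPM' hcop).trans
    (Subgroup.commutator_mono inf_le_right inf_le_right)

end Cfsg.Agent.Core.BG
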