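/-
The Uniqueness Theorem for minimal simple groups of odd order.
-/
import Cfsg.Agent.Core.BG.ScnThree

set_option autoImplicit false
set_option linter.style.haveILetI false
set_option linter.unusedSectionVars false

namespace Cfsg.Agent.Core.BG

open Cfsg
open Cfsg.Agent.Coprime (mem_normalizer_of_conj_mem)

variable {G : Type*} [Group G] [Finite G]

/-- Every elementary abelian subgroup of order at least `p ^ 3` is a uniqueness subgroup. -/
theorem ea_three_unique (hG : IsMinSimpleOddOrder G) {p : ℕ} [hp : Fact p.Prime] {E : Subgroup G}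
    (hE : IsElementaryAbelian p E) (hE3 : p ^ 3 ≤ Nat.card E) : InUniqueMaximal E := by
  obtain ⟨P, hEP⟩ := (Components.ea_isPGroup hE).exists_le_sylow
  have hp2 : p ≠ 2 := by
    refine OddLocal.RankTwo.ne_two_of_dvd hG.1 ?_
    obtain ⟨n, hn⟩ := IsPGroup.iff_card.mp (Components.ea_isPGroup hE)
    refine dvd_trans ?_ (Subgroup.card_subgroup_dvd_card E)
    rw [hn] at hE3 ⊢
    exact dvd_pow_self p (by have := (Nat.pow_le_pow_iff_right hp.out.one_lt).mp hE3; omega)
  obtain ⟨A₀, -, hA₀n, hA₀c, hA₀r⟩ := OddLocal.RankTwo.exists_scn_three hp2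
    (fun x => P.isPGroup' x : IsPGroup p (P : Subgroup G)) (not_pRankLE_two_of_ea hp.out hE hEP hE3) ⊥
    ⟨⟨⟨fun a b => Subsingleton.elim _ _⟩⟩, fun a ha => by rw [Subgroup.mem_bot.mp ha, one_pow]⟩
  set A := A₀.map (P : Subgroup G).subtype
  have hscn : IsSCN (P : Subgroup G) A := by
    refine ⟨Subgroup.map_subtype_le _, fun r hr => mem_normalizer_of_conj_mem ?_, le_antisymm ?_ (le_inf (Subgroup.map_subtype_le _) ?_)⟩
    · rintro _ ⟨a, ha, rfl⟩
      exact ⟨⟨r, hr⟩ * a * ⟨r, hr⟩⁻¹, hA₀n.conj_mem a ha _, rfl⟩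
    · rintro x ⟨hx, hxC⟩
      refine ⟨⟨x, hx⟩, hA₀c.le (Subgroup.mem_centralizer_iff.mpr fun a ha => Subtype.ext ?_), rfl⟩
      exact Subgroup.mem_centralizer_iff.mp hxC a ⟨a, ha, rfl⟩
    · rintro _ ⟨a, ha, rfl⟩
      refine Subgroup.mem_centralizer_iff.mpr ?_
      rintro _ ⟨b, hb, rfl⟩
      exact congrArg Subtype.val (Subgroup.mem_centralizer_iff.mp (hA₀c.ge ha) b hb)
  have hAr : ¬ PRankLE p 2 A := fun h => hA₀r
    ((Components.pRankLE_congr (A₀.equivMapOfInjective _ (P : Subgroup G).subtype_injective)).mpr h)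
  exact ea_unique_of_unique hG
    ⟨⟨fun a b => Subtype.ext (Subgroup.mem_centralizer_iff.mp (hscn.2.2.ge b.2).2 a a.2)⟩⟩ hAr
    (scn_three_unique hG hscn hAr) hE hE3

/-- **The Uniqueness Theorem.** -/
theorem uniqueness_theorem (hG : IsMinSimpleOddOrder G) {K : Subgroup G} (hK : K ≠ ⊤) (hK2 : ¬ RankLE 1 K)
    (hK3 : ¬ RankLE 2 K ∨ ¬ RankLE 2 (Subgroup.centralizer (K : Set G))) : InUniqueMaximal K := by
  rcases hK3 with h | h
  · simp only [RankLE, not_forall] at h
    obtain ⟨q, hq, h⟩ := h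
    haveI := Fact.mk hq
    obtain ⟨E, hE, hEK, hE3⟩ := exists_ea_of_not_pRankLE h
    exact inUniqueMaximal_of_le hG (ea_three_unique hG hE hE3) hEK hK
  · simp only [RankLE, not_forall] at h
    obtain ⟨q, hq, h⟩ := h
    haveI := Fact.mk hq
    obtain ⟨E, hE, hEC, hE3⟩ := exists_ea_of_not_pRankLE h
    exact S1399.result hG E K (ea_three_unique hG hE hE3) (Subgroup.le_centralizer_iff.mp hEC) hK2

end Cfsg.Agent.Core.BG
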