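/-
Coprime operators whose subgroup of prime order has a Z-group of fixed points: p-length one.
-/
import Cfsg.Agent.Core.BG.PrimeManner
import Cfsg.Agent.Core.BG.ScnThree
import Cfsg.Agent.Core.PLength

set_option autoImplicit false
set_option linter.style.haveILetI false
set_option linter.unusedSectionVars false

namespace Cfsg.Agent.Core.BG

open Cfsg
open Cfsg.Agent.Coprime (mem_normalizer_of_conj_mem map_conj_mem map_conj_le_iff exists_mul_of_mem_sup mem_centralizer_iff_conj)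
open scoped commutatorElement

variable {G : Type*} [Group G] [Finite G]

namespace ZGroupFixed

theorem norm_le_norm_cent (H : Subgroup G) :
    Subgroup.normalizer (H : Set G) ≤ Subgroup.normalizer ((Subgroup.centralizer (H : Set G) : Subgroup G) : Set G) := by
  intro g hg
  refine mem_normalizer_of_conj_mem fun y hy => mem_centralizer_iff_conj.mpr fun a ha => ?_
  have h1 : g⁻¹ * a * g ∈ H := (Subgroup.mem_normalizer_iff.mp hg _).mpr (by simpa [mul_assoc] using ha)
  calc g * y * g⁻¹ * a * (g * y * g⁻¹)⁻¹ = g * (y * (g⁻¹ * a * g) * y⁻¹) * g⁻¹ := by group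
    _ = a := by rw [mem_centralizer_iff_conj.mp hy _ h1]; group

theorem norm_le_norm_fittingOf (H : Subgroup G) :
    Subgroup.normalizer (H : Set G) ≤ Subgroup.normalizer (fittingOf H : Set G) := by
  intro g hg
  rw [Subgroup.mem_normalizer_iff_map_conj_eq]
  refine Subgroup.eq_of_le_of_card_ge ?_ (Coprime.card_map_conj _ g).ge
  rw [Subgroup.map_le_iff_le_comap]
  refine fittingOf_le_iff.mpr fun q hq => ?_
  rw [← Subgroup.map_le_iff_le_comap,
    Subgroup.mem_normalizer_iff_map_conj_eq.mp (normalizer_le_normalizer_piCoreOf {q} H hg)]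
  exact fitPart_le_fittingOf hq H

theorem ne_two (hodd : Odd (Nat.card G)) {H : Subgroup G} {q : ℕ} (h : q ∣ Nat.card H) : q ≠ 2 := fun h2 =>
  absurd (hodd.of_dvd_nat (h2 ▸ h.trans H.card_subgroup_dvd_card)) (by decide)

theorem dvd_card {q : ℕ} (hq : q.Prime) {Q : Subgroup G} (hQ : IsPGroup q Q) (h : Q ≠ ⊥) : q ∣ Nat.card Q := by
  haveI := Fact.mk hq
  obtain ⟨k, hk⟩ := IsPGroup.iff_card.mp hQ
  exact hk ▸ dvd_pow_self q fun e => h (Subgroup.eq_bot_of_card_eq _ (by rw [hk, e, pow_zero]))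

theorem coprime_pGroups {p q : ℕ} (hp : p.Prime) (hq : q.Prime) (hpq : p ≠ q) {A B : Subgroup G}
    (hA : IsPGroup p A) (hB : IsPGroup q B) : (Nat.card A).Coprime (Nat.card B) := by
  haveI := Fact.mk hp
  haveI := Fact.mk hq
  obtain ⟨j, hj⟩ := IsPGroup.iff_card.mp hA
  obtain ⟨k, hk⟩ := IsPGroup.iff_card.mp hB
  rw [hj, hk]
  exact ((Nat.coprime_primes hp hq).mpr hpq).pow j k

theorem le_of_card_dvd_prime {p : ℕ} (hp : p.Prime) {C D : Subgroup G} (hC : Nat.card C ∣ p) {x : G}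
    (hx : x ∈ C) (hx1 : x ≠ 1) (hD : x ∈ D) : C ≤ D := by
  refine inf_eq_left.mp (Subgroup.eq_of_le_of_card_ge (inf_le_left : C ⊓ D ≤ C) ?_)
  have h := (Subgroup.card_dvd_of_le (inf_le_left : C ⊓ D ≤ C)).trans hC
  rw [((Nat.dvd_prime hp).mp h).resolve_left fun e =>
    hx1 (Subgroup.mem_bot.mp ((Subgroup.card_eq_one.mp e).le ⟨hx, hD⟩))]
  exact Nat.le_of_dvd hp.pos hC

theorem centralizer_singleton_eq {r : ℕ} (hr : r.Prime) {R₀ : Subgroup G} (hR₀ : Nat.card R₀ = r) {e : G}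
    (he : e ∈ R₀) (he1 : e ≠ 1) :
    Subgroup.centralizer ({e} : Set G) = Subgroup.centralizer (R₀ : Set G) := by
  have h : R₀ = Subgroup.zpowers e := le_antisymm
    (le_of_card_dvd_prime hr hR₀.dvd he he1 (Subgroup.mem_zpowers e)) (Subgroup.zpowers_le.mpr he)
  rw [h, Subgroup.zpowers_eq_closure, Subgroup.centralizer_closure]

theorem le_normalizer_or_inf_eq_bot {r : ℕ} (hr : r.Prime) {R₀ : Subgroup G} (hR₀ : Nat.card R₀ = r)
    (H : Subgroup G) : R₀ ≤ H ∨ R₀ ⊓ H = ⊥ := by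
  rcases (Nat.dvd_prime hr).mp (hR₀ ▸ Subgroup.card_dvd_of_le (inf_le_left : R₀ ⊓ H ≤ R₀)) with h | h
  · exact Or.inr (Subgroup.card_eq_one.mp h)
  · exact Or.inl (inf_eq_left.mp (Subgroup.eq_of_le_of_card_ge inf_le_left (by rw [h, hR₀])))

theorem card_dvd_prime {p : ℕ} {C : Subgroup G} (hc : IsCyclic C) (he : ∀ x ∈ C, x ^ p = 1) :
    Nat.card C ∣ p := by
  haveI := hc
  rw [← IsCyclic.exponent_eq_card]
  exact Monoid.exponent_dvd_of_forall_pow_eq_one fun a => Subtype.ext (he a a.2)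

/-! ### The norm map -/

section Norm

variable (W A : Subgroup G) [IsMulCommutative W] (hA : A ≤ Subgroup.normalizer (W : Set G))

open scoped IsMulCommutative in
/-- The norm endomorphism of an abelian `W` under a subgroup normalizing it. -/
noncomputable def nrm : W →* W :=
  haveI := Fintype.ofFinite A
  ∏ a : A, (W.normalizerMonoidHom ⟨a, hA a.2⟩).toMonoidHom

open scoped IsMulCommutative in
theorem nrm_apply [Fintype A] (w : W) :
    nrm W A hA w = ∏ a : A, W.normalizerMonoidHom ⟨a, hA a.2⟩ w := by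
  unfold nrm
  rw [MonoidHom.finsetProd_apply]
  exact Finset.prod_congr (Finset.ext fun a => by simp) fun _ _ => rfl

variable {W A}

theorem nrm_mem_of_forall {D : Subgroup G} {w : W} (h : ∀ a ∈ A, a * (w : G) * a⁻¹ ∈ D) :
    (nrm W A hA w : G) ∈ D := by
  classical
  haveI := Fintype.ofFinite A
  rw [nrm_apply]
  open scoped IsMulCommutative in
  exact Subgroup.mem_subgroupOf.mp (Subgroup.prod_mem (D.subgroupOf W) fun a _ =>
    Subgroup.mem_subgroupOf.mpr (h a a.2))

theorem nrm_mem_centralizer (w : W) : (nrm W A hA w : G) ∈ Subgroup.centralizer (A : Set G) := by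
  classical
  haveI := Fintype.ofFinite A
  refine Subgroup.mem_centralizer_iff.mpr fun b hb => mul_inv_eq_iff_eq_mul.mp ?_
  show ((W.normalizerMonoidHom ⟨b, hA hb⟩ (nrm W A hA w) : W) : G) = _
  refine congrArg Subtype.val ?_
  open scoped IsMulCommutative in
  rw [nrm_apply, map_prod]
  open scoped IsMulCommutative in
  exact Fintype.prod_equiv (Equiv.mulLeft (⟨b, hb⟩ : A)) _ _ fun a => Subtype.ext (by
    show b * (a * (w : G) * (a : G)⁻¹) * b⁻¹ = b * a * w * (b * (a : G))⁻¹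
    group)

theorem nrm_eq_pow {w : W} (h : (w : G) ∈ Subgroup.centralizer (A : Set G)) :
    nrm W A hA w = w ^ Nat.card A := by
  classical
  haveI := Fintype.ofFinite A
  rw [nrm_apply]
  open scoped IsMulCommutative in
  rw [Finset.prod_congr rfl (fun a _ => ?_), Finset.prod_const, Finset.card_univ, Nat.card_eq_fintype_card]
  refine Subtype.ext ?_
  show (a : G) * w * (a : G)⁻¹ = w
  rw [Subgroup.mem_centralizer_iff.mp h a a.2, mul_inv_cancel_right]

end Norm

/-- Two different hyperplanes: the norm of one annihilates the fixed points of the other. -/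
theorem nrm_kill {q : ℕ} (hq : q.Prime) {W Q B B' : Subgroup G} [IsMulCommutative W]
    (hQc : IsMulCommutative Q) (hBQ : B ≤ Q) (hB'Q : B' ≤ Q) (hBc : Nat.card Q = q * Nat.card B)
    (hB'c : Nat.card Q = q * Nat.card B') (hne : B ≠ B') (hBW : B ≤ Subgroup.normalizer (W : Set G))
    (hWQ : W ⊓ Subgroup.centralizer (Q : Set G) = ⊥) {w : W}
    (hw : (w : G) ∈ Subgroup.centralizer (B' : Set G)) : nrm W B hBW w = 1 := by
  have hcard : Nat.card B = Nat.card B' := Nat.eq_of_mul_eq_mul_left hq.pos (hBc.symm.trans hB'c)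
  have hsup : B ⊔ B' = Q := by
    refine Subgroup.eq_of_le_of_card_ge (sup_le hBQ hB'Q) ?_
    obtain ⟨d, hd⟩ := Subgroup.card_dvd_of_le (le_sup_left : B ≤ B ⊔ B')
    have h := Subgroup.card_dvd_of_le (sup_le hBQ hB'Q)
    rw [hd, hBc, mul_comm q] at h
    rcases (Nat.dvd_prime hq).mp (Nat.dvd_of_mul_dvd_mul_left Nat.card_pos h) with h1 | h1
    · have he : B = B ⊔ B' := Subgroup.eq_of_le_of_card_ge le_sup_left (by rw [hd, h1, mul_one])
      exact absurd (Subgroup.eq_of_le_of_card_ge (le_sup_right.trans he.ge) hcard.le).symm hne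
    · rw [hd, h1, hBc, mul_comm]
  refine Subtype.ext (Subgroup.mem_bot.mp (hWQ.le ⟨(nrm W B hBW w).2, ?_⟩))
  have hB' : (nrm W B hBW w : G) ∈ Subgroup.centralizer (B' : Set G) := by
    refine nrm_mem_of_forall hBW fun a ha => ?_
    have ha' : a ∈ Subgroup.centralizer (B' : Set G) := Subgroup.mem_centralizer_iff.mpr fun y hy =>
      congrArg Subtype.val (hQc.is_comm.comm (⟨y, hB'Q hy⟩ : Q) ⟨a, hBQ ha⟩)
    exact mul_mem (mul_mem ha' hw) (inv_mem ha')
  have hB := nrm_mem_centralizer hBW w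
  have hle : B ⊔ B' ≤ Subgroup.centralizer ({(nrm W B hBW w : G)} : Set G) := sup_le
    (fun y hy => Subgroup.mem_centralizer_singleton_iff.mpr (Subgroup.mem_centralizer_iff.mp hB y hy))
    fun y hy => Subgroup.mem_centralizer_singleton_iff.mpr (Subgroup.mem_centralizer_iff.mp hB' y hy)
  exact Subgroup.mem_centralizer_iff.mpr fun y hy =>
    Subgroup.mem_centralizer_singleton_iff.mp (hle (hsup.ge hy))

theorem pow_card_ne_one {p q : ℕ} (hp : p.Prime) (hq : q.Prime) (hpq : p ≠ q) {W B : Subgroup G}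
    (hW : IsPGroup p W) (hB : IsPGroup q B) {w : W} (h : w ≠ 1) : w ^ Nat.card B ≠ 1 := fun h1 =>
  h (orderOf_eq_one_iff.mp (Nat.eq_one_of_dvd_coprimes (coprime_pGroups hp hq hpq hW hB)
    (orderOf_dvd_natCard w) (orderOf_dvd_of_pow_eq_one h1)))

/-! ### Orbits on subgroups -/

/-- The conjugates of `B` under `T`. -/
def orb (T B : Subgroup G) : Set (Subgroup G) :=
  Set.range fun g : T => B.map (MulAut.conj (g : G)).toMonoidHom

theorem card_orb (T B : Subgroup G) :
    (orb T B).ncard * Nat.card ↥(T ⊓ Subgroup.normalizer (B : Set G)) = Nat.card T := by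
  set St := (T ⊓ Subgroup.normalizer (B : Set G)).subgroupOf T
  set f : T → Subgroup G := fun g => B.map (MulAut.conj (g : G)).toMonoidHom with hfdef
  have hiff : ∀ a b : T, f a = f b ↔ a⁻¹ * b ∈ St := by
    intro a b
    rw [Subgroup.mem_subgroupOf, Subgroup.mem_inf, Subgroup.mem_normalizer_iff_map_conj_eq]
    simp only [Subgroup.coe_mul, Subgroup.coe_inv, hfdef, mul_mem (inv_mem a.2) b.2, true_and]
    have e : (B.map (MulAut.conj ((a : G)⁻¹ * b)).toMonoidHom).map (MulAut.conj (a : G)).toMonoidHom =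
        B.map (MulAut.conj (b : G)).toMonoidHom := by
      ext x
      simp [mul_assoc]
    constructor
    · intro h
      exact Subgroup.map_injective (MulAut.conj (a : G)).injective (e.trans h.symm)
    · intro h
      rw [← e]
      exact (congrArg (Subgroup.map (MulAut.conj (a : G)).toMonoidHom) h).symm
  have hbij : Function.Bijective fun c : T ⧸ St => (⟨f c.out, c.out, rfl⟩ : orb T B) := by
    constructor
    · intro c d h
      rw [← QuotientGroup.out_eq' c, ← QuotientGroup.out_eq' d]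
      exact QuotientGroup.eq.mpr ((hiff _ _).mp (congrArg Subtype.val h))
    · rintro ⟨_, a, rfl⟩
      refine ⟨(a : T ⧸ St), Subtype.ext ((hiff _ _).mpr ?_)⟩
      exact QuotientGroup.eq.mp (QuotientGroup.out_eq' _)
  rw [← Nat.card_coe_set_eq, ← Nat.card_eq_of_bijective _ hbij, ← Subgroup.index_eq_card,
    ← card_subgroupOf (inf_le_left : T ⊓ Subgroup.normalizer (B : Set G) ≤ T), mul_comm]
  exact Subgroup.card_mul_index _

theorem mem_orb_self (T B : Subgroup G) : B ∈ orb T B := ⟨1, by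
  show B.map (MulAut.conj ((1 : T) : G)).toMonoidHom = B
  ext x; simp⟩

/-- A subgroup with few conjugates under a group of odd order with a normal Hall subgroup `S` of prime
index is normalized by `S`. -/
theorem le_normalizer_of_orb {r : ℕ} (hr : r.Prime) {S R₀ : Subgroup G} (hR₀ : Nat.card R₀ = r)
    (hRS : R₀ ≤ Subgroup.normalizer (S : Set G)) (hcop : (Nat.card S).Coprime r)
    {B : Subgroup G} (hcard : (orb (S ⊔ R₀) B).ncard = r) : S ≤ Subgroup.normalizer (B : Set G) := by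
  set T := S ⊔ R₀
  have hTc : Nat.card T = Nat.card S * r := by
    rw [← hR₀]
    exact Coprime.card_sup hRS (Coprime.inf_eq_bot_of_coprime (by rw [hR₀]; exact hcop.symm))
  set St := T ⊓ Subgroup.normalizer (B : Set G)
  have hSt : Nat.card St = Nat.card S := by
    have := card_orb T B
    rw [hcard, hTc, mul_comm (Nat.card S)] at this
    exact Nat.eq_of_mul_eq_mul_left hr.pos this
  haveI : (S.subgroupOf T).Normal :=
    Subgroup.normal_subgroupOf_of_le_normalizer (sup_le Subgroup.le_normalizer hRS)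
  have hidx : (S.subgroupOf T).index = r := by
    have := Subgroup.card_mul_index (S.subgroupOf T)
    rw [card_subgroupOf le_sup_left, hTc] at this
    exact Nat.eq_of_mul_eq_mul_left Nat.card_pos this
  have hle : St ≤ S := fun x hx => by
    have h1 : QuotientGroup.mk' (S.subgroupOf T) ⟨x, hx.1⟩ = 1 := orderOf_eq_one_iff.mp
      (Nat.eq_one_of_dvd_coprimes hcop ((orderOf_map_dvd _ _).trans (by
          rw [Subgroup.orderOf_mk, ← hSt]; exact Subgroup.orderOf_dvd_natCard _ hx))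
        ((orderOf_dvd_natCard _).trans (dvd_of_eq ((Subgroup.index_eq_card _).symm.trans hidx))))
    exact Subgroup.mem_subgroupOf.mp ((QuotientGroup.eq_one_iff _).mp h1)
  exact (Subgroup.eq_of_le_of_card_ge hle hSt.ge).ge.trans inf_le_right

theorem le_norm_commutator {V Q : Subgroup G} :
    Subgroup.normalizer (V : Set G) ⊓ Subgroup.normalizer (Q : Set G) ≤
      Subgroup.normalizer ((⁅V, Q⁆ : Subgroup G) : Set G) := by
  intro g hg
  rw [Subgroup.mem_normalizer_iff_map_conj_eq]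
  refine (Subgroup.map_commutator V Q (MulAut.conj g).toMonoidHom).trans ?_
  exact congrArg₂ (fun a b : Subgroup G => ⁅a, b⁆) (Subgroup.mem_normalizer_iff_map_conj_eq.mp hg.1)
    (Subgroup.mem_normalizer_iff_map_conj_eq.mp hg.2)

theorem conj_mem_centralizer_map {B : Subgroup G} {g w : G} (hw : w ∈ Subgroup.centralizer (B : Set G)) :
    g * w * g⁻¹ ∈ Subgroup.centralizer ((B.map (MulAut.conj g).toMonoidHom : Subgroup G) : Set G) := by
  refine Subgroup.mem_centralizer_iff.mpr ?_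
  rintro _ ⟨b, hb, rfl⟩
  show g * b * g⁻¹ * (g * w * g⁻¹) = g * w * g⁻¹ * (g * b * g⁻¹)
  calc g * b * g⁻¹ * (g * w * g⁻¹) = g * (b * w) * g⁻¹ := by group
    _ = g * (w * b) * g⁻¹ := by rw [Subgroup.mem_centralizer_iff.mp hw b hb]
    _ = _ := by group

/-- The data of the critical configuration. -/
structure Crit (p q r : ℕ) (V Q S R₀ : Subgroup G) : Prop where
  hp : p.Prime
  hq : q.Prime
  hr : r.Prime
  hpq : p ≠ q
  hpr : p ≠ r
  hqr : q ≠ r
  hV : IsPGroup p V
  hVc : IsMulCommutative V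
  hQ : IsPGroup q Q
  hS : IsPGroup p S
  hR₀ : Nat.card R₀ = r
  hSV : S ≤ Subgroup.normalizer (V : Set G)
  hQV : Q ≤ Subgroup.normalizer (V : Set G)
  hR₀V : R₀ ≤ Subgroup.normalizer (V : Set G)
  hSQ : S ≤ Subgroup.normalizer (Q : Set G)
  hR₀Q : R₀ ≤ Subgroup.normalizer (Q : Set G)
  hR₀S : R₀ ≤ Subgroup.normalizer (S : Set G)
  hSfull : ⁅S, R₀⁆ = S
  hQfull : ⁅Q, S⁆ = Q
  hQne : Q ≠ ⊥
  hfaith : Q ⊓ Subgroup.centralizer (V : Set G) = ⊥
  hexp : ∀ x ∈ Q, x ^ q = 1
  hline : Nat.card ↥(V ⊓ Subgroup.centralizer (R₀ : Set G)) ∣ p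
  hqline : Nat.card ↥(Q ⊓ Subgroup.centralizer (R₀ : Set G)) = q

variable {p q r : ℕ} {V Q S R₀ : Subgroup G}

theorem Crit.commutator_ne_bot (h : Crit p q r V Q S R₀) {Z : Subgroup G} (hZQ : Z ≤ Q) (hZ : Z ≠ ⊥) :
    ⁅V, Z⁆ ≠ ⊥ := fun e => hZ (le_bot_iff.mp ((le_inf hZQ
      (Subgroup.le_centralizer_iff.mp (Subgroup.commutator_eq_bot_iff_le_centralizer.mp e))).trans h.hfaith.le))

/-- The special case: the derived group of `Q` cannot be moved without fixed points. -/
theorem Crit.false_of_central (h : Crit p q r V Q S R₀) {Z : Subgroup G} (hZQ : Z ≤ Q) (hZne : Z ≠ ⊥)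
    (hQZ : Q ≤ Subgroup.centralizer (Z : Set G)) (hSZ : S ≤ Subgroup.centralizer (Z : Set G))
    (hR₀Z : R₀ ≤ Subgroup.normalizer (Z : Set G))
    (hfix : Z ⊓ Subgroup.centralizer (R₀ : Set G) = ⊥) : False := by
  haveI := Fact.mk h.hp
  haveI := Fact.mk h.hq
  haveI := h.hVc
  have hVs : Group.IsSolvable V := Coprime.isSolvable_of_isPGroup h.hV
  have hcopVZ : (Nat.card Z).Coprime (Nat.card V) := coprime_pGroups h.hq h.hp h.hpq.symm (h.hQ.to_le hZQ) h.hV
  set W := ⁅V, Z⁆
  have hWV : W ≤ V := Coprime.commutator_le_of_le_normalizer (hZQ.trans h.hQV)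
  have hWZ : W ⊓ Subgroup.centralizer (Z : Set G) = ⊥ :=
    Coprime.commutator_inf_centralizer_eq_bot (hZQ.trans h.hQV) h.hVc hcopVZ
  have hWne : W ≠ ⊥ := h.commutator_ne_bot hZQ hZne
  have hnW : ∀ {A : Subgroup G}, A ≤ Subgroup.normalizer (V : Set G) → A ≤ Subgroup.normalizer (Z : Set G) →
      A ≤ Subgroup.normalizer (W : Set G) := fun hA hA' => (le_inf hA hA').trans le_norm_commutator
  have hZW : Z ≤ Subgroup.normalizer (W : Set G) := hnW (hZQ.trans h.hQV) Subgroup.le_normalizer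
  have hR₀W := hnW h.hR₀V hR₀Z
  have hSW := hnW h.hSV (hSZ.trans (Subgroup.centralizer_le_normalizer _))
  have hQW := hnW h.hQV (hQZ.trans (Subgroup.centralizer_le_normalizer _))
  have hfpf : ∀ e ∈ R₀, e ≠ 1 → Z ⊓ Subgroup.centralizer ({e} : Set G) = ⊥ := fun e he he1 => by
    rw [centralizer_singleton_eq h.hr h.hR₀ he he1]; exact hfix
  have hR₀ne : R₀ ≠ ⊥ := fun e => h.hr.ne_one (by rw [← h.hR₀, e, Subgroup.card_bot])
  have hcopZR : (Nat.card Z).Coprime (Nat.card R₀) := coprime_pGroups h.hq h.hr h.hqr (h.hQ.to_le hZQ)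
    (haveI := Fact.mk h.hr; IsPGroup.of_card (n := 1) (by rw [h.hR₀, pow_one]))
  have hZR : Z ⊓ R₀ = ⊥ := Coprime.inf_eq_bot_of_coprime hcopZR.symm
  have hpow : ∀ M : Subgroup G, M ≤ W → Z ⊔ R₀ ≤ Subgroup.normalizer (M : Set G) →
      Nat.card M = Nat.card ↥(M ⊓ Subgroup.centralizer (R₀ : Set G)) ^ r := by
    intro M hM hn
    rw [← h.hR₀]
    refine card_eq_inf_centralizer_pow (Coprime.isSolvable_of_isPGroup (h.hV.to_le (hM.trans hWV))) hZne hR₀ne
      hR₀Z hZR hfpf hn ?_ (le_bot_iff.mp ((inf_le_inf_right _ hM).trans hWZ.le))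
    rw [Coprime.card_sup hR₀Z hZR]
    refine Nat.Coprime.mul_right (hcopVZ.symm.coprime_dvd_left (Subgroup.card_dvd_of_le (hM.trans hWV))) ?_
    haveI := Fact.mk h.hr
    exact coprime_pGroups h.hp h.hr h.hpr (h.hV.to_le (hM.trans hWV))
      (IsPGroup.of_card (n := 1) (by rw [h.hR₀, pow_one]))
  have hCW : W ⊓ Subgroup.centralizer (R₀ : Set G) ≠ ⊥ := fun e => hWne (Subgroup.card_eq_one.mp (by
    rw [hpow W le_rfl (sup_le hZW hR₀W), e, Subgroup.card_bot, one_pow]))
  obtain ⟨c, hc, hc1⟩ := (Subgroup.bot_or_exists_ne_one _).resolve_left hCW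
  have hCp : Nat.card ↥(W ⊓ Subgroup.centralizer (R₀ : Set G)) ∣ p :=
    (Subgroup.card_dvd_of_le (inf_le_inf_right _ hWV)).trans h.hline
  -- `W` is generated by the `Z`-conjugates of `c`
  set W₀ := Subgroup.closure (Set.range fun z : Z => (z : G) * c * (z : G)⁻¹) with hW₀
  have hW₀W : W₀ ≤ W := (Subgroup.closure_le W).mpr (by
    rintro _ ⟨z, rfl⟩; exact (Subgroup.mem_normalizer_iff.mp (hZW z.2) c).mp hc.1)
  have hW₀n : Z ⊔ R₀ ≤ Subgroup.normalizer (W₀ : Set G) := by
    have key : ∀ g : G, (∀ z : Z, ∃ z' : Z, g * ((z : G) * c * (z : G)⁻¹) * g⁻¹ = z' * c * (z' : G)⁻¹) →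
        g ∈ Subgroup.normalizer (W₀ : Set G) := by
      intro g hg
      refine mem_normalizer_of_conj_mem fun y hy => ?_
      suffices hm : W₀.map (MulAut.conj g).toMonoidHom ≤ W₀ from hm ⟨y, hy, rfl⟩
      rw [hW₀, MonoidHom.map_closure, Subgroup.closure_le]
      rintro _ ⟨_, ⟨z, rfl⟩, rfl⟩
      obtain ⟨z', hz'⟩ := hg z
      exact Subgroup.subset_closure ⟨z', hz'.symm⟩
    refine sup_le (fun a ha => key a fun z => ⟨⟨a * z, Z.mul_mem ha z.2⟩, by
      show a * ((z : G) * c * (z : G)⁻¹) * a⁻¹ = a * z * c * (a * (z : G))⁻¹; group⟩) fun x hx =>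
      key x fun z => ⟨⟨x * z * x⁻¹, (Subgroup.mem_normalizer_iff.mp (hR₀Z hx) _).mp z.2⟩, ?_⟩
    show x * ((z : G) * c * (z : G)⁻¹) * x⁻¹ = x * z * x⁻¹ * c * (x * (z : G) * x⁻¹)⁻¹
    have hxc : x⁻¹ * c * x = c := by
      rw [mul_assoc, ← Subgroup.mem_centralizer_iff.mp hc.2 x hx, inv_mul_cancel_left]
    calc x * ((z : G) * c * (z : G)⁻¹) * x⁻¹ = x * z * c * (z : G)⁻¹ * x⁻¹ := by group
      _ = x * z * (x⁻¹ * c * x) * (z : G)⁻¹ * x⁻¹ := by rw [hxc]
      _ = _ := by group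
  have hcW₀ : c ∈ W₀ := Subgroup.subset_closure ⟨1, by simp⟩
  have hW₀eq : W₀ = W := by
    refine Subgroup.eq_of_le_of_card_ge hW₀W (le_of_eq ?_)
    rw [hpow W le_rfl (sup_le hZW hR₀W), hpow W₀ hW₀W hW₀n]
    exact congrArg (fun H : Subgroup G => Nat.card H ^ r) (le_antisymm
      (le_inf ((le_of_card_dvd_prime h.hp hCp hc hc1 (D := W₀) hcW₀)) inf_le_right)
      (inf_le_inf_right _ hW₀W))
  haveI : IsMulCommutative W := ⟨⟨fun a b => Subtype.ext
    (congrArg (Subtype.val : V → G) (mul_comm' (⟨a, hWV a.2⟩ : V) ⟨b, hWV b.2⟩))⟩⟩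
  set cf : ∀ {g : G}, g ∈ Subgroup.normalizer (W : Set G) → W →* W :=
    fun {g} hg => (W.normalizerMonoidHom ⟨g, hg⟩).toMonoidHom
  have hcl : Subgroup.closure (Set.range fun z : Z => cf (hZW z.2) ⟨c, hc.1⟩) = ⊤ := by
    refine Subgroup.map_injective W.subtype_injective ?_
    rw [MonoidHom.map_closure, ← MonoidHom.range_eq_map, Subgroup.range_subtype]
    refine Eq.trans (congrArg Subgroup.closure ?_) hW₀eq
    exact (Set.range_comp _ _).symm
  have hcommZ : ∀ (g : G) (hg : g ∈ Subgroup.normalizer (W : Set G)), g ∈ Subgroup.centralizer (Z : Set G) →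
      ∀ (z : Z) (x : W), cf hg (cf (hZW z.2) x) = cf (hZW z.2) (cf hg x) := by
    intro g hg hgZ z x
    refine Subtype.ext ?_
    show g * ((z : G) * x * (z : G)⁻¹) * g⁻¹ = z * (g * x * g⁻¹) * (z : G)⁻¹
    calc g * ((z : G) * x * (z : G)⁻¹) * g⁻¹ = g * z * x * (g * (z : G))⁻¹ := by group
      _ = z * g * x * ((z : G) * g)⁻¹ := by rw [Subgroup.mem_centralizer_iff.mp hgZ z z.2]
      _ = _ := by group
  have hQW' : Q ≤ Subgroup.centralizer (W : Set G) := by
    rw [← h.hQfull, Subgroup.commutator_le]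
    intro a ha b hb
    refine mem_centralizer_iff_conj.mpr fun x hx => ?_
    have key : ∀ y : W, cf (hQW ha) (cf (hSW hb) y) = cf (hSW hb) (cf (hQW ha) y) :=
      commute_of_cyclic_vector (fun z : Z => cf (hZW z.2))
        (fun i j => hcommZ i (hZW i.2) (hQZ (hZQ i.2)) j) hcl
        (hcommZ a (hQW ha) (hQZ ha)) (hcommZ b (hSW hb) (hSZ hb))
    have h1 : a⁻¹ * (b⁻¹ * x * b) * a ∈ W := (Subgroup.mem_normalizer_iff.mp (hQW ha) _).mpr
      (by simpa [mul_assoc] using ((Subgroup.mem_normalizer_iff.mp (hSW hb) (b⁻¹ * x * b)).mpr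
        (by simpa [mul_assoc] using hx)))
    have := congrArg Subtype.val (key ⟨_, h1⟩)
    change a * (b * (a⁻¹ * (b⁻¹ * x * b) * a) * b⁻¹) * a⁻¹ = b * (a * (a⁻¹ * (b⁻¹ * x * b) * a) * a⁻¹) * b⁻¹ at this
    rw [commutatorElement_def]
    calc a * b * a⁻¹ * b⁻¹ * x * (a * b * a⁻¹ * b⁻¹)⁻¹
        = a * (b * (a⁻¹ * (b⁻¹ * x * b) * a) * b⁻¹) * a⁻¹ := by group
      _ = x := by rw [this]; group
  refine hWne (le_bot_iff.mp ((le_inf le_rfl ?_).trans hWZ.le))
  exact Subgroup.le_centralizer_iff.mp (hZQ.trans hQW')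

/-- The elementary abelian case. -/
theorem Crit.false_of_comm (h : Crit p q r V Q S R₀) (hodd : Odd (Nat.card G)) (hQc : IsMulCommutative Q) :
    False := by
  classical
  haveI := Fact.mk h.hp
  haveI := Fact.mk h.hq
  haveI := h.hVc
  have hR₀p : IsPGroup r R₀ := haveI := Fact.mk h.hr; IsPGroup.of_card (n := 1) (by rw [h.hR₀, pow_one])
  have hcopVQ : (Nat.card Q).Coprime (Nat.card V) := coprime_pGroups h.hq h.hp h.hpq.symm h.hQ h.hV
  set W := ⁅V, Q⁆
  have hWV : W ≤ V := Coprime.commutator_le_of_le_normalizer h.hQV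
  have hWQ : W ⊓ Subgroup.centralizer (Q : Set G) = ⊥ :=
    Coprime.commutator_inf_centralizer_eq_bot h.hQV h.hVc hcopVQ
  have hWne : W ≠ ⊥ := h.commutator_ne_bot le_rfl h.hQne
  have hWp : IsPGroup p W := h.hV.to_le hWV
  haveI : IsMulCommutative W := ⟨⟨fun a b => Subtype.ext
    (congrArg (Subtype.val : V → G) (mul_comm' (⟨a, hWV a.2⟩ : V) ⟨b, hWV b.2⟩))⟩⟩
  set T := S ⊔ R₀ with hTdef
  have hTQ : T ≤ Subgroup.normalizer (Q : Set G) := sup_le h.hSQ h.hR₀Q
  have hTW : T ≤ Subgroup.normalizer (W : Set G) :=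
    (le_inf (sup_le h.hSV h.hR₀V) hTQ).trans le_norm_commutator
  have hQW : Q ≤ Subgroup.normalizer (W : Set G) :=
    (le_inf h.hQV Subgroup.le_normalizer).trans le_norm_commutator
  have hR₀W : R₀ ≤ Subgroup.normalizer (W : Set G) := le_sup_right.trans hTW
  have hQQ : ∀ a ∈ Q, ∀ b ∈ Q, a * b = b * a := fun a ha b hb =>
    congrArg Subtype.val (hQc.is_comm.comm (⟨a, ha⟩ : Q) ⟨b, hb⟩)
  -- the hyperplane moved by `R₀`
  set Q₁ := ⁅Q, R₀⁆
  have hQ₁Q : Q₁ ≤ Q := Coprime.commutator_le_of_le_normalizer h.hR₀Q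
  have hcopQR : (Nat.card R₀).Coprime (Nat.card Q) := coprime_pGroups h.hr h.hq h.hqr.symm hR₀p h.hQ
  haveI : Group.IsSolvable R₀ := isSolvable_of_prime_card h.hr h.hR₀
  have hQ₁c : Nat.card Q = q * Nat.card Q₁ := by
    have hn : Q ⊓ Subgroup.centralizer (R₀ : Set G) ≤ Subgroup.normalizer (Q₁ : Set G) := fun a ha =>
      Subgroup.centralizer_le_normalizer _ (Subgroup.mem_centralizer_iff.mpr fun y hy => hQQ y (hQ₁Q hy) a ha.1)
    conv_lhs => rw [Coprime.eq_commutator_sup_centralizer h.hR₀Q hcopQR]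
    rw [Coprime.card_sup hn, h.hqline, mul_comm]
    exact le_bot_iff.mp ((inf_le_inf_left _ inf_le_right).trans
      (Coprime.commutator_inf_centralizer_eq_bot h.hR₀Q hQc hcopQR).le)
  set C := W ⊓ Subgroup.centralizer (R₀ : Set G)
  have hCp : Nat.card C ∣ p := (Subgroup.card_dvd_of_le (inf_le_inf_right _ hWV)).trans h.hline
  let Ω : Set (Subgroup G) :=
    {B | B ≤ Q ∧ Nat.card Q = q * Nat.card B ∧ W ⊓ Subgroup.centralizer (B : Set G) ≠ ⊥}
  have hBq : ∀ {B : Subgroup G}, B ≤ Q → IsPGroup q B := fun hB => h.hQ.to_le hB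
  -- a hyperplane with nontrivial fixed points
  obtain ⟨B₁, hB₁⟩ : ∃ B, B ∈ Ω := by
    obtain ⟨B, ⟨hBQ, hBW⟩, hBmax⟩ := (Set.toFinite
      {B : Subgroup G | B ≤ Q ∧ W ⊓ Subgroup.centralizer (B : Set G) ≠ ⊥}).exists_maximal
      ⟨⊥, bot_le, fun e => hWne (le_bot_iff.mp ((le_inf le_rfl fun w _ =>
        Subgroup.mem_centralizer_iff.mpr fun b hb => by
          rw [SetLike.mem_coe, Subgroup.mem_bot] at hb; simp [hb]).trans e.le))⟩
    refine ⟨B, hBQ, ?_, hBW⟩
    by_contra hcard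
    have hBlt : ¬ Q ≤ B := fun hle => hBW (le_bot_iff.mp
      ((inf_le_inf_left _ (Subgroup.centralizer_le hle)).trans hWQ.le))
    have step : ∀ D : Subgroup G, D ≤ Q → ∀ a ∈ Q, a ∉ D →
        D ⊓ Subgroup.zpowers a = ⊥ ∧ Nat.card ↥(D ⊔ Subgroup.zpowers a) = q * Nat.card D := by
      intro D hDQ a haQ haD
      have ha1 : a ≠ 1 := fun e => haD (e ▸ D.one_mem)
      have hca : Nat.card (Subgroup.zpowers a) = q := by
        rw [Nat.card_zpowers]; exact orderOf_eq_prime (h.hexp a haQ) ha1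
      have hbot : D ⊓ Subgroup.zpowers a = ⊥ := by
        rcases le_normalizer_or_inf_eq_bot h.hq hca D with e | e
        · exact absurd (e (Subgroup.mem_zpowers a)) haD
        · rwa [inf_comm]
      refine ⟨hbot, ?_⟩
      rw [Coprime.card_sup (fun y hy => Subgroup.centralizer_le_normalizer _ (Subgroup.mem_centralizer_iff.mpr
        fun z hz => hQQ z (hDQ hz) y (Subgroup.zpowers_le.mpr haQ hy))) hbot, hca, mul_comm]
    obtain ⟨x, hxQ, hxB⟩ := SetLike.not_le_iff_exists.mp hBlt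
    obtain ⟨hxbot, hxcard⟩ := step B hBQ x hxQ hxB
    set B' := B ⊔ Subgroup.zpowers x
    have hB'Q : B' ≤ Q := sup_le hBQ (Subgroup.zpowers_le.mpr hxQ)
    obtain ⟨y, hyQ, hyB⟩ := SetLike.not_le_iff_exists.mp
      (fun hle => hcard (by rw [← hxcard, le_antisymm hle hB'Q]) : ¬ Q ≤ B')
    obtain ⟨hybot, -⟩ := step B' hB'Q y hyQ hyB
    set E := Subgroup.zpowers x ⊔ Subgroup.zpowers y
    have hEQ : E ≤ Q := sup_le (Subgroup.zpowers_le.mpr hxQ) (Subgroup.zpowers_le.mpr hyQ)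
    obtain ⟨-, hEc⟩ := step (Subgroup.zpowers x) (Subgroup.zpowers_le.mpr hxQ) y hyQ
      (fun hy => hyB (Subgroup.mem_sup_right hy))
    have hx1 : x ≠ 1 := fun e => hxB (e ▸ B.one_mem)
    rw [Nat.card_zpowers, orderOf_eq_prime (h.hexp x hxQ) hx1, ← pow_two] at hEc
    haveI : IsMulCommutative E := ⟨⟨fun a b => Subtype.ext (hQQ a (hEQ a.2) b (hEQ b.2))⟩⟩
    set D := W ⊓ Subgroup.centralizer (B : Set G)
    have hED : E ≤ Subgroup.normalizer (D : Set G) :=
      (le_inf (hEQ.trans hQW) (fun a ha => norm_le_norm_cent B (Subgroup.centralizer_le_normalizer _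
        (Subgroup.mem_centralizer_iff.mpr fun b hb => hQQ b (hBQ hb) a (hEQ ha))))).trans
        Subgroup.inf_normalizer_le_normalizer_inf
    have hgen := Coprime.eq_centralizerJoin_of_sq hEc (fun e he => h.hexp e (hEQ he)) _ D rfl
      (Coprime.isSolvable_of_isPGroup (hWp.to_le inf_le_left)) hED
      (coprime_pGroups h.hq h.hp h.hpq.symm (hBq hEQ) (hWp.to_le inf_le_left))
    refine hBW (hgen.symm.trans (le_bot_iff.mp (iSup_le ?_)))
    rintro ⟨e, he, he1⟩ v hv
    by_contra hv1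
    have heB : e ∈ B := hBmax ⟨sup_le hBQ (Subgroup.zpowers_le.mpr (hEQ he)), fun hb => hv1 (hb.le
      ⟨hv.1.1, Subgroup.le_centralizer_iff.mpr (sup_le (Subgroup.le_centralizer_iff.mpr
        (Subgroup.zpowers_le.mpr hv.1.2)) (Subgroup.zpowers_le.mpr (Subgroup.mem_centralizer_iff.mpr fun u hu => ?_)))
        (Subgroup.mem_zpowers v)⟩)⟩ le_sup_left (Subgroup.mem_sup_right (Subgroup.mem_zpowers e))
    · obtain ⟨a, ha, b, hb, hab⟩ := exists_mul_of_mem_sup (fun z hz => Subgroup.centralizer_le_normalizer _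
        (Subgroup.mem_centralizer_iff.mpr fun w hw => hQQ w (Subgroup.zpowers_le.mpr hxQ hw) z
          (Subgroup.zpowers_le.mpr hyQ hz))) he
      have hb1 : b ∈ B' ⊓ Subgroup.zpowers y := ⟨by
        rw [show b = a⁻¹ * e by rw [← hab]; group]
        exact B'.mul_mem (B'.inv_mem (Subgroup.mem_sup_right ha)) (Subgroup.mem_sup_left heB), hb⟩
      rw [hybot, Subgroup.mem_bot] at hb1
      have ha1 : a ∈ B ⊓ Subgroup.zpowers x := ⟨by rwa [← hab, hb1, mul_one] at heB, ha⟩
      rw [hxbot, Subgroup.mem_bot] at ha1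
      exact he1 (by rw [← hab, ha1, hb1, mul_one])
    · obtain ⟨k, rfl⟩ := Subgroup.mem_zpowers_iff.mp hu
      exact ((show Commute e v from Subgroup.mem_centralizer_singleton_iff.mp hv.2 |>.symm).zpow_right k).eq.symm
  -- conjugates
  have hΩconj : ∀ {B : Subgroup G}, B ∈ Ω → ∀ {g : G}, g ∈ T → B.map (MulAut.conj g).toMonoidHom ∈ Ω := by
    intro B hB g hg
    refine ⟨map_conj_le_iff.mpr fun k hk => (Subgroup.mem_normalizer_iff.mp (hTQ hg) k).mp (hB.1 hk),
      by rw [Coprime.card_map_conj]; exact hB.2.1, fun e => hB.2.2 ((Subgroup.eq_bot_iff_forall _).mpr fun v hv => ?_)⟩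
    have h1 : g * v * g⁻¹ ∈ (⊥ : Subgroup G) := e.le
      ⟨(Subgroup.mem_normalizer_iff.mp (hTW hg) v).mp hv.1, conj_mem_centralizer_map hv.2⟩
    simpa using Subgroup.mem_bot.mp h1
  -- fixed hyperplanes other than `Q₁` contain all fixed points of `R₀`
  have hfixed : ∀ {B : Subgroup G}, B ∈ Ω → R₀ ≤ Subgroup.normalizer (B : Set G) → B ≠ Q₁ →
      ∃ c ∈ C, c ≠ 1 ∧ C ≤ Subgroup.centralizer (B : Set G) := by
    intro B hB hn hne
    set D := W ⊓ Subgroup.centralizer (B : Set G)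
    have hQD : Q ≤ Subgroup.normalizer (D : Set G) := (le_inf hQW fun a ha =>
      norm_le_norm_cent B (Subgroup.centralizer_le_normalizer _
        (Subgroup.mem_centralizer_iff.mpr fun b hb => hQQ b (hB.1 hb) a ha))).trans
      Subgroup.inf_normalizer_le_normalizer_inf
    have hRD : R₀ ≤ Subgroup.normalizer (D : Set G) :=
      (le_inf hR₀W (hn.trans (norm_le_norm_cent B))).trans Subgroup.inf_normalizer_le_normalizer_inf
    have hDR : D ⊓ Subgroup.centralizer (R₀ : Set G) ≠ ⊥ := by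
      intro e
      have hc := commutator_le_centralizer_of_fpf (v := p) h.hq h.hr h.hpq h.hpr h.hqr
        (ne_two hodd (dvd_card h.hq h.hQ h.hQne)) h.hR₀ h.hQ (hWp.to_le inf_le_left) h.hR₀Q hRD hQD e
      have hQDB : Q ⊓ Subgroup.centralizer (D : Set G) = B := by
        have hBle : B ≤ Q ⊓ Subgroup.centralizer (D : Set G) :=
          le_inf hB.1 (Subgroup.le_centralizer_iff.mp inf_le_right)
        obtain ⟨d, hd⟩ := Subgroup.card_dvd_of_le hBle
        have hdvd := Subgroup.card_dvd_of_le (inf_le_left : Q ⊓ Subgroup.centralizer (D : Set G) ≤ Q)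
        rw [hd, hB.2.1, mul_comm q] at hdvd
        rcases (Nat.dvd_prime h.hq).mp (Nat.dvd_of_mul_dvd_mul_left Nat.card_pos hdvd) with h1 | h1
        · exact (Subgroup.eq_of_le_of_card_ge hBle (by rw [hd, h1, mul_one])).symm
        · exfalso
          have hQle : Q ⊓ Subgroup.centralizer (D : Set G) = Q :=
            Subgroup.eq_of_le_of_card_ge inf_le_left (by rw [hd, h1, hB.2.1, mul_comm])
          exact hB.2.2 (le_bot_iff.mp ((le_inf (inf_le_left : D ≤ W)
            (Subgroup.le_centralizer_iff.mp (inf_eq_left.mp hQle))).trans hWQ.le))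
      exact hne (Subgroup.eq_of_le_of_card_ge ((le_inf hQ₁Q hc).trans hQDB.le)
        (Nat.eq_of_mul_eq_mul_left h.hq.pos (hB.2.1.symm.trans hQ₁c)).le).symm
    obtain ⟨c, hc, hc1⟩ := (Subgroup.bot_or_exists_ne_one _).resolve_left hDR
    exact ⟨c, ⟨hc.1.1, hc.2⟩, hc1, le_of_card_dvd_prime h.hp hCp ⟨hc.1.1, hc.2⟩ hc1 hc.1.2⟩
  set NR := nrm W R₀ hR₀W
  have hNRC : ∀ w : W, (NR w : G) ∈ C := fun w => ⟨(NR w).2, nrm_mem_centralizer hR₀W w⟩
  -- norms over free hyperplanes
  have hkey : ∀ {B : Subgroup G} (hB : B ∈ Ω), ¬ R₀ ≤ Subgroup.normalizer (B : Set G) → ∀ w : W,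
      (w : G) ∈ Subgroup.centralizer (B : Set G) →
      nrm W B (hB.1.trans hQW) (NR w) = w ^ Nat.card B := by
    intro B hB hn w hw
    haveI := Fintype.ofFinite R₀
    show nrm W B (hB.1.trans hQW) (nrm W R₀ hR₀W w) = _
    rw [nrm_apply W R₀]
    open scoped IsMulCommutative in
    rw [map_prod, Finset.prod_eq_single (1 : R₀) (fun x _ hx => ?_) (fun hh => absurd (Finset.mem_univ _) hh)]
    · rw [show W.normalizerMonoidHom ⟨((1 : R₀) : G), hR₀W (1 : R₀).2⟩ w = w from Subtype.ext (by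
        show ((1 : R₀) : G) * w * ((1 : R₀) : G)⁻¹ = w
        simp)]
      exact nrm_eq_pow _ hw
    · refine nrm_kill h.hq hQc hB.1 (hΩconj hB (Subgroup.mem_sup_right x.2)).1 hB.2.1
        (hΩconj hB (Subgroup.mem_sup_right x.2)).2.1 ?_ _ hWQ (conj_mem_centralizer_map hw)
      intro e
      rcases le_normalizer_or_inf_eq_bot h.hr h.hR₀ (Subgroup.normalizer (B : Set G)) with h1 | h1
      · exact hn h1
      · exact hx (Subtype.ext (Subgroup.mem_bot.mp (h1.le
          ⟨x.2, Subgroup.mem_normalizer_iff_map_conj_eq.mpr e.symm⟩)))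
  have hNR1 : ∀ {B : Subgroup G}, B ∈ Ω → ¬ R₀ ≤ Subgroup.normalizer (B : Set G) → ∀ w : W,
      (w : G) ∈ Subgroup.centralizer (B : Set G) → w ≠ 1 → NR w ≠ 1 := by
    intro B hB hn w hw hw1 e
    refine pow_card_ne_one h.hp h.hq h.hpq hWp (hBq hB.1) hw1 ?_
    rw [← hkey hB hn w hw, e, map_one]
  obtain ⟨B, hB, hSB⟩ : ∃ B ∈ Ω, S ≤ Subgroup.normalizer (B : Set G) ∧
      ((¬ R₀ ≤ Subgroup.normalizer (B : Set G)) ∨ R₀ ≤ Subgroup.normalizer (B : Set G)) := by
    have hoddT : Odd (Nat.card T) := hodd.of_dvd_nat T.card_subgroup_dvd_card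
    have horb : ∀ {B : Subgroup G}, B ∈ Ω → orb T B ⊆ Ω := by
      rintro B hB _ ⟨g, rfl⟩; exact hΩconj hB g.2
    have hn_odd : ∀ B : Subgroup G, Odd (orb T B).ncard := fun B =>
      hoddT.of_dvd_nat ⟨_, (card_orb T B).symm⟩
    by_cases hfree : ∃ B ∈ Ω, ¬ R₀ ≤ Subgroup.normalizer (B : Set G)
    · obtain ⟨B₀, hB₀, hn₀⟩ := hfree
      obtain ⟨v₀, hv₀, hv₀1⟩ := (Subgroup.bot_or_exists_ne_one _).resolve_left hB₀.2.2
      set w₀ : W := ⟨v₀, hv₀.1⟩
      have hw₀ : w₀ ≠ 1 := fun e => hv₀1 (congrArg Subtype.val e)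
      have hsub : Ω ⊆ orb R₀ B₀ ∪ {Q₁} := by
        intro B hB
        by_contra hnot
        simp only [Set.mem_union, Set.mem_singleton_iff, not_or] at hnot
        by_cases hn : R₀ ≤ Subgroup.normalizer (B : Set G)
        · obtain ⟨c, -, -, hC⟩ := hfixed hB hn hnot.2
          refine pow_card_ne_one h.hp h.hq h.hpq hWp (hBq hB₀.1) hw₀ ?_
          rw [← hkey hB₀ hn₀ w₀ hv₀.2]
          refine nrm_kill h.hq hQc hB₀.1 hB.1 hB₀.2.1 hB.2.1 ?_ _ hWQ (hC (hNRC w₀))
          exact fun e => hn₀ (e ▸ hn)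
        · obtain ⟨v, hv, hv1⟩ := (Subgroup.bot_or_exists_ne_one _).resolve_left hB.2.2
          have hkill : nrm W B (hB.1.trans hQW) (NR w₀) = 1 := by
            haveI := Fintype.ofFinite R₀
            show nrm W B (hB.1.trans hQW) (nrm W R₀ hR₀W w₀) = _
            rw [nrm_apply W R₀]
            open scoped IsMulCommutative in
            rw [map_prod]
            open scoped IsMulCommutative in
            refine Finset.prod_eq_one fun x _ => ?_
            exact nrm_kill h.hq hQc hB.1 (hΩconj hB₀ (Subgroup.mem_sup_right x.2)).1 hB.2.1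
              (hΩconj hB₀ (Subgroup.mem_sup_right x.2)).2.1 (fun e => hnot.1 ⟨x, e.symm⟩) _ hWQ
              (conj_mem_centralizer_map hv₀.2)
          have hCker : C ≤ (nrm W B (hB.1.trans hQW)).ker.map W.subtype :=
            le_of_card_dvd_prime h.hp hCp (hNRC w₀)
              (fun e => hNR1 hB₀ hn₀ w₀ hv₀.2 hw₀ (Subtype.ext e)) ⟨_, hkill, rfl⟩
          obtain ⟨u, hu, hue⟩ := hCker (hNRC ⟨v, hv.1⟩)
          refine pow_card_ne_one h.hp h.hq h.hpq hWp (hBq hB.1) (w := (⟨v, hv.1⟩ : W))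
            (fun e => hv1 (congrArg Subtype.val e)) ?_
          rw [← hkey hB hn _ hv.2, ← show u = NR ⟨v, hv.1⟩ from Subtype.ext hue]
          exact hu
      have hr₀ : (orb R₀ B₀).ncard = r := by
        have := card_orb R₀ B₀
        rwa [(le_normalizer_or_inf_eq_bot h.hr h.hR₀ _).resolve_left hn₀, Subgroup.card_bot, mul_one,
          h.hR₀] at this
      have hsub₀ : orb R₀ B₀ ⊆ orb T B₀ := by
        rintro _ ⟨g, rfl⟩; exact ⟨⟨g, Subgroup.mem_sup_right g.2⟩, rfl⟩
      have h1 : r ≤ (orb T B₀).ncard := hr₀ ▸ Set.ncard_le_ncard hsub₀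
      have h2 : (orb T B₀).ncard ≤ r + 1 := by
        refine (Set.ncard_le_ncard ((horb hB₀).trans hsub)).trans ((Set.ncard_union_le _ _).trans ?_)
        rw [hr₀, Set.ncard_singleton]
      have h3 : (orb T B₀).ncard = r := by
        rcases Nat.lt_or_ge r (orb T B₀).ncard with hlt | hge
        · have hro : Odd r := hodd.of_dvd_nat (h.hR₀ ▸ R₀.card_subgroup_dvd_card)
          have he := hn_odd B₀
          rw [show (orb T B₀).ncard = r + 1 by omega] at he
          exact absurd he (Nat.not_odd_iff_even.mpr hro.add_one)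
        · omega
      exact ⟨B₀, hB₀, le_normalizer_of_orb h.hr h.hR₀ h.hR₀S
        (h.hR₀ ▸ coprime_pGroups h.hp h.hr h.hpr h.hS hR₀p) h3, Or.inl hn₀⟩
    · simp only [not_exists, not_and, not_not] at hfree
      have hsmall : ∀ B ∈ Ω, B ≠ Q₁ → Ω ⊆ {B, Q₁} := by
        intro B hB hne B' hB'
        by_contra hnot
        simp only [Set.mem_insert_iff, Set.mem_singleton_iff, not_or] at hnot
        obtain ⟨c, hc, hc1, hC⟩ := hfixed hB (hfree B hB) hne
        obtain ⟨-, -, -, hC'⟩ := hfixed hB' (hfree B' hB') hnot.2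
        refine pow_card_ne_one h.hp h.hq h.hpq hWp (hBq hB.1) (w := (⟨c, hc.1⟩ : W))
          (fun e => hc1 (congrArg Subtype.val e)) ?_
        rw [← nrm_eq_pow (hB.1.trans hQW) (w := (⟨c, hc.1⟩ : W)) (hC hc)]
        exact nrm_kill h.hq hQc hB.1 hB'.1 hB.2.1 hB'.2.1 (Ne.symm hnot.1) _ hWQ (hC' hc)
      have h2 : Ω.ncard ≤ 2 := by
        by_cases hex : ∃ B ∈ Ω, B ≠ Q₁
        · obtain ⟨B, hB, hne⟩ := hex
          exact (Set.ncard_le_ncard (hsmall B hB hne)).trans ((Set.ncard_insert_le _ _).trans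
            (by rw [Set.ncard_singleton]))
        · simp only [not_exists, not_and, not_not] at hex
          exact (Set.ncard_le_ncard (show Ω ⊆ {Q₁} from fun B hB => hex B hB)).trans
            (by rw [Set.ncard_singleton]; norm_num)
      have h1 : (orb T B₁).ncard = 1 := by
        have := (Set.ncard_le_ncard (horb hB₁)).trans h2
        obtain ⟨k, hk⟩ := hn_odd B₁
        omega
      refine ⟨B₁, hB₁, ?_, Or.inr (hfree B₁ hB₁)⟩
      have := card_orb T B₁
      rw [h1, one_mul] at this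
      exact le_sup_left.trans ((Subgroup.eq_of_le_of_card_ge inf_le_left this.ge).ge.trans inf_le_right)
  set D := W ⊓ Subgroup.centralizer (B : Set G)
  have hQD : Q ≤ Subgroup.normalizer (D : Set G) := (le_inf hQW fun a ha =>
    norm_le_norm_cent B (Subgroup.centralizer_le_normalizer _
      (Subgroup.mem_centralizer_iff.mpr fun b hb => hQQ b (hB.1 hb) a ha))).trans
    Subgroup.inf_normalizer_le_normalizer_inf
  have hSD : S ≤ Subgroup.normalizer (D : Set G) :=
    (le_inf (le_sup_left.trans hTW) (hSB.1.trans (norm_le_norm_cent B))).trans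
      Subgroup.inf_normalizer_le_normalizer_inf
  rcases hSB.2 with hn | hn
  · -- a free hyperplane: the fixed points are cyclic
    have hC : IsCyclic C := by
      haveI := Fact.mk h.hp
      exact isCyclic_of_card_dvd_prime hCp
    haveI := hC
    let f : D →* C := ((W.subtype.comp NR).comp (Subgroup.inclusion (inf_le_left : D ≤ W))).codRestrict C
      fun w => hNRC _
    have hf : Function.Injective f := (injective_iff_map_eq_one f).mpr fun w hw => by
      by_contra hw1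
      exact hNR1 hB hn (Subgroup.inclusion (inf_le_left : D ≤ W) w) w.2.2
        (fun e => hw1 (Subgroup.inclusion_injective _ (e.trans (map_one _).symm)))
        (Subtype.ext (congrArg (Subtype.val : C → G) hw))
    have hcyc : IsCyclic D := isCyclic_of_injective f hf
    refine hB.2.2 (le_bot_iff.mp ((le_inf (inf_le_left : D ≤ W) (Subgroup.le_centralizer_iff.mp ?_)).trans hWQ.le))
    refine le_centralizer_of_isCyclic (N₀ := Q ⊔ S) ?_ (sup_le hQD hSD) hcyc
    exact h.hQfull.ge.trans (Subgroup.commutator_mono le_sup_left le_sup_right)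
  · -- a fixed hyperplane: `S` fixes `Q / B`
    set N := Subgroup.normalizer (B : Set G)
    have hQN : Q ≤ N := fun a ha => Subgroup.centralizer_le_normalizer _
      (Subgroup.mem_centralizer_iff.mpr fun b hb => hQQ b (hB.1 hb) a ha)
    have hTN : T ≤ N := sup_le hSB.1 hn
    have hBN : B ≤ N := hB.1.trans hQN
    set π := QuotientGroup.mk' (B.subgroupOf N)
    have hker : π.ker = B.subgroupOf N := QuotientGroup.ker_mk' _
    have hQbc : Nat.card ((Q.subgroupOf N).map π) = q := by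
      rw [← Subgroup.relIndex_ker, hker, Subgroup.relIndex_subgroupOf hQN]
      have := card_mul_relIndex hB.1
      rw [hB.2.1, mul_comm q] at this
      exact Nat.eq_of_mul_eq_mul_left Nat.card_pos this
    have hcyc : IsCyclic ((Q.subgroupOf N).map π) := by
      haveI := Fact.mk h.hq
      exact isCyclic_of_prime_card hQbc
    have hmapS : ∀ {X Y : Subgroup G}, X ≤ N → Y ≤ N →
        (⁅X.subgroupOf N, Y.subgroupOf N⁆).map N.subtype = ⁅X, Y⁆ := fun hX hY => by
      rw [Subgroup.map_commutator, Subgroup.map_subgroupOf_eq_of_le hX, Subgroup.map_subgroupOf_eq_of_le hY]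
    have hSN : S ≤ N := le_sup_left.trans hTN
    have hSb : (S.subgroupOf N).map π ≤ ⁅(T.subgroupOf N).map π, (T.subgroupOf N).map π⁆ := by
      rw [← Subgroup.map_commutator]
      refine Subgroup.map_mono ?_
      rw [← Subgroup.map_le_map_iff_of_injective N.subtype_injective, hmapS hTN hTN,
        Subgroup.map_subgroupOf_eq_of_le hSN]
      exact h.hSfull.ge.trans (Subgroup.commutator_mono le_sup_left le_sup_right)
    have hTnQ : (T.subgroupOf N).map π ≤ Subgroup.normalizer (((Q.subgroupOf N).map π : Subgroup (N ⧸ B.subgroupOf N)) : Set (N ⧸ B.subgroupOf N)) := by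
      refine (Subgroup.map_mono ?_).trans (Subgroup.le_normalizer_map π)
      intro t ht
      exact mem_normalizer_of_conj_mem fun y hy => Subgroup.mem_subgroupOf.mpr
        ((Subgroup.mem_normalizer_iff.mp (hTQ (Subgroup.mem_subgroupOf.mp ht)) _).mp (Subgroup.mem_subgroupOf.mp hy))
    have hcen := le_centralizer_of_isCyclic hSb hTnQ hcyc
    have hcomm : (⁅Q.subgroupOf N, S.subgroupOf N⁆).map π = ⊥ := by
      rw [Subgroup.map_commutator, Subgroup.commutator_comm]
      exact Subgroup.commutator_eq_bot_iff_le_centralizer.mpr hcen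
    have hle : Q ≤ B := by
      rw [Subgroup.map_eq_bot_iff, hker] at hcomm
      have := Subgroup.map_mono (f := N.subtype) hcomm
      rwa [hmapS hQN hSN, h.hQfull, Subgroup.map_subgroupOf_eq_of_le hBN] at this
    exact hB.2.2 (le_bot_iff.mp ((inf_le_inf_left _ (Subgroup.centralizer_le hle)).trans hWQ.le))

theorem centralizer_fittingOf_le [Group.IsSolvable G] (L : Subgroup G) :
    L ⊓ Subgroup.centralizer (fittingOf L : Set G) ≤ fittingOf L :=
  le_fittingOf_of_normal_in_centralizer le_rfl Subgroup.le_normalizer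
    (Group.isSolvable_of_isSolvable_injective (Subgroup.subtype_injective _))

/-- The core: a faithful action with a Z-group of fixed points has `p'`-order. -/
theorem not_dvd_card_of_faithful [Group.IsSolvable G] (hodd : Odd (Nat.card G)) {p r : ℕ} [hp : Fact p.Prime]
    (hr : r.Prime) {V L R R₀ : Subgroup G} (hVp : IsPGroup p V) (hVe : IsElementaryAbelian p V)
    (hLV : L ≤ Subgroup.normalizer (V : Set G)) (hRV : R ≤ Subgroup.normalizer (V : Set G))
    (hRL : R ≤ Subgroup.normalizer (L : Set G)) (hR₀R : R₀ ≤ R) (hR₀ : Nat.card R₀ = r) (hpr : p ≠ r)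
    (hrL : r.Coprime (Nat.card L)) (hfaith : L ⊓ Subgroup.centralizer (V : Set G) = ⊥) (hLfull : ⁅L, R⁆ = L)
    (hfit : fitPart p L = ⊥) (hZ : IsZGroup ↥((V ⊔ L) ⊓ Subgroup.centralizer (R₀ : Set G))) :
    ¬ p ∣ Nat.card L := by
  classical
  intro hpL
  haveI := hVe.1
  haveI := hZ
  haveI hR₀s : Group.IsSolvable R₀ := isSolvable_of_prime_card hr hR₀
  have hR₀p : IsPGroup r R₀ := haveI := Fact.mk hr; IsPGroup.of_card (n := 1) (by rw [hR₀, pow_one])
  have hR₀V := hR₀R.trans hRV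
  have hR₀L := hR₀R.trans hRL
  have hcopL : (Nat.card R₀).Coprime (Nat.card L) := hR₀ ▸ hrL
  have hne_r : ∀ {q : ℕ}, q.Prime → q ∣ Nat.card L → q ≠ r := fun hq h e =>
    hq.ne_one (Nat.eq_one_of_dvd_coprimes hrL (e ▸ dvd_rfl) h)
  have hLF : L ≤ Subgroup.normalizer (fittingOf L : Set G) := le_normalizer_fittingOf L
  have hfitne : ∀ {q : ℕ}, fitPart q L ≠ ⊥ → q ≠ p := fun h e => h (e ▸ hfit)
  by_cases hline : V ⊓ Subgroup.centralizer (R₀ : Set G) = ⊥
  · -- no fixed points: `R₀` centralizes `L`, so `L` is nilpotent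
    have hFC : R₀ ≤ Subgroup.centralizer (fittingOf L : Set G) := by
      refine Subgroup.le_centralizer_iff.mp (fittingOf_le_iff.mpr fun q hq => ?_)
      haveI := Fact.mk hq
      by_cases hb : fitPart q L = ⊥
      · rw [hb]; exact bot_le
      have hqd : q ∣ Nat.card L := (dvd_card hq (isPGroup_fitPart hq L) hb).trans
        (Subgroup.card_dvd_of_le (piCoreOf_le _ _))
      have hRQ : R₀ ≤ Subgroup.normalizer (fitPart q L : Set G) :=
        hR₀L.trans (normalizer_le_normalizer_piCoreOf {q} L)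
      have h1 := commutator_le_centralizer_of_fpf (v := p) hq hr (hfitne hb).symm hpr (hne_r hq hqd)
        (ne_two hodd hqd) hR₀ (isPGroup_fitPart hq L) hVp hRQ hR₀V ((piCoreOf_le _ _).trans hLV) hline
      refine Subgroup.commutator_eq_bot_iff_le_centralizer.mp (le_bot_iff.mp ?_)
      exact (le_inf ((Coprime.commutator_le_of_le_normalizer hRQ).trans (piCoreOf_le _ _)) h1).trans hfaith.le
    have h1 : ⁅L, R₀⁆ ≤ Subgroup.centralizer (fittingOf L : Set G) := by
      rw [Subgroup.commutator_le]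
      intro l hl x hx
      rw [commutatorElement_def]
      exact mul_mem ((Subgroup.mem_normalizer_iff.mp (norm_le_norm_cent _ (hLF hl)) x).mp (hFC hx))
        (inv_mem (hFC hx))
    have h2 : ⁅L, R₀⁆ ≤ fittingOf L :=
      (le_inf (Coprime.commutator_le_of_le_normalizer hR₀L) h1).trans (centralizer_fittingOf_le L)
    have h3 : ⁅L, R₀⁆ = ⊥ := Coprime.commutator_eq_bot_of_commutator_commutator hR₀L hcopL
      (le_bot_iff.mp ((Subgroup.commutator_mono h2 le_rfl).trans
        (Subgroup.commutator_eq_bot_iff_le_centralizer.mpr (Subgroup.le_centralizer_iff.mp hFC)).le))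
    have hLC : L ≤ (V ⊔ L) ⊓ Subgroup.centralizer (R₀ : Set G) :=
      le_inf le_sup_right (Subgroup.commutator_eq_bot_iff_le_centralizer.mp h3)
    haveI : IsZGroup ↥(fittingOf L) :=
      IsZGroup.of_injective (Subgroup.inclusion_injective ((fittingOf_le L).trans hLC))
    haveI : Group.IsNilpotent ↥(fittingOf L) := isNilpotent_fittingOf L
    have hF : IsCyclic ↥(fittingOf L) := inferInstance
    have h4 : L ≤ fittingOf L := (le_inf le_rfl (le_centralizer_of_isCyclic (N₀ := L ⊔ R)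
      (hLfull.ge.trans (Subgroup.commutator_mono le_sup_left le_sup_right))
      (sup_le hLF (hRL.trans (norm_le_norm_fittingOf L))) hF)).trans (centralizer_fittingOf_le L)
    exact (dvd_fitting_iff hp.out L).mp (hpL.trans (Subgroup.card_dvd_of_le h4)) hfit
  -- fixed points: a Sylow `p`-subgroup of `L` is moved fixed-point-freely
  obtain ⟨S, hSL, hSp, hSi, hR₀S⟩ := Coprime.exists_invariant_sylow hR₀L hcopL p
  have hSne : S ≠ ⊥ := fun e => hSi (by rw [e, Subgroup.relIndex_bot_left]; exact hpL)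
  have hSV : S ≤ Subgroup.normalizer (V : Set G) := hSL.trans hLV
  set C := V ⊓ Subgroup.centralizer (R₀ : Set G)
  have hVS : V ⊓ S = ⊥ := le_bot_iff.mp fun x hx => hfaith.le
    ⟨hSL hx.2, Subgroup.mem_centralizer_iff.mpr fun y hy =>
      congrArg (Subtype.val : V → G) (mul_comm' (⟨y, hy⟩ : V) ⟨x, hx.1⟩)⟩
  have hcyc : ∀ U : Subgroup G, IsPGroup p U → U ≤ (V ⊔ L) ⊓ Subgroup.centralizer (R₀ : Set G) → IsCyclic U := by
    intro U hU hle
    haveI : IsCyclic ↥(U.subgroupOf ((V ⊔ L) ⊓ Subgroup.centralizer (R₀ : Set G))) :=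
      IsPGroup.isCyclic_of_isZGroup (p := p) hU.comap_subtype
    exact isCyclic_of_surjective (Subgroup.subgroupOfEquivOfLe hle).toMonoidHom (MulEquiv.surjective _)
  have hCp : IsPGroup p C := hVp.to_le inf_le_left
  have hC : IsCyclic C := hcyc C hCp (inf_le_inf_right _ le_sup_left)
  have hCS : S ⊓ Subgroup.centralizer (R₀ : Set G) = ⊥ := by
    set D := S ⊓ Subgroup.centralizer (R₀ : Set G)
    by_contra hD
    have hn : D ≤ Subgroup.normalizer (C : Set G) :=
      (le_inf (inf_le_left.trans hSV) (inf_le_right.trans Subgroup.le_normalizer)).trans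
        Subgroup.inf_normalizer_le_normalizer_inf
    have hU : IsPGroup p ↥(C ⊔ D) := hCp.to_sup_of_normal_left' (hSp.to_le inf_le_left) hn
    have hUc := hcyc _ hU (sup_le (inf_le_inf_right _ le_sup_left)
      (inf_le_inf_right _ (hSL.trans le_sup_right)))
    obtain ⟨i, hi⟩ := IsPGroup.iff_card.mp hCp
    obtain ⟨j, hj⟩ := IsPGroup.iff_card.mp (hSp.to_le (inf_le_left : D ≤ S))
    have hCD : C ≤ D ∨ D ≤ C := by
      rcases le_total i j with hij | hij
      · exact Or.inl (le_of_card_dvd_of_isCyclic hUc le_sup_left le_sup_right (hi ▸ hj ▸ pow_dvd_pow p hij))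
      · exact Or.inr (le_of_card_dvd_of_isCyclic hUc le_sup_right le_sup_left (hi ▸ hj ▸ pow_dvd_pow p hij))
    rcases hCD with hle | hle
    · exact hline (le_bot_iff.mp ((le_inf inf_le_left (hle.trans inf_le_left)).trans hVS.le))
    · exact hD (le_bot_iff.mp ((le_inf (hle.trans inf_le_left) inf_le_left).trans hVS.le))
  have hpS : ¬ r = p := fun e => hpr e.symm
  have hcopS : (Nat.card R₀).Coprime (Nat.card S) := coprime_pGroups hr hp.out hpS hR₀p hSp
  have hSfull : ⁅S, R₀⁆ = S := by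
    have := Coprime.eq_commutator_sup_centralizer hR₀S hcopS
    rw [hCS, sup_bot_eq] at this
    exact this.symm
  -- some part of the Fitting subgroup is moved by `S`
  have hex : ∃ q : ℕ, q.Prime ∧ ⁅fitPart q L, S⁆ ≠ ⊥ := by
    by_contra hall
    simp only [not_exists, not_and, not_not] at hall
    have hSC : S ≤ Subgroup.centralizer (fittingOf L : Set G) := Subgroup.le_centralizer_iff.mp
      (fittingOf_le_iff.mpr fun q hq => Subgroup.commutator_eq_bot_iff_le_centralizer.mp (hall q hq))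
    have hSF : S ≤ fittingOf L := (le_inf hSL hSC).trans (centralizer_fittingOf_le L)
    exact (dvd_fitting_iff hp.out L).mp ((dvd_card hp.out hSp hSne).trans (Subgroup.card_dvd_of_le hSF)) hfit
  obtain ⟨q, hq, hqS⟩ := hex
  haveI := Fact.mk hq
  have hqp : q ≠ p := fun e => hqS (by rw [e, hfit, Subgroup.commutator_bot_left])
  have hB : ∀ U : Subgroup G, S ⊔ R₀ ≤ Subgroup.normalizer (U : Set G) →
      S ≤ Subgroup.normalizer (U : Set G) ∧ R₀ ≤ Subgroup.normalizer (U : Set G) := fun U h =>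
    ⟨le_sup_left.trans h, le_sup_right.trans h⟩
  obtain ⟨Q, ⟨hQF, hBQ, hQS⟩, hQmin⟩ := (Set.toFinite {U : Subgroup G | U ≤ fitPart q L ∧
      S ⊔ R₀ ≤ Subgroup.normalizer (U : Set G) ∧ ⁅U, S⁆ ≠ ⊥}).exists_minimal
    ⟨fitPart q L, le_rfl, sup_le (hSL.trans (le_normalizer_piCoreOf {q} L))
      (hR₀L.trans (normalizer_le_normalizer_piCoreOf {q} L)), hqS⟩
  have hQq : IsPGroup q Q := (isPGroup_fitPart hq L).to_le hQF
  have hQL : Q ≤ L := hQF.trans (piCoreOf_le _ _)
  have hmin : ∀ U : Subgroup G, U < Q → S ⊔ R₀ ≤ Subgroup.normalizer (U : Set G) → ⁅U, S⁆ = ⊥ := by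
    intro U hU hn
    by_contra hne
    exact hU.not_ge (hQmin ⟨hU.le.trans hQF, hn, hne⟩ hU.le)
  obtain ⟨hQfull, htype, -, hexp⟩ := Transfer.HHRed.reduction (S ⊔ R₀) S Q hQq hBQ le_sup_left
    (sup_le Subgroup.le_normalizer hR₀S)
    (by obtain ⟨k, hk⟩ := IsPGroup.iff_card.mp hSp; rw [hk]; exact ((Nat.coprime_primes hp.out hq).mpr hqp.symm).pow_left k)
    hQS hmin
  have hQne : Q ≠ ⊥ := fun e => hQS (by rw [e, Subgroup.commutator_bot_left])
  have hqL : q ∣ Nat.card L := (dvd_card hq hQq hQne).trans (Subgroup.card_dvd_of_le hQL)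
  have hq2 := ne_two hodd hqL
  have hQe : ∀ x ∈ Q, x ^ q = 1 := hexp hq2
  obtain ⟨hSQ, hR₀Q⟩ := hB Q hBQ
  set Φ := (frattini Q).map Q.subtype
  -- the fixed points of `R₀` on `Q` are not in the Frattini subgroup
  have hnot : ¬ Q ⊓ Subgroup.centralizer (R₀ : Set G) ≤ Φ := by
    intro hle
    have h1 := commutator_le_centralizer_of_fix_le_frattini (v := q) hp.out hr hqp (hne_r hq hqL) hpr
      (ne_two hodd hpL) hR₀ hSp hQq hR₀S hR₀Q hSQ hle
    rw [hSfull] at h1
    exact hQS (Subgroup.commutator_eq_bot_iff_le_centralizer.mpr (Subgroup.le_centralizer_iff.mp h1))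
  have hQ₀ne : Q ⊓ Subgroup.centralizer (R₀ : Set G) ≠ ⊥ := fun e => hnot (e.le.trans bot_le)
  have hQ₀cyc : IsCyclic ↥(Q ⊓ Subgroup.centralizer (R₀ : Set G)) := by
    haveI : IsCyclic ↥((Q ⊓ Subgroup.centralizer (R₀ : Set G)).subgroupOf
        ((V ⊔ L) ⊓ Subgroup.centralizer (R₀ : Set G))) :=
      IsPGroup.isCyclic_of_isZGroup (p := q) (hQq.to_le inf_le_left).comap_subtype
    exact isCyclic_of_surjective (Subgroup.subgroupOfEquivOfLe
      (inf_le_inf_right _ (hQL.trans (le_sup_right : L ≤ V ⊔ L)))).toMonoidHom (MulEquiv.surjective _)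
  have hqline : Nat.card ↥(Q ⊓ Subgroup.centralizer (R₀ : Set G)) = q :=
    ((Nat.dvd_prime hq).mp (card_dvd_prime hQ₀cyc fun x hx => hQe x hx.1)).resolve_left
      fun e => hQ₀ne (Subgroup.card_eq_one.mp e)
  have hcrit : Crit p q r V Q S R₀ :=
    { hp := hp.out, hq := hq, hr := hr, hpq := hqp.symm, hpr := hpr, hqr := hne_r hq hqL
      hV := hVp, hVc := hVe.1, hQ := hQq, hS := hSp, hR₀ := hR₀
      hSV := hSV, hQV := hQL.trans hLV, hR₀V := hR₀V, hSQ := hSQ, hR₀Q := hR₀Q, hR₀S := hR₀S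
      hSfull := hSfull, hQfull := hQfull, hQne := hQne
      hfaith := le_bot_iff.mp ((inf_le_inf_right _ hQL).trans hfaith.le)
      hexp := hQe, hline := card_dvd_prime hC fun x hx => hVe.2 x hx.1, hqline := hqline }
  by_cases hQc : IsMulCommutative Q
  · exact hcrit.false_of_comm hodd hQc
  rcases htype with hel | hsp
  · exact hQc hel.1
  have hΦQ : Φ ≤ Q := Subgroup.map_subtype_le _
  have hΦne : Φ ≠ ⊥ := by
    intro e
    rw [Subgroup.map_eq_bot_iff_of_injective _ Q.subtype_injective] at e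
    have hc : commutator Q = ⊥ := hsp.2.2.trans (hsp.2.1.symm.trans e)
    refine hQc ⟨⟨fun a b => commutatorElement_eq_one_iff_mul_comm.mp (Subgroup.mem_bot.mp (hc.le
      (Subgroup.commutator_mem_commutator (Subgroup.mem_top a) (Subgroup.mem_top b))))⟩⟩
  have hΦn : S ⊔ R₀ ≤ Subgroup.normalizer (Φ : Set G) :=
    hBQ.trans (Transfer.HHRed.normalizer_map_char (frattini Q))
  have hΦlt : Φ < Q := lt_of_le_of_ne hΦQ fun e => hnot (inf_le_left.trans e.ge)
  have hQΦ : Q ≤ Subgroup.centralizer (Φ : Set G) := by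
    intro a ha
    refine Subgroup.mem_centralizer_iff.mpr ?_
    rintro _ ⟨z, hz, rfl⟩
    rw [hsp.2.1] at hz
    exact congrArg (Subtype.val : Q → G) (Subgroup.mem_center_iff.mp hz ⟨a, ha⟩).symm
  refine hcrit.false_of_central hΦQ hΦne hQΦ
    (Subgroup.le_centralizer_iff.mp (Subgroup.commutator_eq_bot_iff_le_centralizer.mp (hmin Φ hΦlt hΦn)))
    (le_sup_right.trans hΦn) ?_
  by_contra hne
  obtain ⟨z, hz, hz1⟩ := (Subgroup.bot_or_exists_ne_one _).resolve_left hne
  exact hnot (le_of_card_dvd_prime hq hqline.dvd ⟨hΦQ hz.1, hz.2⟩ hz1 hz.1)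

theorem pow_sup_comap {N X : Subgroup G} [N.Normal] (h : N ≤ X) :
    (X.map (QuotientGroup.mk' N)).comap (QuotientGroup.mk' N) = X := by
  rw [Subgroup.comap_map_eq, QuotientGroup.ker_mk', sup_of_le_left h]

theorem not_dvd_of_isPiNat_compl {p n : ℕ} (hp : p.Prime) (h : IsPiNat ({p}ᶜ : Set ℕ) n) : ¬ p ∣ n :=
  hp.coprime_iff_not_dvd.mp ((isPiNat_compl_singleton_iff_coprime hp).mp h).symm

theorem normal_piCoreOf (π : Set ℕ) {X : Subgroup G} (hX : X.Normal) : (piCoreOf π X).Normal :=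
  Subgroup.normalizer_eq_top_iff.mp (top_le_iff.mp
    ((Subgroup.normalizer_eq_top_iff.mpr hX).ge.trans (normalizer_le_normalizer_piCoreOf π X)))

theorem fitPart_le_piCoreOf_compl {p q : ℕ} (hp : p.Prime) (hq : q.Prime) (hpq : q ≠ p) (X : Subgroup G) :
    fitPart q X ≤ piCoreOf {p}ᶜ X := by
  refine le_piCoreOf (piCoreOf_le _ _) (le_normalizer_piCoreOf _ _)
    ((isPiNat_compl_singleton_iff_coprime hp).mpr ?_)
  haveI := Fact.mk hq
  obtain ⟨k, hk⟩ := IsPGroup.iff_card.mp (isPGroup_fitPart hq X)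
  rw [hk]
  exact ((Nat.coprime_primes hq hp).mpr hpq).pow_left k

theorem isPGroup_comap_mk {p : ℕ} {N : Subgroup G} [N.Normal] (hN : IsPGroup p N) {M : Subgroup (G ⧸ N)}
    (hM : IsPGroup p M) : IsPGroup p ↥(M.comap (QuotientGroup.mk' N)) := by
  refine hM.comap_of_ker_isPGroup _ ?_
  rw [QuotientGroup.ker_mk']
  exact hN

/-- An invariant complement of an abelian normal Hall subgroup, with its Frattini argument. -/
theorem exists_invariant_complement {V K₁ R : Subgroup G} [hVn : V.Normal] [hKn : K₁.Normal]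
    (hVK : V ≤ K₁) (hVs : Group.IsSolvable V) (hcop : (Nat.card V).Coprime (V.relIndex K₁))
    (hcopR : (Nat.card R).Coprime (Nat.card V)) :
    ∃ K₀ : Subgroup G, K₁ = V ⊔ K₀ ∧ V ⊓ K₀ = ⊥ ∧ (Nat.card V).Coprime (Nat.card K₀) ∧
      R ≤ Subgroup.normalizer (K₀ : Set G) ∧
      ∀ g : G, ∃ n ∈ V, n * g ∈ Subgroup.normalizer (K₀ : Set G) := by
  have hnV : ∀ H : Subgroup G, H ≤ Subgroup.normalizer (V : Set G) := fun H =>
    le_top.trans (Subgroup.normalizer_eq_top V).ge
  obtain ⟨K, hK⟩ := Subgroup.exists_right_complement'_of_coprime (N := V.subgroupOf K₁)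
    (by rw [card_subgroupOf hVK]; exact hcop)
  set K₀ := K.map K₁.subtype
  have hK₀1 : K₀ ≤ K₁ := Subgroup.map_subtype_le _
  have hsup : K₁ = V ⊔ K₀ := by
    refine le_antisymm ?_ (sup_le hVK hK₀1)
    have h1 := congrArg (Subgroup.map K₁.subtype) hK.sup_eq_top
    rw [Subgroup.map_sup, Subgroup.map_subgroupOf_eq_of_le hVK, ← MonoidHom.range_eq_map,
      Subgroup.range_subtype] at h1
    exact h1.ge
  have hK₀c : Nat.card K₀ = V.relIndex K₁ := by
    rw [card_map_subtype]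
    exact Nat.eq_of_mul_eq_mul_left Nat.card_pos
      (hK.card_mul_card.trans (Subgroup.card_mul_index (V.subgroupOf K₁)).symm)
  have hcop₀ : (Nat.card K₀).Coprime (Nat.card V) := hK₀c ▸ hcop.symm
  have hfrat : ∀ (L : Subgroup G), L ≤ K₁ → Nat.card L = Nat.card K₀ →
      ∃ x ∈ V, L = K₀.map (MulAut.conj x).toMonoidHom := fun L hL hc =>
    exists_conj_complement_general V K₀ L (Or.inr hVs) (hnV _) (hsup ▸ hL) hc hcop₀
  have key : ∀ g : G, ∃ n ∈ V, n * g ∈ Subgroup.normalizer (K₀ : Set G) := fun g => by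
    obtain ⟨x, hx, hxe⟩ := hfrat (K₀.map (MulAut.conj g).toMonoidHom)
      (map_conj_le_iff.mpr fun k hk => hKn.conj_mem k (hK₀1 hk) g) (Coprime.card_map_conj _ _)
    refine ⟨x⁻¹, V.inv_mem hx, mem_normalizer_of_conj_mem fun y hy => ?_⟩
    have h1 : g * y * g⁻¹ ∈ K₀.map (MulAut.conj x).toMonoidHom := hxe.le ⟨y, hy, rfl⟩
    rw [map_conj_mem] at h1
    simpa [mul_assoc] using h1
  obtain ⟨x, hx, hxN⟩ := exists_conj_le (N := V) (A := R) (S := Subgroup.normalizer (K₀ : Set G))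
    (hnV _) (Or.inr hVs) hcopR fun a _ => key a
  have hmapV : V.map (MulAut.conj x⁻¹).toMonoidHom = V :=
    Subgroup.mem_normalizer_iff_map_conj_eq.mp (hnV ⊤ (Subgroup.mem_top _))
  have hmapK : K₁.map (MulAut.conj x⁻¹).toMonoidHom = K₁ :=
    Subgroup.mem_normalizer_iff_map_conj_eq.mp
      ((Subgroup.normalizer_eq_top K₁).ge (Subgroup.mem_top _))
  refine ⟨K₀.map (MulAut.conj x⁻¹).toMonoidHom, ?_, ?_, ?_, ?_, ?_⟩
  · conv_lhs => rw [← hmapK, hsup, Subgroup.map_sup, hmapV]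
  · conv_lhs => rw [← hmapV]
    rw [← Subgroup.map_inf _ _ _ (MulAut.conj x⁻¹).injective, Coprime.inf_eq_bot_of_coprime hcop₀,
      Subgroup.map_bot]
  · rw [Coprime.card_map_conj]; exact hcop₀.symm
  · intro a ha
    refine mem_normalizer_of_conj_mem fun y hy => ?_
    rw [map_conj_mem] at hy ⊢
    simp only [inv_inv] at hy ⊢
    have := (Subgroup.mem_normalizer_iff.mp (hxN a ha) _).mp hy
    simpa [mul_assoc] using this
  · intro g
    obtain ⟨n, hn, hng⟩ := key (x * g * x⁻¹)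
    refine ⟨x⁻¹ * n * x, V.mul_mem (V.mul_mem (V.inv_mem hx) hn) hx, mem_normalizer_of_conj_mem fun y hy => ?_⟩
    rw [map_conj_mem] at hy ⊢
    simp only [inv_inv] at hy ⊢
    have := (Subgroup.mem_normalizer_iff.mp hng _).mp hy
    simpa [mul_assoc] using this

/-- The hypotheses carried through the quotients. -/
structure ZAct (r : ℕ) (X R R₀ : Subgroup G) : Prop where
  hr : r.Prime
  hXn : X.Normal
  hR₀R : R₀ ≤ R
  hR₀ : Nat.card R₀ = r
  hcop : (Nat.card R).Coprime (Nat.card X)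
  hfull : ⁅X, R⁆ = X
  hZ : IsZGroup ↥(X ⊓ Subgroup.centralizer (R₀ : Set G))

theorem ZAct.quot {r : ℕ} {X R R₀ : Subgroup G} (h : ZAct r X R R₀) (N : Subgroup G) [N.Normal] (hN : N ≤ X) :
    ZAct r (X.map (QuotientGroup.mk' N)) (R.map (QuotientGroup.mk' N)) (R₀.map (QuotientGroup.mk' N)) := by
  set π := QuotientGroup.mk' N
  have hcop₀ : (Nat.card R₀).Coprime (Nat.card X) := h.hcop.coprime_dvd_left (Subgroup.card_dvd_of_le h.hR₀R)
  refine ⟨h.hr, h.hXn.map π (QuotientGroup.mk'_surjective N), Subgroup.map_mono h.hR₀R, ?_, ?_, ?_, ?_⟩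
  · rw [← Subgroup.relIndex_ker, QuotientGroup.ker_mk', ← Subgroup.inf_relIndex_right,
      le_bot_iff.mp ((inf_le_inf_right R₀ hN).trans (Coprime.inf_eq_bot_of_coprime hcop₀).le),
      Subgroup.relIndex_bot_left, h.hR₀]
  · exact (h.hcop.coprime_dvd_left (Subgroup.card_map_dvd R π)).coprime_dvd_right (Subgroup.card_map_dvd X π)
  · rw [← Subgroup.map_commutator, h.hfull]
  · set C := X ⊓ Subgroup.centralizer (R₀ : Set G)
    let g : C →* ↥(X.map π ⊓ Subgroup.centralizer ((R₀.map π : Subgroup (G ⧸ N)) : Set (G ⧸ N))) :=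
      (π.comp C.subtype).codRestrict _ fun c => ⟨⟨c, c.2.1, rfl⟩, Subgroup.mem_centralizer_iff.mpr (by
        rintro _ ⟨a, ha, rfl⟩
        show π a * π c = π c * π a
        rw [← map_mul, ← map_mul, Subgroup.mem_centralizer_iff.mp c.2.2 a ha])⟩
    haveI := h.hZ
    refine IsZGroup.of_surjective (f := g) ?_
    rintro ⟨y, hy, hyC⟩
    obtain ⟨x, hx, rfl⟩ := hy
    haveI : Group.IsSolvable R₀ := isSolvable_of_prime_card h.hr h.hR₀
    obtain ⟨m, hm, c, hc, rfl⟩ := Coprime.exists_mul_centralizer (N := X) (A := R₀)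
      (le_top.trans (Subgroup.normalizer_eq_top_iff.mpr h.hXn).ge) hcop₀ hN
      (le_top.trans (Subgroup.normalizer_eq_top N).ge) hx (fun a ha => by
        rw [← QuotientGroup.eq_one_iff]
        show π ⁅x, a⁆ = 1
        rw [map_commutatorElement, commutatorElement_eq_one_iff_mul_comm]
        exact (Subgroup.mem_centralizer_iff.mp hyC (π a) ⟨a, ha, rfl⟩).symm)
    refine ⟨⟨c, hc⟩, Subtype.ext ?_⟩
    show π c = π (m * c)
    rw [map_mul, show π m = 1 from (QuotientGroup.eq_one_iff m).mpr hm, one_mul]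

variable [Group.IsSolvable G]

/-- The configuration with a complement fixing no point of `V`. -/
theorem ZAct.not_dvd_of_split (hodd : Odd (Nat.card G)) {p r : ℕ} [hp : Fact p.Prime] {X R R₀ V K₁ : Subgroup G}
    (h : ZAct r X R R₀) [hVn : V.Normal] [K₁.Normal] (hVX : V ≤ X) (hVp : IsPGroup p V)
    (hVe : IsElementaryAbelian p V) (hCV : X ⊓ Subgroup.centralizer (V : Set G) ≤ V)
    (hmax : ∀ M : Subgroup G, M ≤ X → X ≤ Subgroup.normalizer (M : Set G) → IsPGroup p M → M ≤ V)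
    (hVK : V ≤ K₁) (hcop : (Nat.card V).Coprime (V.relIndex K₁))
    (hfix : V ⊓ Subgroup.centralizer (K₁ : Set G) = ⊥) : ¬ p ∣ V.relIndex X := by
  intro hdvd
  haveI := h.hXn
  haveI := hVe.1
  have hpX : p ∣ Nat.card X := hdvd.trans (Subgroup.relIndex_dvd_card V X)
  have hpr : p ≠ r := fun e => hp.out.ne_one (Nat.eq_one_of_dvd_coprimes h.hcop
    (e ▸ h.hR₀ ▸ Subgroup.card_dvd_of_le h.hR₀R) hpX)
  obtain ⟨K₀, hK₁, hVK₀, -, hRK₀, hfrat⟩ := exists_invariant_complement hVK
    (Coprime.isSolvable_of_isPGroup hVp) hcop (h.hcop.coprime_dvd_right (Subgroup.card_dvd_of_le hVX))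
  set L := X ⊓ Subgroup.normalizer (K₀ : Set G)
  have hnV : ∀ H : Subgroup G, H ≤ Subgroup.normalizer (V : Set G) := fun H =>
    le_top.trans (Subgroup.normalizer_eq_top V).ge
  have hXVL : X ≤ V ⊔ L := fun x hx => by
    obtain ⟨n, hn, hnx⟩ := hfrat x
    have hL : n * x ∈ L := Subgroup.mem_inf.mpr ⟨X.mul_mem (hVX hn) hx, hnx⟩
    have h2 : n⁻¹ * (n * x) ∈ V ⊔ L := Subgroup.mul_mem_sup (V.inv_mem hn) hL
    rwa [inv_mul_cancel_left] at h2
  have hVL : V ⊓ L = ⊥ := by
    refine le_bot_iff.mp fun v hv => hfix.le ⟨hv.1, ?_⟩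
    have hle : K₁ ≤ Subgroup.centralizer ({v} : Set G) := by
      rw [hK₁]
      refine sup_le (fun u hu => Subgroup.mem_centralizer_singleton_iff.mpr
        (congrArg (Subtype.val : V → G) (mul_comm' (⟨u, hu⟩ : V) ⟨v, hv.1⟩))) fun k hk => ?_
      have h1 : v * k * v⁻¹ * k⁻¹ ∈ V ⊓ K₀ := ⟨by
        rw [show v * k * v⁻¹ * k⁻¹ = v * (k * v⁻¹ * k⁻¹) by group]
        exact V.mul_mem hv.1 (hVn.conj_mem _ (V.inv_mem hv.1) k),
        K₀.mul_mem ((Subgroup.mem_normalizer_iff.mp hv.2.2 k).mp hk) (K₀.inv_mem hk)⟩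
      rw [hVK₀, Subgroup.mem_bot, mul_inv_eq_one, mul_inv_eq_iff_eq_mul] at h1
      exact Subgroup.mem_centralizer_singleton_iff.mpr h1.symm
    exact Subgroup.mem_centralizer_iff.mpr fun u hu => Subgroup.mem_centralizer_singleton_iff.mp (hle hu)
  have hRL : R ≤ Subgroup.normalizer (L : Set G) :=
    (le_inf (le_top.trans (Subgroup.normalizer_eq_top X).ge) (hRK₀.trans Subgroup.le_normalizer)).trans
      Subgroup.inf_normalizer_le_normalizer_inf
  have hcard : Nat.card L = V.relIndex X := by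
    have h1 := Coprime.card_sup (hnV L) hVL
    rw [le_antisymm (sup_le hVX inf_le_left) hXVL, ← card_mul_relIndex hVX] at h1
    exact (Nat.eq_of_mul_eq_mul_left Nat.card_pos h1).symm
  have hLfull : ⁅L, R⁆ = L := by
    have hle : ⁅L, R⁆ ≤ L := Coprime.commutator_le_of_le_normalizer hRL
    have h1 : X ≤ V ⊔ ⁅L, R⁆ := by
      rw [← h.hfull, Subgroup.commutator_le]
      intro x hx a ha
      obtain ⟨v, hv, l, hl, rfl⟩ := exists_mul_of_mem_sup (hnV L) (hXVL hx)
      rw [show ⁅v * l, a⁆ = v * ⁅l, a⁆ * v⁻¹ * (v * (a * v⁻¹ * a⁻¹)) by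
        simp only [commutatorElement_def]; group]
      exact mul_mem (mul_mem (mul_mem (Subgroup.mem_sup_left hv)
        (Subgroup.mem_sup_right (Subgroup.commutator_mem_commutator hl ha))) (inv_mem (Subgroup.mem_sup_left hv)))
        (Subgroup.mem_sup_left (V.mul_mem hv (hVn.conj_mem _ (V.inv_mem hv) a)))
    refine le_antisymm hle fun l hl => ?_
    obtain ⟨v, hv, m, hm, rfl⟩ := exists_mul_of_mem_sup (hnV _) (h1 hl.1)
    have hv1 : v ∈ V ⊓ L := ⟨hv, by simpa using L.mul_mem hl (L.inv_mem (hle hm))⟩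
    rw [hVL, Subgroup.mem_bot] at hv1
    rwa [hv1, one_mul]
  have hfit : fitPart p L = ⊥ := by
    refine le_bot_iff.mp ((le_inf ?_ (piCoreOf_le _ _)).trans hVL.le)
    refine le_sup_right.trans (hmax (V ⊔ fitPart p L) (sup_le hVX ((piCoreOf_le _ _).trans inf_le_left)) ?_
      (hVp.to_sup_of_normal_left (isPGroup_fitPart hp.out L)))
    refine hXVL.trans (sup_le (le_sup_left.trans Subgroup.le_normalizer) ?_)
    intro l hl
    rw [Subgroup.mem_normalizer_iff_map_conj_eq]
    exact (Subgroup.map_sup V (fitPart p L) (MulAut.conj l).toMonoidHom).trans (congrArg₂ (· ⊔ ·)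
      (Subgroup.mem_normalizer_iff_map_conj_eq.mp (hnV L hl))
      (Subgroup.mem_normalizer_iff_map_conj_eq.mp (le_normalizer_piCoreOf {p} L hl)))
  refine not_dvd_card_of_faithful hodd h.hr hVp hVe (hnV L) (hnV R) hRL h.hR₀R h.hR₀ hpr ?_
    (le_bot_iff.mp ((le_inf ((inf_le_inf_right _ inf_le_left).trans hCV) inf_le_left).trans hVL.le))
    hLfull hfit ?_ (hcard ▸ hdvd)
  · exact (h.hR₀ ▸ h.hcop.coprime_dvd_left (Subgroup.card_dvd_of_le h.hR₀R)).coprime_dvd_right
      (Subgroup.card_dvd_of_le inf_le_left)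
  · haveI := h.hZ
    exact IsZGroup.of_injective (Subgroup.inclusion_injective (inf_le_inf_right _ (sup_le hVX inf_le_left) :
      (V ⊔ L) ⊓ Subgroup.centralizer (R₀ : Set G) ≤ X ⊓ Subgroup.centralizer (R₀ : Set G)))

/-- The configuration with an elementary abelian self-centralizing `O_p`. -/
theorem ZAct.not_dvd_of_elementary (hodd : Odd (Nat.card G)) {p r : ℕ} [hp : Fact p.Prime]
    {X R R₀ V : Subgroup G} (h : ZAct r X R R₀) [hVn : V.Normal] (hVX : V ≤ X) (hVp : IsPGroup p V)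
    (hVe : IsElementaryAbelian p V) (hCV : X ⊓ Subgroup.centralizer (V : Set G) ≤ V)
    (hmax : ∀ M : Subgroup G, M ≤ X → X ≤ Subgroup.normalizer (M : Set G) → IsPGroup p M → M ≤ V) :
    ¬ p ∣ V.relIndex X := by
  haveI := hVe.1
  set π₂ := QuotientGroup.mk' V
  set Xb := X.map π₂
  have hXbn : Xb.Normal := h.hXn.map π₂ (QuotientGroup.mk'_surjective V)
  set Kb := piCoreOf ({p}ᶜ : Set ℕ) Xb
  haveI hKbn : Kb.Normal := normal_piCoreOf _ hXbn
  set K₁ := Kb.comap π₂
  have hKbp : ¬ p ∣ Nat.card Kb := not_dvd_of_isPiNat_compl hp.out (isPiNat_piCoreOf _ _)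
  have hK₁X : K₁ ≤ X := (Subgroup.comap_mono (piCoreOf_le _ _)).trans (pow_sup_comap hVX).le
  have hVK : V ≤ K₁ := (QuotientGroup.ker_mk' V).ge.trans (MonoidHom.ker_le_comap _ _)
  have hK₁r : V.relIndex K₁ = Nat.card Kb := by
    have e := Subgroup.relIndex_ker π₂ (K := K₁)
    rwa [QuotientGroup.ker_mk', Subgroup.map_comap_eq_self_of_surjective (QuotientGroup.mk'_surjective V)] at e
  have hcop : (Nat.card V).Coprime (V.relIndex K₁) := by
    obtain ⟨k, hk⟩ := IsPGroup.iff_card.mp hVp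
    rw [hk, hK₁r]
    exact (hp.out.coprime_iff_not_dvd.mpr hKbp).pow_left k
  haveI : K₁.Normal := hKbn.comap π₂
  obtain ⟨K₀, hK₁, hVK₀, hcop₀, -, -⟩ := exists_invariant_complement (R := ⊥) hVK
    (Coprime.isSolvable_of_isPGroup hVp) hcop (by rw [Subgroup.card_bot]; exact Nat.coprime_one_left _)
  haveI : (Subgroup.centralizer (K₁ : Set G)).Normal := Subgroup.normal_centralizer
  set N := V ⊓ Subgroup.centralizer (K₁ : Set G)
  haveI hNn : N.Normal := inferInstance
  set π := QuotientGroup.mk' N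
  have hNV : N ≤ V := inf_le_left
  have hNX : N ≤ X := hNV.trans hVX
  haveI hV3n : (V.map π).Normal := hVn.map π (QuotientGroup.mk'_surjective N)
  haveI : (K₁.map π).Normal := Subgroup.Normal.map inferInstance π (QuotientGroup.mk'_surjective N)
  have hrel : ∀ Y : Subgroup G, V ≤ Y → (V.map π).relIndex (Y.map π) = V.relIndex Y := fun Y hY => by
    rw [Subgroup.relIndex_map_map, QuotientGroup.ker_mk', sup_of_le_left hNV, sup_of_le_left (hNV.trans hY)]
  haveI : IsMulCommutative ↥(V.map π) := ⟨⟨by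
    rintro ⟨_, a, ha, rfl⟩ ⟨_, b, hb, rfl⟩
    exact Subtype.ext (show π a * π b = π b * π a by
      have hab : a * b = b * a :=
        congrArg (Subtype.val : V → G) (mul_comm' (⟨a, ha⟩ : V) ⟨b, hb⟩)
      rw [← map_mul, ← map_mul, hab])⟩⟩
  rw [← hrel X hVX]
  refine (h.quot N hNX).not_dvd_of_split (hodd.of_dvd_nat (Subgroup.card_quotient_dvd_card N))
    (K₁ := K₁.map π) (Subgroup.map_mono hVX) (hVp.map π) ⟨inferInstance, ?_⟩ ?_ ?_ (Subgroup.map_mono hVK) ?_ ?_
  · rintro _ ⟨a, ha, rfl⟩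
    rw [← map_pow, hVe.2 a ha, map_one]
  · -- faithfulness modulo `N`
    rintro _ ⟨⟨x, hx, rfl⟩, hxC⟩
    set Cc := X ⊓ (Subgroup.centralizer ((V.map π : Subgroup (G ⧸ N)) : Set (G ⧸ N))).comap π
    refine Subgroup.mem_map_of_mem π ((show Cc ≤ V from ?_) ⟨hx, hxC⟩)
    haveI := h.hXn
    haveI : ((Subgroup.centralizer ((V.map π : Subgroup (G ⧸ N)) : Set (G ⧸ N))).comap π).Normal :=
      Subgroup.Normal.comap Subgroup.normal_centralizer π
    have hCcn : Cc.Normal := inferInstance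
    have hVC : V ≤ Cc := le_inf hVX fun v hv => Subgroup.mem_centralizer_iff.mpr fun y hy =>
      congrArg (Subtype.val : ↥(V.map π) → G ⧸ N) (mul_comm' (⟨y, hy⟩ : ↥(V.map π)) ⟨π v, ⟨v, hv, rfl⟩⟩)
    set Cb := Cc.map π₂
    have hCbn : Cb.Normal := hCcn.map π₂ (QuotientGroup.mk'_surjective V)
    have hCbX : Cb ≤ Xb := Subgroup.map_mono inf_le_left
    have hF : fittingOf Cb = ⊥ := by
      refine le_bot_iff.mp (fittingOf_le_iff.mpr fun q hq => ?_)
      haveI hfn : (fitPart q Cb).Normal := normal_piCoreOf _ hCbn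
      by_cases hqp : q = p
      · subst hqp
        intro y hy
        obtain ⟨m, rfl⟩ := QuotientGroup.mk'_surjective V y
        have h1 : m ∈ V := hmax ((fitPart q Cb).comap π₂)
          ((Subgroup.comap_mono ((piCoreOf_le _ _).trans hCbX)).trans (pow_sup_comap hVX).le)
          (le_top.trans (Subgroup.normalizer_eq_top_iff.mpr (hfn.comap π₂)).ge)
          (isPGroup_comap_mk hVp (isPGroup_fitPart hq Cb)) hy
        exact Subgroup.mem_bot.mpr ((QuotientGroup.eq_one_iff m).mpr h1)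
      · intro y hy
        have hyK : y ∈ Kb := le_piCoreOf ((piCoreOf_le _ _).trans hCbX)
          (le_top.trans (Subgroup.normalizer_eq_top (fitPart q Cb)).ge)
          ((isPiNat_compl_singleton_iff_coprime hp.out).mpr (by
            haveI := Fact.mk hq
            obtain ⟨k, hk⟩ := IsPGroup.iff_card.mp (isPGroup_fitPart hq Cb)
            rw [hk]; exact ((Nat.coprime_primes hq hp.out).mpr hqp).pow_left k)) hy
        obtain ⟨k, hk, rfl⟩ := piCoreOf_le _ _ hy
        have hkK : k ∈ V ⊔ K₀ := hK₁.le hyK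
        obtain ⟨v, hv, k₀, hk₀, rfl⟩ := Subgroup.mem_sup_of_normal_left.mp hkK
        have hk₀C : k₀ ∈ Cc := by simpa using Cc.mul_mem (Cc.inv_mem (hVC hv)) hk
        have hk₀1 : k₀ ∈ K₁ := hK₁.ge (Subgroup.mem_sup_right hk₀)
        have hcz : (Nat.card (Subgroup.zpowers k₀)).Coprime (Nat.card V) :=
          hcop₀.symm.coprime_dvd_left (Subgroup.card_dvd_of_le (Subgroup.zpowers_le.mpr hk₀))
        have hk₀V : k₀ ∈ X ⊓ Subgroup.centralizer (V : Set G) := by
          refine ⟨hk₀C.1, Subgroup.mem_centralizer_iff.mpr fun u hu => ?_⟩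
          obtain ⟨m, hm, c, hc, rfl⟩ := Coprime.exists_mul_centralizer (N := V) (M := N)
            (le_top.trans (Subgroup.normalizer_eq_top V).ge) hcz hNV
            (le_top.trans (Subgroup.normalizer_eq_top N).ge) hu (fun a ha => by
              rw [← QuotientGroup.eq_one_iff]
              show π ⁅u, a⁆ = 1
              rw [map_commutatorElement, commutatorElement_eq_one_iff_mul_comm]
              exact Subgroup.mem_centralizer_iff.mp (Subgroup.zpowers_le.mpr hk₀C ha).2 (π u) ⟨u, hu, rfl⟩)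
          have h1 : m * k₀ = k₀ * m := (Subgroup.mem_centralizer_iff.mp hm.2 k₀ hk₀1).symm
          have h2 : c * k₀ = k₀ * c := (Subgroup.mem_centralizer_iff.mp hc.2 k₀ (Subgroup.mem_zpowers k₀)).symm
          rw [mul_assoc, h2, ← mul_assoc, h1, mul_assoc]
        have hk₀b : k₀ ∈ V ⊓ K₀ := ⟨hCV hk₀V, hk₀⟩
        rw [hVK₀, Subgroup.mem_bot] at hk₀b
        rw [hk₀b, mul_one]
        exact Subgroup.mem_bot.mpr ((QuotientGroup.eq_one_iff v).mpr hv)
    have hCb : Cb = ⊥ := le_bot_iff.mp ((le_inf le_rfl ?_).trans ((centralizer_fittingOf_le Cb).trans hF.le))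
    · exact (Subgroup.map_eq_bot_iff Cc).mp hCb |>.trans (QuotientGroup.ker_mk' V).le
    · intro y _
      rw [hF]
      exact Subgroup.mem_centralizer_iff.mpr fun z hz => by
        rw [SetLike.mem_coe, Subgroup.mem_bot] at hz; simp [hz]
  · intro M hM hMn hMp
    have h1 : M.comap π ≤ V := hmax (M.comap π) ((Subgroup.comap_mono hM).trans (pow_sup_comap hNX).le)
      (fun x hx => Subgroup.le_normalizer_comap π (hMn ⟨x, hx, rfl⟩)) (isPGroup_comap_mk (hVp.to_le hNV) hMp)
    rw [← Subgroup.map_comap_eq_self_of_surjective (QuotientGroup.mk'_surjective N) M]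
    exact Subgroup.map_mono h1
  · rw [hrel K₁ hVK]
    exact hcop.coprime_dvd_left (Subgroup.card_map_dvd V π)
  · -- no fixed point of `K₁` remains
    rw [eq_bot_iff]
    rintro _ ⟨⟨u, hu, rfl⟩, huC⟩
    haveI : Group.IsSolvable K₀ := inferInstance
    obtain ⟨m, hm, c, hc, rfl⟩ := Coprime.exists_mul_centralizer (N := V) (M := N) (A := K₀)
      (le_top.trans (Subgroup.normalizer_eq_top V).ge) hcop₀.symm hNV
      (le_top.trans (Subgroup.normalizer_eq_top N).ge) hu (fun a ha => by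
        rw [← QuotientGroup.eq_one_iff]
        show π ⁅u, a⁆ = 1
        rw [map_commutatorElement, commutatorElement_eq_one_iff_mul_comm]
        exact (Subgroup.mem_centralizer_iff.mp huC (π a) ⟨a, hK₁.ge (Subgroup.mem_sup_right ha), rfl⟩).symm)
    refine Subgroup.mem_bot.mpr ((QuotientGroup.eq_one_iff _).mpr (N.mul_mem hm ⟨hc.1, ?_⟩))
    refine Subgroup.mem_centralizer_iff.mpr fun k hk => ?_
    have hle : K₁ ≤ Subgroup.centralizer ({c} : Set G) := hK₁.le.trans (sup_le
      (fun w hw => Subgroup.mem_centralizer_singleton_iff.mpr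
        (congrArg (Subtype.val : V → G) (mul_comm' (⟨w, hw⟩ : V) ⟨c, hc.1⟩)))
      fun w hw => Subgroup.mem_centralizer_singleton_iff.mpr (Subgroup.mem_centralizer_iff.mp hc.2 w hw))
    exact Subgroup.mem_centralizer_singleton_iff.mp (hle hk)

/-- The configuration with a self-centralizing `O_p`. -/
theorem ZAct.not_dvd_of_pGroup (hodd : Odd (Nat.card G)) {p r : ℕ} [hp : Fact p.Prime]
    {X R R₀ P : Subgroup G} (h : ZAct r X R R₀) [hPn : P.Normal] (hPX : P ≤ X) (hPp : IsPGroup p P)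
    (hCP : X ⊓ Subgroup.centralizer (P : Set G) ≤ P)
    (hmax : ∀ M : Subgroup G, M ≤ X → X ≤ Subgroup.normalizer (M : Set G) → IsPGroup p M → M ≤ P) :
    ¬ p ∣ P.relIndex X := by
  set Φ := (frattini P).map P.subtype
  haveI hΦn : Φ.Normal := normal_map_subtype_of_characteristic _
  have hΦP : Φ ≤ P := Subgroup.map_subtype_le _
  have hΦX : Φ ≤ X := hΦP.trans hPX
  set π := QuotientGroup.mk' Φ
  haveI : (P.map π).Normal := hPn.map π (QuotientGroup.mk'_surjective Φ)
  haveI hc : IsMulCommutative ↥(P.map π) := ⟨⟨by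
    rintro ⟨_, a, ha, rfl⟩ ⟨_, b, hb, rfl⟩
    refine Subtype.ext (show π a * π b = π b * π a from commutatorElement_eq_one_iff_mul_comm.mp ?_)
    rw [← map_commutatorElement]
    exact (QuotientGroup.eq_one_iff _).mpr ⟨⁅(⟨a, ha⟩ : P), ⟨b, hb⟩⁆,
      FGS3.commutator_le_frattini hPp (Subgroup.commutator_mem_commutator (Subgroup.mem_top _) (Subgroup.mem_top _)),
      map_commutatorElement P.subtype _ _⟩⟩⟩
  have hrel : (P.map π).relIndex (X.map π) = P.relIndex X := by
    rw [Subgroup.relIndex_map_map, QuotientGroup.ker_mk', sup_of_le_left hΦP, sup_of_le_left hΦX]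
  rw [← hrel]
  refine (h.quot Φ hΦX).not_dvd_of_elementary (hodd.of_dvd_nat (Subgroup.card_quotient_dvd_card Φ))
    (Subgroup.map_mono hPX) (hPp.map π) ⟨hc, ?_⟩ ?_ ?_
  · rintro _ ⟨a, ha, rfl⟩
    rw [← map_pow]
    exact (QuotientGroup.eq_one_iff _).mpr ⟨(⟨a, ha⟩ : P) ^ p, FGS3.pow_mem_frattini hPp _, rfl⟩
  · rintro _ ⟨⟨x, hx, rfl⟩, hxC⟩
    set Cc := X ⊓ (Subgroup.centralizer ((P.map π : Subgroup (G ⧸ Φ)) : Set (G ⧸ Φ))).comap π
    haveI := h.hXn
    haveI : ((Subgroup.centralizer ((P.map π : Subgroup (G ⧸ Φ)) : Set (G ⧸ Φ))).comap π).Normal :=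
      Subgroup.Normal.comap Subgroup.normal_centralizer π
    have hCcp : IsPGroup p Cc := by
      intro ⟨c, hc⟩
      obtain ⟨k, m, hm, hkm⟩ := Nat.exists_eq_pow_mul_and_not_dvd (orderOf_pos c).ne' p hp.out.ne_one
      refine ⟨k + (Nat.card P).factorization p, Subtype.ext ?_⟩
      have hy : c ^ p ^ k ∈ Cc := Cc.pow_mem hc _
      have hord : (orderOf (c ^ p ^ k)).Coprime p := by
        refine Nat.Coprime.coprime_dvd_left (orderOf_dvd_of_pow_eq_one (n := m) ?_) ?_
        · rw [← pow_mul, ← hkm, pow_orderOf_eq_one]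
        · exact (hp.out.coprime_iff_not_dvd.mpr hm).symm
      have hyP : c ^ p ^ k ∈ P := hCP ⟨hy.1, FGS3.mem_centralizer_of_frattini hPp
        ((Subgroup.normalizer_eq_top P).ge (Subgroup.mem_top _)) hord fun z hz => by
          refine (QuotientGroup.eq_one_iff (N := Φ) _).mp ?_
          show π (c ^ p ^ k * z * (c ^ p ^ k)⁻¹ * z⁻¹) = 1
          have h1 := Subgroup.mem_centralizer_iff.mp hy.2 (π z) ⟨z, hz, rfl⟩
          rw [map_mul, map_mul, map_mul, ← h1, map_inv, map_inv, mul_inv_cancel_right, mul_inv_cancel]⟩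
      obtain ⟨j, hj⟩ := IsPGroup.iff_card.mp hPp
      rw [SubgroupClass.coe_pow, pow_add, pow_mul, OneMemClass.coe_one, hj, Nat.factorization_pow_self hp.out]
      exact orderOf_dvd_iff_pow_eq_one.mp (hj ▸ Subgroup.orderOf_dvd_natCard P hyP)
    exact Subgroup.mem_map_of_mem π (hmax Cc inf_le_left
      (le_top.trans (Subgroup.normalizer_eq_top_iff.mpr inferInstance).ge) hCcp ⟨hx, hxC⟩)
  · intro M hM hMn hMp
    have h1 : M.comap π ≤ P := hmax (M.comap π) ((Subgroup.comap_mono hM).trans (pow_sup_comap hΦX).le)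
      (fun x hx => Subgroup.le_normalizer_comap π (hMn ⟨x, hx, rfl⟩)) (isPGroup_comap_mk (hPp.to_le hΦP) hMp)
    rw [← Subgroup.map_comap_eq_self_of_surjective (QuotientGroup.mk'_surjective Φ) M]
    exact Subgroup.map_mono h1

theorem ZAct.pLengthLE_one (hodd : Odd (Nat.card G)) {p r : ℕ} [hp : Fact p.Prime] {X R R₀ : Subgroup G}
    (h : ZAct r X R R₀) : PLengthLE p 1 X := by
  set A := piCoreOf ({p}ᶜ : Set ℕ) X
  haveI hAn : A.Normal := normal_piCoreOf _ h.hXn
  have hAX : A ≤ X := piCoreOf_le _ _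
  have hAp : ¬ p ∣ Nat.card A := not_dvd_of_isPiNat_compl hp.out (isPiNat_piCoreOf _ _)
  set π := QuotientGroup.mk' A
  set Xb := X.map π
  have hXbn : Xb.Normal := h.hXn.map π (QuotientGroup.mk'_surjective A)
  -- no normal `p'`-subgroup is left
  have hcore : piCoreOf ({p}ᶜ : Set ℕ) Xb = ⊥ := by
    set D := piCoreOf ({p}ᶜ : Set ℕ) Xb
    haveI hDn : D.Normal := normal_piCoreOf _ hXbn
    have hle : D.comap π ≤ A := le_piCoreOf
      ((Subgroup.comap_mono (piCoreOf_le _ _)).trans (pow_sup_comap hAX).le)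
      (le_top.trans (Subgroup.normalizer_eq_top_iff.mpr (hDn.comap π)).ge)
      (by
        rw [card_comap_mk]
        exact (isPiNat_compl_singleton_iff_coprime hp.out).mpr (Nat.Coprime.mul_left
          ((isPiNat_compl_singleton_iff_coprime hp.out).mp (isPiNat_piCoreOf _ _))
          ((isPiNat_compl_singleton_iff_coprime hp.out).mp (isPiNat_piCoreOf _ _))))
    have h1 := Subgroup.map_mono (f := π) hle
    rw [Subgroup.map_comap_eq_self_of_surjective (QuotientGroup.mk'_surjective A)] at h1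
    exact le_bot_iff.mp (h1.trans ((Subgroup.map_eq_bot_iff A).mpr (QuotientGroup.ker_mk' A).ge).le)
  set P := fitPart p Xb
  haveI hPn : P.Normal := normal_piCoreOf _ hXbn
  have hPp : IsPGroup p P := isPGroup_fitPart hp.out Xb
  have hFP : fittingOf Xb ≤ P := fittingOf_le_iff.mpr fun q hq => by
    by_cases hqp : q = p
    · rw [hqp]
    · exact (fitPart_le_piCoreOf_compl hp.out hq hqp Xb).trans (hcore.le.trans bot_le)
  have hkey : ¬ p ∣ P.relIndex Xb := (h.quot A hAX).not_dvd_of_pGroup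
    (hodd.of_dvd_nat (Subgroup.card_quotient_dvd_card A)) (piCoreOf_le _ _) hPp
    ((inf_le_inf_left _ (Subgroup.centralizer_le hFP)).trans ((centralizer_fittingOf_le Xb).trans hFP))
    fun M hM hMn hMp => le_piCoreOf hM hMn (isPGroup_iff_isPiNat.mp hMp)
  rw [pLengthLE_one_iff]
  set P₀ := P.comap π
  have hP₀X : P₀ ≤ X := (Subgroup.comap_mono (piCoreOf_le _ _)).trans (pow_sup_comap hAX).le
  haveI : P₀.Normal := hPn.comap π
  have hAcore : A.subgroupOf X ≤ pPrimeCore p X := le_pPrimeCore inferInstance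
    (by rw [card_subgroupOf hAX]; exact (hp.out.coprime_iff_not_dvd.mpr hAp).symm)
  have hle : P₀.subgroupOf X ≤ pPrimePCore p X := le_pPrimePCore_of_isPGroup inferInstance (by
    rintro ⟨_, y, hy, rfl⟩
    obtain ⟨k, hk⟩ := hPp ⟨π y, Subgroup.mem_subgroupOf.mp hy⟩
    refine ⟨k, Subtype.ext ?_⟩
    show (QuotientGroup.mk' (pPrimeCore p X) y) ^ p ^ k = 1
    rw [← map_pow]
    refine (QuotientGroup.eq_one_iff _).mpr (hAcore (Subgroup.mem_subgroupOf.mpr ?_))
    refine (QuotientGroup.eq_one_iff (N := A) _).mp ?_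
    show π ((y : G) ^ p ^ k) = 1
    rw [map_pow]
    exact congrArg (Subtype.val : P → G ⧸ A) hk)
  have hrel : (P₀.subgroupOf X).index = P.relIndex Xb := by
    show P₀.relIndex X = _
    rw [← pow_sup_comap hAX, Subgroup.relIndex_comap,
      Subgroup.map_comap_eq_self_of_surjective (QuotientGroup.mk'_surjective A)]
  exact (hp.out.coprime_iff_not_dvd.mpr fun hd => hkey (hrel ▸ hd.trans (Subgroup.index_dvd_of_le hle))).symm

end ZGroupFixed

/-- **Z-group fixed points**: if `R₀ ≤ R` has prime order, `R` is a complement of the normal Hall subgroup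
`H` of a group of odd order and `C_H(R₀)` is a Z-group, then `[H,R]` has `p`-length at most one. -/
theorem pLengthLE_commutator_of_zgroup [Group.IsSolvable G] (hodd : Odd (Nat.card G)) (H R R₀ : Subgroup G)
    [H.Normal] (hHall : (Nat.card H).Coprime H.index) (hR : Subgroup.IsComplement' H R) (hR₀ : R₀ ≤ R)
    (hR₀p : (Nat.card R₀).Prime) (hZ : IsZGroup ↥(H ⊓ Subgroup.centralizer (R₀ : Set G)))
    (p : ℕ) [Fact p.Prime] : PLengthLE p 1 ↥⁅H, R⁆ := by
  have hRH : R ≤ Subgroup.normalizer (H : Set G) := le_top.trans (Subgroup.normalizer_eq_top H).ge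
  have hXH : ⁅H, R⁆ ≤ H := Coprime.commutator_le_of_le_normalizer hRH
  have hcard : Nat.card R = H.index := Nat.eq_of_mul_eq_mul_left Nat.card_pos
    (hR.card_mul_card.trans (Subgroup.card_mul_index H).symm)
  have hcop : (Nat.card R).Coprime (Nat.card H) := hcard ▸ hHall.symm
  refine ZGroupFixed.ZAct.pLengthLE_one hodd (R := R) (R₀ := R₀) (r := Nat.card R₀)
    ⟨hR₀p, ?_, hR₀, rfl, hcop.coprime_dvd_right (Subgroup.card_dvd_of_le hXH),
      Coprime.commutator_commutator_eq hRH hcop, ?_⟩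
  · exact Subgroup.normalizer_eq_top_iff.mp (top_le_iff.mp (hR.sup_eq_top.ge.trans
      (sup_le (Subgroup.normalizer_commutator_ge_left H R) (Subgroup.normalizer_commutator_ge_right H R))))
  · haveI := hZ
    exact IsZGroup.of_injective (Subgroup.inclusion_injective (inf_le_inf_right _ hXH :
      ⁅H, R⁆ ⊓ Subgroup.centralizer (R₀ : Set G) ≤ H ⊓ Subgroup.centralizer (R₀ : Set G)))

end Cfsg.Agent.Core.BG
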